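import Mathlib
import Cfsg.Prelude.Def_PLocal
import Cfsg.Agent.Lib.Helper19.ThompsonRepl

set_option autoImplicit false

/-!
The abelian-version Thompson subgroup `J(P)` of a subgroup `P ≤ G` (generated by the abelian
subgroups of `P` of largest order), described inside the ambient group, and a corollary of
Thompson's replacement theorem.
-/

namespace Cfsg.Agent.Lib.Helper17

open Cfsg

universe u

section MaxAb

variable {G : Type u} [Group G]

/-- The abelian subgroups of `P` of largest order, as subgroups of the ambient group. -/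
def maxAb (P : Subgroup G) : Set (Subgroup G) :=
  {A | A ≤ P ∧ (∀ a ∈ A, ∀ b ∈ A, a * b = b * a) ∧
    ∀ B : Subgroup G, B ≤ P → (∀ a ∈ B, ∀ b ∈ B, a * b = b * a) → Nat.card B ≤ Nat.card A}

theorem comm_of_imc {A : Subgroup G} (h : IsMulCommutative A) :
    ∀ a ∈ A, ∀ b ∈ A, a * b = b * a := by
  have h1 := Subgroup.le_centralizer_iff_isMulCommutative.mpr h
  intro a ha b hb
  exact (Subgroup.mem_centralizer_iff.mp (h1 hb) a ha)

theorem imc_of_comm {A : Subgroup G} (h : ∀ a ∈ A, ∀ b ∈ A, a * b = b * a) :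
    IsMulCommutative A :=
  ⟨⟨fun a b => Subtype.ext (h a a.2 b b.2)⟩⟩

theorem card_lt_of_lt' [Finite G] {A B : Subgroup G} (h : A < B) : Nat.card A < Nat.card B :=
  Set.Finite.card_lt_card (Set.toFinite (B : Set G)) (SetLike.coe_ssubset_coe.mpr h)

theorem map_subtype_mem_maxAb (P : Subgroup G) {A' : Subgroup P}
    (h : A' ∈ maxAbelianSubgroups P) : A'.map P.subtype ∈ maxAb P := by
  obtain ⟨hc, hmax⟩ := h
  refine ⟨Subgroup.map_subtype_le A', ?_, ?_⟩
  · rintro _ ⟨a, ha, rfl⟩ _ ⟨b, hb, rfl⟩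
    exact congrArg Subtype.val (comm_of_imc hc a ha b hb)
  · intro B hBP hBc
    have hBc' : IsMulCommutative (B.subgroupOf P) := by
      apply imc_of_comm
      intro a ha b hb
      apply Subtype.ext
      exact hBc a.1 (Subgroup.mem_subgroupOf.mp ha) b.1 (Subgroup.mem_subgroupOf.mp hb)
    have h1 := hmax (B.subgroupOf P) hBc'
    rw [Subgroup.card_subtype, ← Nat.card_congr (Subgroup.subgroupOfEquivOfLe hBP).toEquiv]
    exact h1

theorem subgroupOf_mem_maxAbelian (P : Subgroup G) {A : Subgroup G} (h : A ∈ maxAb P) :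
    A.subgroupOf P ∈ maxAbelianSubgroups P := by
  obtain ⟨hAP, hc, hmax⟩ := h
  refine ⟨imc_of_comm ?_, ?_⟩
  · intro a ha b hb
    apply Subtype.ext
    exact hc a.1 (Subgroup.mem_subgroupOf.mp ha) b.1 (Subgroup.mem_subgroupOf.mp hb)
  · intro B' hB'
    have hc' : ∀ a ∈ B'.map P.subtype, ∀ b ∈ B'.map P.subtype, a * b = b * a := by
      rintro _ ⟨a, ha, rfl⟩ _ ⟨b, hb, rfl⟩
      exact congrArg Subtype.val (comm_of_imc hB' a ha b hb)
    have h1 := hmax (B'.map P.subtype) (Subgroup.map_subtype_le B') hc'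
    rw [Subgroup.card_subtype] at h1
    rw [Nat.card_congr (Subgroup.subgroupOfEquivOfLe hAP).toEquiv]
    exact h1

theorem thompsonSubgroupAOf_eq_sSup (P : Subgroup G) :
    thompsonSubgroupAOf P = sSup (maxAb P) := by
  unfold thompsonSubgroupAOf thompsonSubgroupA
  apply le_antisymm
  · rw [Subgroup.map_le_iff_le_comap]
    apply sSup_le
    intro A' hA'
    rw [← Subgroup.map_le_iff_le_comap]
    exact le_sSup (map_subtype_mem_maxAb P hA')
  · apply sSup_le
    intro A hA
    have h1 := subgroupOf_mem_maxAbelian P hA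
    have h2 : A = (A.subgroupOf P).map P.subtype := by
      rw [Subgroup.subgroupOf_map_subtype, inf_of_le_left hA.1]
    rw [h2]
    exact Subgroup.map_mono (le_sSup h1)

theorem maxAb_nonempty [Finite G] (P : Subgroup G) : (maxAb P).Nonempty := by
  obtain ⟨A', hA'⟩ := Cfsg.Agent.Lib.Helper19.exists_maxAbelian (G := P)
  exact ⟨_, map_subtype_mem_maxAb P hA'⟩

theorem le_thompsonSubgroupAOf {P A : Subgroup G} (h : A ∈ maxAb P) :
    A ≤ thompsonSubgroupAOf P := by
  rw [thompsonSubgroupAOf_eq_sSup]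
  exact le_sSup h

theorem thompsonSubgroupAOf_le (P : Subgroup G) : thompsonSubgroupAOf P ≤ P :=
  Subgroup.map_subtype_le _

/-- If all abelian subgroups of largest order of `P` lie in `H ≤ P`, then `J(P) = J(H)`. -/
theorem thompsonSubgroupAOf_eq_of_le [Finite G] {P H : Subgroup G} (hHP : H ≤ P)
    (h : ∀ A ∈ maxAb P, A ≤ H) : thompsonSubgroupAOf P = thompsonSubgroupAOf H := by
  have hsub : maxAb P = maxAb H := by
    ext A
    constructor
    · intro hA
      exact ⟨h A hA, hA.2.1, fun B hB hBc => hA.2.2 B (hB.trans hHP) hBc⟩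
    · intro hA
      obtain ⟨A₀, hA₀⟩ := maxAb_nonempty P
      have h1 : Nat.card A₀ ≤ Nat.card A := hA.2.2 A₀ (h A₀ hA₀) hA₀.2.1
      exact ⟨hA.1.trans hHP, hA.2.1, fun B hB hBc => (hA₀.2.2 B hB hBc).trans h1⟩
  rw [thompsonSubgroupAOf_eq_sSup, thompsonSubgroupAOf_eq_sSup, hsub]

theorem thompsonSubgroupAOf_ne_bot [Finite G] {S : Subgroup G} (hS1 : S ≠ ⊥) :
    thompsonSubgroupAOf S ≠ ⊥ := by
  intro hJ
  obtain ⟨A, hA⟩ := maxAb_nonempty S
  have hA1 : A = ⊥ := le_bot_iff.mp (hJ ▸ le_thompsonSubgroupAOf hA)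
  obtain ⟨x, hxS, hx1⟩ : ∃ x ∈ S, x ≠ 1 := by
    by_contra hcon
    push Not at hcon
    apply hS1
    rw [eq_bot_iff]
    intro x hx
    exact Subgroup.mem_bot.mpr (hcon x hx)
  have hz : ∀ a ∈ Subgroup.zpowers x, ∀ b ∈ Subgroup.zpowers x, a * b = b * a := by
    intro a ha b hb
    exact (Subgroup.mem_centralizer_iff.mp
      (Cfsg.Agent.Lib.Helper19.zpowers_le_centralizer_zpowers x hb) a ha)
  have h1 := hA.2.2 (Subgroup.zpowers x) ((Subgroup.zpowers_le).mpr hxS) hz
  rw [hA1, Subgroup.card_bot] at h1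
  have h2 : Subgroup.zpowers x = ⊥ := Subgroup.eq_bot_of_card_le _ h1
  exact hx1 (Subgroup.zpowers_eq_bot.mp h2)

end MaxAb

section Maps

/-- An isomorphism carries abelian subgroups of largest order to such subgroups. -/
theorem map_mem_maxAbelianSubgroups {S S' : Type u} [Group S] [Group S'] (e : S ≃* S')
    {A : Subgroup S} (hA : A ∈ maxAbelianSubgroups S) :
    A.map e.toMonoidHom ∈ maxAbelianSubgroups S' := by
  obtain ⟨hA1, hA2⟩ := hA
  refine ⟨inferInstance, ?_⟩
  intro B hB
  have h1 := hA2 (B.map e.symm.toMonoidHom) inferInstance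
  rw [Subgroup.card_map_of_injective e.symm.injective] at h1
  rw [Subgroup.card_map_of_injective e.injective]
  exact h1

theorem thompsonSubgroupA_map_equiv {S S' : Type u} [Group S] [Group S'] (e : S ≃* S') :
    (thompsonSubgroupA S).map e.toMonoidHom = thompsonSubgroupA S' := by
  apply le_antisymm
  · rw [Subgroup.map_le_iff_le_comap]
    apply sSup_le
    intro A hA
    rw [← Subgroup.map_le_iff_le_comap]
    exact le_sSup (map_mem_maxAbelianSubgroups e hA)
  · apply sSup_le
    intro B hB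
    have h1 := map_mem_maxAbelianSubgroups e.symm hB
    have h2 : B = (B.map e.symm.toMonoidHom).map e.toMonoidHom := by
      rw [Subgroup.map_map]
      have : e.toMonoidHom.comp e.symm.toMonoidHom = MonoidHom.id S' := by
        ext x; simp
      rw [this, Subgroup.map_id]
    rw [h2]
    exact Subgroup.map_mono (le_sSup h1)

variable {G : Type u} [Group G]

theorem thompsonSubgroupAOf_map_of_injOn {G' : Type u} [Group G'] (f : G →* G')
    (S : Subgroup G) (hS : ∀ x ∈ S, f x = 1 → x = 1) :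
    thompsonSubgroupAOf (S.map f) = (thompsonSubgroupAOf S).map f := by
  have hinj : Function.Injective (f.subgroupMap S) := by
    rw [injective_iff_map_eq_one]
    intro x hx
    have h1 : f (x : G) = 1 := congrArg Subtype.val hx
    exact Subtype.ext (hS x x.2 h1)
  obtain ⟨e, he⟩ : ∃ e : ↥S ≃* ↥(S.map f), ∀ x, e x = f.subgroupMap S x :=
    ⟨MulEquiv.ofBijective (f.subgroupMap S) ⟨hinj, f.subgroupMap_surjective S⟩, fun _ => rfl⟩
  unfold thompsonSubgroupAOf
  rw [← thompsonSubgroupA_map_equiv e, Subgroup.map_map, Subgroup.map_map]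
  congr 1
  ext x
  simp only [MonoidHom.comp_apply, MulEquiv.toMonoidHom_eq_coe, MonoidHom.coe_coe, he]
  rfl

theorem thompsonSubgroupAOf_eq_of_eq_map {G' : Type u} [Group G'] (f : G →* G')
    (hf : Function.Injective f) (S : Subgroup G) (T : Subgroup G') (hT : T = S.map f) :
    thompsonSubgroupAOf T = (thompsonSubgroupAOf S).map f := by
  subst hT
  exact thompsonSubgroupAOf_map_of_injOn f S
    (fun x _ hx => hf (hx.trans (map_one f).symm))

theorem normalizer_le_normalizer_thompsonSubgroupAOf (S : Subgroup G) :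
    Subgroup.normalizer (S : Set G) ≤
      Subgroup.normalizer ((thompsonSubgroupAOf S : Subgroup G) : Set G) := by
  intro g hg
  rw [Subgroup.mem_normalizer_iff_map_conj_eq] at hg ⊢
  exact (thompsonSubgroupAOf_eq_of_eq_map (MulAut.conj g).toMonoidHom (MulAut.conj g).injective
    S S hg.symm).symm

end Maps

section Repl

/-- Corollary of Thompson's replacement theorem: if some abelian subgroup of largest order does not
centralise the abelian normal subgroup `V`, then some such subgroup is moreover normalised by `V`. -/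
theorem exists_maxAbelian_normalized {S : Type u} [Group S] [Finite S] {p : ℕ} [Fact p.Prime]
    (hS : IsPGroup p S) (V : Subgroup S) [V.Normal] (hVc : IsMulCommutative V)
    (h : ∃ A ∈ maxAbelianSubgroups S, ¬ A ≤ Subgroup.centralizer (V : Set S)) :
    ∃ A ∈ maxAbelianSubgroups S, ¬ A ≤ Subgroup.centralizer (V : Set S) ∧
      V ≤ Subgroup.normalizer (A : Set S) := by
  classical
  have hne : ({A : Subgroup S | A ∈ maxAbelianSubgroups S ∧
      ¬ A ≤ Subgroup.centralizer (V : Set S)}).Nonempty := by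
    obtain ⟨A, hA1, hA2⟩ := h
    exact ⟨A, hA1, hA2⟩
  obtain ⟨A, ⟨hA1, hA2⟩, hAmax⟩ := Set.exists_max_image _
    (fun A : Subgroup S => Nat.card (A ⊓ V : Subgroup S)) (Set.toFinite _) hne
  refine ⟨A, hA1, hA2, ?_⟩
  by_contra hVA
  obtain ⟨A', hA'c, hcard, hlt, hA'N, -⟩ := Cfsg.Agent.Lib.Helper19.thompson_replacement hS A V
    hA1.1 hVc (by rw [Subgroup.normalizer_eq_top]; exact le_top) hVA
  have hA'max : A' ∈ maxAbelianSubgroups S := ⟨hA'c, fun B hB => (hA1.2 B hB).trans hcard⟩
  have hA'V : ¬ A' ≤ Subgroup.centralizer (V : Set S) := by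
    intro hle
    have h1 : V ≤ Subgroup.centralizer (A' : Set S) := Subgroup.le_centralizer_iff.mp hle
    rw [Cfsg.Agent.Lib.Helper19.maxAbelian_centralizer_eq hA'max] at h1
    exact hVA (h1.trans hA'N)
  have h2 := hAmax A' ⟨hA'max, hA'V⟩
  have h3 := card_lt_of_lt' hlt
  exact absurd h2 (not_le.mpr h3)

variable {G : Type u} [Group G]

theorem exists_maxAb_normalized [Finite G] {p : ℕ} [Fact p.Prime] (P : Subgroup G)
    (hP : IsPGroup p P) (V : Subgroup G) (hVP : V ≤ P)
    (hVn : P ≤ Subgroup.normalizer (V : Set G)) (hVc : ∀ a ∈ V, ∀ b ∈ V, a * b = b * a)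
    (h : ∃ A ∈ maxAb P, ¬ A ≤ Subgroup.centralizer (V : Set G)) :
    ∃ A ∈ maxAb P, ¬ A ≤ Subgroup.centralizer (V : Set G) ∧
      V ≤ Subgroup.normalizer (A : Set G) := by
  haveI hn : (V.subgroupOf P).Normal := Subgroup.normal_subgroupOf_of_le_normalizer hVn
  have hc : IsMulCommutative (V.subgroupOf P) := by
    apply imc_of_comm
    intro a ha b hb
    apply Subtype.ext
    exact hVc a.1 (Subgroup.mem_subgroupOf.mp ha) b.1 (Subgroup.mem_subgroupOf.mp hb)
  have h' : ∃ A ∈ maxAbelianSubgroups P,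
      ¬ A ≤ Subgroup.centralizer ((V.subgroupOf P : Subgroup P) : Set P) := by
    obtain ⟨A, hA, hAV⟩ := h
    refine ⟨A.subgroupOf P, subgroupOf_mem_maxAbelian P hA, ?_⟩
    intro hle
    apply hAV
    intro a ha
    rw [Subgroup.mem_centralizer_iff]
    intro v hv
    have h1 : (⟨a, hA.1 ha⟩ : P) ∈ A.subgroupOf P := Subgroup.mem_subgroupOf.mpr ha
    have h2 := Subgroup.mem_centralizer_iff.mp (hle h1) ⟨v, hVP hv⟩
      (Subgroup.mem_subgroupOf.mpr hv)
    exact congrArg Subtype.val h2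
  obtain ⟨A', hA', hA'V, hVA'⟩ := exists_maxAbelian_normalized hP (V.subgroupOf P) hc h'
  refine ⟨A'.map P.subtype, map_subtype_mem_maxAb P hA', ?_, ?_⟩
  · intro hle
    apply hA'V
    intro a ha
    rw [Subgroup.mem_centralizer_iff]
    intro v hv
    apply Subtype.ext
    have h1 : (a : G) ∈ A'.map P.subtype := ⟨a, ha, rfl⟩
    exact Subgroup.mem_centralizer_iff.mp (hle h1) v.1 (Subgroup.mem_subgroupOf.mp hv)
  · intro v hv
    apply Cfsg.Agent.Lib.Helper19.mem_normalizer_of_forall_conj_mem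
    rintro _ ⟨a, ha, rfl⟩
    have h1 : (⟨v, hVP hv⟩ : P) ∈ Subgroup.normalizer (A' : Set P) :=
      hVA' (Subgroup.mem_subgroupOf.mpr hv)
    have h2 := (Subgroup.mem_normalizer_iff.mp h1 a).mp ha
    exact ⟨_, h2, rfl⟩

end Repl

end Cfsg.Agent.Lib.Helper17
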