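import Cfsg.Agent.Lib.Helper17.SL2Borel

set_option autoImplicit false
set_option maxHeartbeats 1000000
set_option linter.unusedVariables false
set_option linter.unusedSimpArgs false
set_option linter.style.haveILetI false

/-!
The class equation applied to a finite group embedded in a two-dimensional special linear group
in odd characteristic `p`, not `p`-closed but with all proper subgroups `p`-closed and containing
an upper and a lower unitriangular element: it contains a pair of opposite root elements with
inverse parameters (unless `p = 3`).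
-/

namespace Cfsg.Agent.Lib.Helper17

/-- pullback of the `SL2Like` hypotheses along an injective homomorphism -/
theorem SL2Like.of_injective {G G' : Type*} [Group G] [Group G'] (p : ℕ) (f : G →* G')
    (hf : Function.Injective f) (z : G) (h : SL2Like (G := G') p (f z)) :
    SL2Like (G := G) p z := by
  have hne1 : ∀ g : G, g ≠ 1 → f g ≠ 1 := by
    intro g hg h1
    apply hg
    apply hf
    rw [h1, map_one]
  have hnez : ∀ g : G, g ≠ z → f g ≠ f z := fun g hg h1 => hg (hf h1)
  refine ⟨?_, ?_, ?_, ?_, ?_, ?_⟩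
  · intro hz
    apply h.hz1
    rw [hz, map_one]
  · apply hf
    rw [map_mul, map_one]
    exact h.hz2
  · intro g
    apply hf
    rw [map_mul, map_mul]
    exact h.hzc (f g)
  · intro g a k hg hgz hga hgk
    apply hf
    rw [map_mul, map_mul]
    apply h.H1 (f g) (f a) (f k) (hne1 g hg) (hnez g hgz)
    · rw [← map_mul, ← map_mul, hga]
    · rw [← map_mul, ← map_mul, hgk]
  · intro g a hg hgz hgp hga
    have h0 := h.H2 (f g) (f a) (hne1 g hg) (hnez g hgz)
      (by
        rcases hgp with h1 | h1
        · left; rw [← map_pow, h1, map_one]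
        · right; rw [← map_pow, h1])
      (by rw [← map_mul, ← map_mul, hga])
    rcases h0 with h1 | h1
    · left; apply hf; rw [map_pow, h1, map_one]
    · right; apply hf; rw [map_pow, h1]
  · intro s n hs1 hsz hc
    have h0 := h.H3 (f s) (f n) (fun h1 => hs1 (hf (by rw [map_pow, h1, map_one])))
      (fun h1 => hsz (hf (by rw [map_pow, h1])))
      (by rw [← map_inv, ← map_mul, ← map_mul, ← map_mul, ← map_mul, hc])
    rcases h0 with h1 | h1
    · left; apply hf; rw [map_mul, map_mul, map_inv]; exact h1
    · right; apply hf; rw [map_mul, map_mul, map_inv, map_inv]; exact h1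

section

variable {K : Type*} [Field K]

local notation "SL₂" => Matrix.SpecialLinearGroup (Fin 2) K

theorem uu_zero : uu (0 : K) = 1 := by
  apply sl2_ext'
  · rw [sl2_one_00, uu_00]
  · rw [sl2_one_01, uu_01]
  · rw [sl2_one_10, uu_10]
  · rw [sl2_one_11, uu_11]

theorem ll_zero : ll (0 : K) = 1 := by
  apply sl2_ext'
  · rw [sl2_one_00, ll_00]
  · rw [sl2_one_01, ll_01]
  · rw [sl2_one_10, ll_10]
  · rw [sl2_one_11, ll_11]

theorem sl2Like_of_hom (p : ℕ) [hp : Fact p.Prime] [CharP K p] (hp2 : p ≠ 2)
    {G : Type*} [Group G] (ι : G →* SL₂) (hι : Function.Injective ι) (z : G)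
    (hz : ι z = negOne) : SL2Like (G := G) p z := by
  obtain ⟨f, hf⟩ : ∃ f : G →* ↥(⊤ : Subgroup SL₂), ∀ g, (f g : SL₂) = ι g :=
    ⟨ι.codRestrict ⊤ (fun _ => Subgroup.mem_top _), fun g => rfl⟩
  have hfinj : Function.Injective f := by
    intro g h hgh
    apply hι
    rw [← hf, ← hf, hgh]
  apply SL2Like.of_injective p f hfinj z
  have e : f z = ⟨negOne, Subgroup.mem_top _⟩ := Subtype.ext (by rw [hf, hz])
  rw [e]
  exact sl2Like_of_subgroup p hp2 ⊤ (Subgroup.mem_top _)

theorem sl2_sq_one (h2 : (2 : K) ≠ 0) (g : SL₂) (hg : g * g = 1) (hg1 : g ≠ 1) :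
    g = negOne := by
  have hinv : g = g⁻¹ := eq_inv_of_mul_eq_one_left hg
  have h01 : g.1 0 1 = 0 := by
    have h0 := congrArg (fun x : SL₂ => x.1 0 1) hinv
    simp only [sl2_inv_01] at h0
    have h3 : (2 : K) * g.1 0 1 = 0 := by linear_combination h0
    exact (mul_eq_zero.mp h3).resolve_left h2
  have h10 : g.1 1 0 = 0 := by
    have h0 := congrArg (fun x : SL₂ => x.1 1 0) hinv
    simp only [sl2_inv_10] at h0
    have h3 : (2 : K) * g.1 1 0 = 0 := by linear_combination h0
    exact (mul_eq_zero.mp h3).resolve_left h2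
  have h0011 : g.1 0 0 = g.1 1 1 := by
    have h0 := congrArg (fun x : SL₂ => x.1 0 0) hinv
    simpa only [sl2_inv_00] using h0
  have hd := sl2_det' g
  rw [h01, h10, ← h0011] at hd
  have h4 : (g.1 0 0 - 1) * (g.1 0 0 + 1) = 0 := by linear_combination hd
  rcases mul_eq_zero.mp h4 with h5 | h5
  · exfalso
    apply hg1
    apply sl2_ext'
    · rw [sl2_one_00]; linear_combination h5
    · rw [sl2_one_01, h01]
    · rw [sl2_one_10, h10]
    · rw [sl2_one_11, ← h0011]; linear_combination h5
  · apply sl2_ext'
    · rw [negOne_00]; linear_combination h5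
    · rw [negOne_01, h01]
    · rw [negOne_10, h10]
    · rw [negOne_11, ← h0011]; linear_combination h5

variable (K) in
/-- the diagonal character of the upper triangular subgroup -/
def borelChar : ↥(borel K) →* Kˣ where
  toFun g := Units.mkOfMulEqOne (g.1.1 0 0) (g.1.1 1 1) (by
    have hd := sl2_det' g.1
    have h0 : g.1.1 1 0 = 0 := g.2
    rw [h0] at hd
    linear_combination hd)
  map_one' := by
    apply Units.ext
    show ((1 : ↥(borel K)) : SL₂).1 0 0 = 1
    rw [Subgroup.coe_one, sl2_one_00]
  map_mul' := by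
    intro g h
    apply Units.ext
    show ((g * h : ↥(borel K)) : SL₂).1 0 0 = g.1.1 0 0 * h.1.1 0 0
    rw [Subgroup.coe_mul, sl2_mul_apply, (show h.1.1 1 0 = 0 from h.2)]
    ring

theorem borelChar_coe (g : ↥(borel K)) : ((borelChar K g : Kˣ) : K) = g.1.1 0 0 := rfl

end

end Cfsg.Agent.Lib.Helper17
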