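import Mathlib
import Cfsg.Prelude.Def_LocalEven

set_option autoImplicit false

/-!
Sections (`Cfsg.Involves`): inheritance from subgroups and quotients, and a recognition lemma for
the symmetric group of degree four as a section.
-/

namespace Cfsg.Agent.Lib.Helper17

universe u v

section Inv

variable {G : Type v} [Group G] {H : Type u} [Group H]

theorem involves_of_surjective (K : Subgroup G) (φ : K →* H) (hφ : Function.Surjective φ) :
    Cfsg.Involves H G := by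
  have hR : (φ.ker.map K.subtype).subgroupOf K = φ.ker :=
    Subgroup.comap_map_eq_self_of_injective K.subtype_injective _
  have key : ∀ (R' : Subgroup K), R' = φ.ker → ∃ (_ : R'.Normal), Nonempty (K ⧸ R' ≃* H) := by
    intro R' h
    subst h
    exact ⟨inferInstance, ⟨QuotientGroup.quotientKerEquivOfSurjective φ hφ⟩⟩
  obtain ⟨hn, hne⟩ := key _ hR
  exact ⟨K, _, hn, hne⟩

theorem exists_hom_of_involves (h : Cfsg.Involves H G) :
    ∃ (K : Subgroup G) (φ : K →* H), Function.Surjective φ := by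
  obtain ⟨K, R, hn, ⟨e⟩⟩ := h
  have := hn
  refine ⟨K, e.toMonoidHom.comp (QuotientGroup.mk' (R.subgroupOf K)), ?_⟩
  intro x
  obtain ⟨q, rfl⟩ := e.surjective x
  obtain ⟨k, rfl⟩ := QuotientGroup.mk'_surjective (R.subgroupOf K) q
  exact ⟨k, rfl⟩

theorem involves_of_subgroup (L : Subgroup G) (h : Cfsg.Involves H L) : Cfsg.Involves H G := by
  obtain ⟨K, φ, hφ⟩ := exists_hom_of_involves h
  obtain ⟨e⟩ : Nonempty (K ≃* K.map L.subtype) :=
    ⟨Subgroup.equivMapOfInjective K L.subtype L.subtype_injective⟩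
  refine involves_of_surjective (K.map L.subtype) (φ.comp e.symm.toMonoidHom) ?_
  intro x
  obtain ⟨k, rfl⟩ := hφ x
  exact ⟨e k, by simp⟩

theorem involves_of_quotient (N : Subgroup G) [N.Normal] (h : Cfsg.Involves H (G ⧸ N)) :
    Cfsg.Involves H G := by
  obtain ⟨K, φ, hφ⟩ := exists_hom_of_involves h
  refine involves_of_surjective (K.comap (QuotientGroup.mk' N))
    (φ.comp ((QuotientGroup.mk' N).subgroupComap K)) ?_
  intro x
  obtain ⟨k, rfl⟩ := hφ x
  obtain ⟨g, hg⟩ := QuotientGroup.mk'_surjective N (k : G ⧸ N)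
  refine ⟨⟨g, ?_⟩, ?_⟩
  · rw [Subgroup.mem_comap, hg]
    exact k.2
  · rw [MonoidHom.comp_apply]
    congr 1
    exact Subtype.ext hg

end Inv

section S4

variable {G : Type v} [Group G]

theorem eq_three_of_odd_dvd (n : ℕ) (h : n ∣ 24) (ho : Odd n) (h1 : n ≠ 1) : n = 3 := by
  have hle : n ≤ 24 := Nat.le_of_dvd (by norm_num) h
  interval_cases n <;> first | rfl | (exfalso; revert h ho h1; decide)

set_option maxHeartbeats 800000 in
/-- Recognition of `S₄` as a section: a four-group `U`, an element `y` of odd order acting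
fixed-point-freely on `U`, and a `2`-element `x` normalising `⟨y⟩` and acting nontrivially on `U`. -/
theorem involves_s4 [Finite G] (U : Subgroup G) (hU4 : Nat.card U = 4)
    (hUc : ∀ a ∈ U, ∀ b ∈ U, a * b = b * a) (y x : G)
    (hyU : y ∈ Subgroup.normalizer (U : Set G)) (hxU : x ∈ Subgroup.normalizer (U : Set G))
    (hyodd : Odd (orderOf y)) (hyfpf : ∀ u ∈ U, y * u * y⁻¹ = u → u = 1)
    (hxy : x ∈ Subgroup.normalizer ((Subgroup.zpowers y : Subgroup G) : Set G))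
    (hx2 : ∃ k : ℕ, x ^ (2 ^ k) = 1) (hxn : ∃ u ∈ U, x * u * x⁻¹ ≠ u) :
    Cfsg.Involves (Equiv.Perm (Fin 4)) G := by
  classical
  obtain ⟨D, hDdef⟩ : ∃ D : Subgroup G, D = Subgroup.zpowers y ⊔ Subgroup.zpowers x := ⟨_, rfl⟩
  obtain ⟨L, hLdef⟩ : ∃ L : Subgroup G, L = U ⊔ D := ⟨_, rfl⟩
  have hyD : y ∈ D := hDdef ▸ Subgroup.mem_sup_left (Subgroup.mem_zpowers y)
  have hxD : x ∈ D := hDdef ▸ Subgroup.mem_sup_right (Subgroup.mem_zpowers x)
  have hDL : D ≤ L := hLdef ▸ le_sup_right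
  have hUL : U ≤ L := hLdef ▸ le_sup_left
  have hDNy : D ≤ Subgroup.normalizer ((Subgroup.zpowers y : Subgroup G) : Set G) := by
    rw [hDdef]
    exact sup_le Subgroup.le_normalizer ((Subgroup.zpowers_le).mpr hxy)
  have hDNU : D ≤ Subgroup.normalizer (U : Set G) := by
    rw [hDdef]
    exact sup_le ((Subgroup.zpowers_le).mpr hyU) ((Subgroup.zpowers_le).mpr hxU)
  have hconj : ∀ d ∈ D, ∀ u ∈ U, d * u * d⁻¹ ∈ U := fun d hd u hu =>
    ((Subgroup.mem_normalizer_iff.mp (hDNU hd)) u).mp hu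
  have hyU1 : Subgroup.zpowers y ⊓ U = ⊥ := by
    apply Subgroup.inf_eq_bot_of_coprime
    rw [Nat.card_zpowers, hU4]
    have h4 : (4 : ℕ) = 2 ^ 2 := by norm_num
    rw [h4]
    exact Nat.Coprime.pow_right 2 (Nat.Coprime.symm (Nat.coprime_two_left.mpr hyodd))
  have hUD : ∀ d ∈ D, d ∈ U → d = 1 := by
    intro d hdD hdU
    have h1 : d * y * d⁻¹ ∈ Subgroup.zpowers y :=
      ((Subgroup.mem_normalizer_iff.mp (hDNy hdD)) y).mp (Subgroup.mem_zpowers y)
    have h2 : d * y * d⁻¹ * y⁻¹ ∈ Subgroup.zpowers y :=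
      Subgroup.mul_mem _ h1 (Subgroup.inv_mem _ (Subgroup.mem_zpowers y))
    have h3 : y * d⁻¹ * y⁻¹ ∈ U := hconj y hyD _ (U.inv_mem hdU)
    have h4 : d * y * d⁻¹ * y⁻¹ ∈ U := by
      have : d * y * d⁻¹ * y⁻¹ = d * (y * d⁻¹ * y⁻¹) := by group
      rw [this]
      exact U.mul_mem hdU h3
    have h5 : d * y * d⁻¹ * y⁻¹ ∈ Subgroup.zpowers y ⊓ U := Subgroup.mem_inf.mpr ⟨h2, h4⟩
    rw [hyU1, Subgroup.mem_bot] at h5
    apply hyfpf d hdU
    have h6 : d * y = y * d := by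
      calc d * y = (d * y * d⁻¹ * y⁻¹) * (y * d) := by group
        _ = y * d := by rw [h5, one_mul]
    rw [← h6, mul_inv_cancel_right]
  have hLmem : ∀ l ∈ L, ∃ u ∈ U, ∃ d ∈ D, l = u * d := by
    intro l hl
    have hl' : l ∈ ((U ⊔ D : Subgroup G) : Set G) := hLdef ▸ hl
    rw [Subgroup.coe_mul_of_right_le_normalizer_left U D hDNU] at hl'
    obtain ⟨u, hu, d, hd, rfl⟩ := hl'
    exact ⟨u, hu, d, hd, rfl⟩
  -- the coset action
  obtain ⟨DL, hDLdef⟩ : ∃ DL : Subgroup L, DL = D.subgroupOf L := ⟨_, rfl⟩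
  have hDLmem : ∀ l : L, l ∈ DL ↔ (l : G) ∈ D := by
    intro l
    rw [hDLdef, Subgroup.mem_subgroupOf]
  obtain ⟨φ, hφdef⟩ : ∃ φ : L →* Equiv.Perm (L ⧸ DL), φ = MulAction.toPermHom L (L ⧸ DL) :=
    ⟨_, rfl⟩
  have hφapp : ∀ (g l : L), φ g (QuotientGroup.mk l) = QuotientGroup.mk (g * l) := by
    intro g l
    rw [hφdef]
    rfl
  have hqeq : ∀ a b : L, (QuotientGroup.mk a : L ⧸ DL) = QuotientGroup.mk b ↔
      (a : G)⁻¹ * (b : G) ∈ D := by
    intro a b
    rw [QuotientGroup.eq, hDLmem]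
    rfl
  -- the bijection with `U`
  have hcardX : Nat.card (L ⧸ DL) = 4 := by
    rw [← hU4]
    symm
    apply Nat.card_congr
    refine Equiv.ofBijective (fun u : U => (QuotientGroup.mk (⟨u, hUL u.2⟩ : L) : L ⧸ DL)) ⟨?_, ?_⟩
    · intro u u' h
      have h1 := (hqeq _ _).mp h
      have h2 : (u : G)⁻¹ * (u' : G) = 1 := hUD _ h1 (U.mul_mem (U.inv_mem u.2) u'.2)
      apply Subtype.ext
      exact inv_mul_eq_one.mp h2
    · intro q
      obtain ⟨l, rfl⟩ := QuotientGroup.mk_surjective q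
      obtain ⟨u, hu, d, hd, hl⟩ := hLmem l l.2
      refine ⟨⟨u, hu⟩, ?_⟩
      apply (hqeq _ _).mpr
      change u⁻¹ * (l : G) ∈ D
      rw [hl, inv_mul_cancel_left]
      exact hd
  -- elements of the kernel centralise `U`
  have hker : ∀ g : L, φ g = 1 → ∀ u ∈ U, (g : G) * u * (g : G)⁻¹ = u := by
    intro g hg u hu
    have h1 : (QuotientGroup.mk (g * 1) : L ⧸ DL) = QuotientGroup.mk 1 := by
      rw [← hφapp, hg]
      rfl
    have hgD : (g : G) ∈ D := by
      have := (hqeq _ _).mp h1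
      simp only [mul_one, Subgroup.coe_one] at this
      have h2 : ((g : G))⁻¹ ∈ D := by simpa using this
      simpa using D.inv_mem h2
    have h3 : (QuotientGroup.mk (g * ⟨u, hUL hu⟩) : L ⧸ DL) = QuotientGroup.mk ⟨u, hUL hu⟩ := by
      rw [← hφapp, hg]
      rfl
    have h4 : ((g : G) * u)⁻¹ * u ∈ D := (hqeq _ _).mp h3
    have h5 : u⁻¹ * (g : G) * u * (g : G)⁻¹ ∈ D := by
      have : u⁻¹ * (g : G) * u * (g : G)⁻¹ = (((g : G) * u)⁻¹ * u)⁻¹ * (g : G)⁻¹ := by group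
      rw [this]
      exact D.mul_mem (D.inv_mem h4) (D.inv_mem hgD)
    have h6 : u⁻¹ * (g : G) * u * (g : G)⁻¹ ∈ U := by
      have : u⁻¹ * (g : G) * u * (g : G)⁻¹ = u⁻¹ * ((g : G) * u * (g : G)⁻¹) := by group
      rw [this]
      exact U.mul_mem (U.inv_mem hu) (hconj _ hgD u hu)
    have h7 := hUD _ h5 h6
    calc (g : G) * u * (g : G)⁻¹ = u * (u⁻¹ * (g : G) * u * (g : G)⁻¹) := by group
      _ = u := by rw [h7, mul_one]
  have hkerD : ∀ g : L, φ g = 1 → (g : G) ∈ D := by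
    intro g hg
    have h1 : (QuotientGroup.mk (g * 1) : L ⧸ DL) = QuotientGroup.mk 1 := by
      rw [← hφapp, hg]
      rfl
    have := (hqeq _ _).mp h1
    simp only [mul_one, Subgroup.coe_one] at this
    have h2 : ((g : G))⁻¹ ∈ D := by simpa using this
    simpa using D.inv_mem h2
  have hUne : ∃ u ∈ U, u ≠ 1 := by
    obtain ⟨u, hu, hxu⟩ := hxn
    refine ⟨u, hu, ?_⟩
    rintro rfl
    apply hxu
    rw [mul_one, mul_inv_cancel]
  have hcardP : Nat.card (Equiv.Perm (L ⧸ DL)) = 24 := by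
    rw [Nat.card_perm, hcardX]
    rfl
  -- `3` divides the order of the image
  have h3 : 3 ∣ Nat.card φ.range := by
    have hφy : φ ⟨y, hDL hyD⟩ ≠ 1 := by
      intro h
      obtain ⟨u, hu, hu1⟩ := hUne
      exact hu1 (hyfpf u hu (hker _ h u hu))
    have ho1 : orderOf (φ ⟨y, hDL hyD⟩) ∣ orderOf y := by
      have h1 : orderOf (φ ⟨y, hDL hyD⟩) ∣ orderOf (⟨y, hDL hyD⟩ : L) := orderOf_map_dvd φ _
      rwa [Subgroup.orderOf_mk] at h1
    have hodd : Odd (orderOf (φ ⟨y, hDL hyD⟩)) := by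
      obtain ⟨c, hc⟩ := ho1
      rw [hc] at hyodd
      exact (Nat.odd_mul.mp hyodd).1
    have h24 : orderOf (φ ⟨y, hDL hyD⟩) ∣ 24 := hcardP ▸ orderOf_dvd_natCard _
    have hne1 : orderOf (φ ⟨y, hDL hyD⟩) ≠ 1 := fun h => hφy (orderOf_eq_one_iff.mp h)
    have h3' : orderOf (φ ⟨y, hDL hyD⟩) = 3 := eq_three_of_odd_dvd _ h24 hodd hne1
    rw [← h3']
    exact Subgroup.orderOf_dvd_natCard _ ⟨_, rfl⟩
  -- `8` divides the order of the image
  have h8 : 8 ∣ Nat.card φ.range := by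
    obtain ⟨T, hTdef⟩ : ∃ T : Subgroup G, T = U ⊔ Subgroup.zpowers x := ⟨_, rfl⟩
    have : Fact (Nat.Prime 2) := ⟨Nat.prime_two⟩
    have hUp : IsPGroup 2 U := IsPGroup.of_card (n := 2) (by rw [hU4]; norm_num)
    have hxp : IsPGroup 2 (Subgroup.zpowers x) := by
      obtain ⟨k, hk⟩ := hx2
      obtain ⟨j, -, hj⟩ := (Nat.dvd_prime_pow Nat.prime_two).mp (orderOf_dvd_of_pow_eq_one hk)
      exact IsPGroup.of_card (n := j) (by rw [Nat.card_zpowers, hj])
    have hTp : IsPGroup 2 T := by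
      rw [hTdef]
      exact IsPGroup.to_sup_of_normal_left' hUp hxp ((Subgroup.zpowers_le).mpr hxU)
    have hTL : T ≤ L := by
      rw [hTdef]
      exact sup_le hUL ((Subgroup.zpowers_le).mpr (hDL hxD))
    obtain ⟨T', hT'def⟩ : ∃ T' : Subgroup (Equiv.Perm (L ⧸ DL)), T' = (T.subgroupOf L).map φ :=
      ⟨_, rfl⟩
    obtain ⟨U', hU'def⟩ : ∃ U' : Subgroup (Equiv.Perm (L ⧸ DL)), U' = (U.subgroupOf L).map φ :=
      ⟨_, rfl⟩
    have hT'p : IsPGroup 2 T' := by
      rw [hT'def]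
      exact (hTp.comap_subtype).map φ
    have hU'T' : U' ≤ T' := by
      rw [hU'def, hT'def]
      apply Subgroup.map_mono
      intro l hl
      rw [Subgroup.mem_subgroupOf] at hl ⊢
      rw [hTdef]
      exact Subgroup.mem_sup_left hl
    have hU'card : Nat.card U' = 4 := by
      rw [← hU4, hU'def]
      symm
      apply Nat.card_congr
      refine Equiv.ofBijective (fun u : U => (⟨φ ⟨u, hUL u.2⟩,
        Subgroup.mem_map_of_mem φ (Subgroup.mem_subgroupOf.mpr u.2)⟩ : (U.subgroupOf L).map φ))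
        ⟨?_, ?_⟩
      · intro u u' h
        have h1 : φ ⟨u, hUL u.2⟩ = φ ⟨u', hUL u'.2⟩ := congrArg Subtype.val h
        have h2 : φ (⟨u, hUL u.2⟩⁻¹ * ⟨u', hUL u'.2⟩) = 1 := by
          rw [map_mul, map_inv, h1, inv_mul_cancel]
        have h3 := hkerD _ h2
        have h4 : (u : G)⁻¹ * (u' : G) = 1 := hUD _ h3 (U.mul_mem (U.inv_mem u.2) u'.2)
        apply Subtype.ext
        exact inv_mul_eq_one.mp h4
      · rintro ⟨_, ⟨l, hl, rfl⟩⟩
        exact ⟨⟨l, Subgroup.mem_subgroupOf.mp hl⟩, rfl⟩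
    have hxT' : φ ⟨x, hDL hxD⟩ ∈ T' := by
      rw [hT'def]
      refine Subgroup.mem_map_of_mem φ (Subgroup.mem_subgroupOf.mpr ?_)
      rw [hTdef]
      exact Subgroup.mem_sup_right (Subgroup.mem_zpowers x)
    have hxU' : φ ⟨x, hDL hxD⟩ ∉ U' := by
      rw [hU'def]
      rintro ⟨l, hl, hlx⟩
      have hlU : (l : G) ∈ U := Subgroup.mem_subgroupOf.mp hl
      have h2 : φ (l⁻¹ * ⟨x, hDL hxD⟩) = 1 := by
        rw [map_mul, map_inv, hlx, inv_mul_cancel]
      obtain ⟨u, hu, hxu⟩ := hxn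
      apply hxu
      have h3 := hker _ h2 u hu
      have h4 : ((l⁻¹ * ⟨x, hDL hxD⟩ : L) : G) = (l : G)⁻¹ * x := rfl
      rw [h4] at h3
      have h5 : x * u * x⁻¹ = (l : G) * (((l : G)⁻¹ * x) * u * ((l : G)⁻¹ * x)⁻¹) * (l : G)⁻¹ := by
        group
      rw [h5, h3, hUc _ hlU u hu, mul_inv_cancel_right]
    have hlt : U' < T' := lt_of_le_of_ne hU'T' (fun h => hxU' (h ▸ hxT'))
    obtain ⟨i, hi⟩ := IsPGroup.iff_card.mp hT'p
    have hcl : Nat.card U' < Nat.card T' := by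
      have hdvd : Nat.card U' ∣ Nat.card T' := Subgroup.card_dvd_of_le hU'T'
      have hle : Nat.card U' ≤ Nat.card T' := Nat.le_of_dvd Nat.card_pos hdvd
      refine lt_of_le_of_ne hle ?_
      intro heq
      exact hlt.ne (Subgroup.eq_of_le_of_card_ge hU'T' heq.ge)
    rw [hU'card, hi] at hcl
    have hi3 : 3 ≤ i := by
      by_contra hcon
      have : i ≤ 2 := by omega
      have : 2 ^ i ≤ 2 ^ 2 := Nat.pow_le_pow_right (by norm_num) this
      omega
    have h8T : 8 ∣ Nat.card T' := by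
      rw [hi]
      exact pow_dvd_pow 2 hi3
    have hT'r : T' ≤ φ.range := by
      rw [hT'def]
      rintro _ ⟨l, -, rfl⟩
      exact ⟨l, rfl⟩
    exact h8T.trans (Subgroup.card_dvd_of_le hT'r)
  have h24 : 24 ∣ Nat.card φ.range := by
    have : (24 : ℕ) = 8 * 3 := by norm_num
    rw [this]
    exact Nat.Coprime.mul_dvd_of_dvd_of_dvd (by norm_num) h8 h3
  have htop : φ.range = ⊤ := by
    apply Subgroup.eq_top_of_card_eq
    apply le_antisymm (Subgroup.card_le_card_group _)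
    rw [hcardP]
    exact Nat.le_of_dvd Nat.card_pos h24
  have hsurj : Function.Surjective φ := MonoidHom.range_eq_top.mp htop
  obtain ⟨e⟩ : Nonempty (L ⧸ DL ≃ Fin 4) := by
    exact ⟨Finite.equivFinOfCardEq hcardX⟩
  refine involves_of_surjective L (e.permCongrHom.toMonoidHom.comp φ) ?_
  intro σ
  obtain ⟨l, hl⟩ := hsurj (e.permCongrHom.symm σ)
  refine ⟨l, ?_⟩
  rw [MonoidHom.comp_apply, hl]
  exact e.permCongrHom.apply_symm_apply σ

end S4

end Cfsg.Agent.Lib.Helper17
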