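import Cfsg.Agent.Lib.Helper17.SL2Dickson2
import Cfsg.Agent.Lib.Helper3.SLRoot

set_option autoImplicit false
set_option maxHeartbeats 2000000
set_option linter.unusedVariables false
set_option linter.unusedSimpArgs false
set_option linter.style.haveILetI false

/-!
Normal form for a pair of non-commuting elements of order `p` in a two-dimensional special
linear group of characteristic `p`, the twisted embedding of the special linear group over the
prime field, and the subgroup theorem: a finite subgroup in odd characteristic `p ≠ 3` with two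
non-commuting elements of order `p` contains a copy of `SL(2, p)`.
-/

namespace Cfsg.Agent.Lib.Helper17

universe u v

section

variable {K : Type u} [Field K]

local notation "SL₂" => Matrix.SpecialLinearGroup (Fin 2) K

/-- elements of order dividing `p` have trace two -/
theorem sl2_p_trace (p : ℕ) [hp : Fact p.Prime] [CharP K p] (w : SL₂) (hw : w ^ p = 1) :
    w.1 0 0 + w.1 1 1 = 2 := by
  obtain ⟨M, hM⟩ : ∃ M : Matrix (Fin 2) (Fin 2) K, M = w.1 := ⟨_, rfl⟩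
  have hMp : M ^ p = 1 := by
    rw [hM, ← Matrix.SpecialLinearGroup.coe_pow, hw]
    rfl
  obtain ⟨N, hN⟩ : ∃ N : Matrix (Fin 2) (Fin 2) K, N = M - 1 := ⟨_, rfl⟩
  have hNp : N ^ p = 0 := by
    rw [hN, sub_pow_char_of_commute p (Commute.one_right M), hMp, one_pow, sub_self]
  have hdet : N.det = 0 := by
    have h1 := congrArg Matrix.det hNp
    rw [Matrix.det_pow, Matrix.det_zero] at h1
    exact eq_zero_of_pow_eq_zero h1
  have hsq : N * N = N.trace • N := by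
    rw [mat2_sq, hdet, zero_smul, sub_zero]
  have hpow : ∀ k : ℕ, N ^ (k + 1) = N.trace ^ k • N := by
    intro k
    induction k with
    | zero => rw [pow_zero, one_smul, zero_add, pow_one]
    | succ k ih => rw [pow_succ, ih, smul_mul_assoc, hsq, smul_smul, pow_succ]
  have htr : N.trace = 0 := by
    obtain ⟨k, hk⟩ : ∃ k, p = k + 1 := ⟨p - 1, by have := hp.1.pos; omega⟩
    rw [hk, hpow] at hNp
    rcases smul_eq_zero.mp hNp with h1 | h1
    · exact eq_zero_of_pow_eq_zero h1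
    · rw [h1, Matrix.trace_zero]
  rw [hN, Matrix.trace_sub, Matrix.trace_fin_two, Matrix.trace_fin_two, hM] at htr
  simp at htr
  linear_combination htr

theorem sl2_p_upper (p : ℕ) [hp : Fact p.Prime] [CharP K p] (w : SL₂) (hw : w ^ p = 1)
    (h10 : w.1 1 0 = 0) : w ∈ unip K := by
  have htr := sl2_p_trace p w hw
  have hdet := sl2_det' w
  rw [h10] at hdet
  refine ⟨h10, ?_⟩
  have h1 : (w.1 0 0 - 1) * (w.1 0 0 - 1) = 0 := by linear_combination (w.1 0 0) * htr - hdet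
  have h2 := mul_self_eq_zero.mp h1
  linear_combination h2

/-- the parametrization of an element of order `p` with nonzero lower left entry -/
theorem sl2_p_param (p : ℕ) [hp : Fact p.Prime] [CharP K p] (w : SL₂) (hw : w ^ p = 1)
    (h10 : w.1 1 0 ≠ 0) :
    w.1 1 1 = 2 - w.1 0 0 ∧ w.1 0 1 = -(w.1 0 0 - 1) ^ 2 * (w.1 1 0)⁻¹ := by
  have htr := sl2_p_trace p w hw
  have hdet := sl2_det' w
  have h11 : w.1 1 1 = 2 - w.1 0 0 := by linear_combination htr
  refine ⟨h11, ?_⟩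
  rw [h11] at hdet
  rw [eq_mul_inv_iff_mul_eq₀ h10]
  linear_combination -hdet

theorem sl2_conj_unip (p : ℕ) [hp : Fact p.Prime] [CharP K p] (w : SL₂) (hw : w ^ p = 1) :
    ∃ g : SL₂, g * w * g⁻¹ ∈ unip K := by
  by_cases h10 : w.1 1 0 = 0
  · exact ⟨1, by rw [one_mul, inv_one, mul_one]; exact sl2_p_upper p w hw h10⟩
  · obtain ⟨h11, h01⟩ := sl2_p_param p w hw h10
    obtain ⟨γ, hγ⟩ : ∃ γ : K, γ = w.1 1 0 := ⟨_, rfl⟩
    obtain ⟨s, hs⟩ : ∃ s : K, s = w.1 0 0 := ⟨_, rfl⟩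
    rw [← hγ, ← hs] at h01
    rw [← hs] at h11
    rw [← hγ] at h10
    obtain ⟨g, g00, g01, g10, g11⟩ : ∃ g : SL₂, g.1 0 0 = 0 ∧ g.1 0 1 = -γ⁻¹ ∧ g.1 1 0 = γ ∧
        g.1 1 1 = 1 - s := by
      refine ⟨⟨!![0, -γ⁻¹; γ, 1 - s], ?_⟩, rfl, rfl, rfl, rfl⟩
      rw [Matrix.det_fin_two_of]
      field_simp
      ring
    refine ⟨g, ?_, ?_⟩
    · show (g * w * g⁻¹).1 1 0 = 0
      simp only [sl2_mul_apply, sl2_inv_00, sl2_inv_01, sl2_inv_10, sl2_inv_11, g00, g01, g10,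
        g11, ← hγ, ← hs, h11, h01]
      field_simp
      ring
    · show (g * w * g⁻¹).1 0 0 = 1
      simp only [sl2_mul_apply, sl2_inv_00, sl2_inv_01, sl2_inv_10, sl2_inv_11, g00, g01, g10,
        g11, ← hγ, ← hs, h11, h01]
      field_simp
      ring

theorem sl2_normal_form (p : ℕ) [hp : Fact p.Prime] [CharP K p] (x y : SL₂) (hx : x ^ p = 1)
    (hy : y ^ p = 1) (hne : x * y ≠ y * x) :
    ∃ (g : SL₂) (a₀ b₀ : K), a₀ ≠ 0 ∧ b₀ ≠ 0 ∧ g * x * g⁻¹ = uu a₀ ∧ g * y * g⁻¹ = ll b₀ := by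
  obtain ⟨g₁, hg₁⟩ := sl2_conj_unip p x hx
  obtain ⟨a₀, ha₀⟩ : ∃ a₀ : K, g₁ * x * g₁⁻¹ = uu a₀ := ⟨_, unip_eq_uu _ hg₁⟩
  obtain ⟨w, hw⟩ : ∃ w : SL₂, w = g₁ * y * g₁⁻¹ := ⟨_, rfl⟩
  have hwp : w ^ p = 1 := by
    rw [hw, conj_pow, hy, mul_one, mul_inv_cancel]
  have hne' : uu a₀ * w ≠ w * uu a₀ := by
    intro h
    apply hne
    rw [← ha₀, hw] at h
    have h' : g₁ * (x * y) * g₁⁻¹ = g₁ * (y * x) * g₁⁻¹ := by
      calc g₁ * (x * y) * g₁⁻¹ = g₁ * x * g₁⁻¹ * (g₁ * y * g₁⁻¹) := by group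
        _ = g₁ * y * g₁⁻¹ * (g₁ * x * g₁⁻¹) := h
        _ = g₁ * (y * x) * g₁⁻¹ := by group
    exact mul_left_cancel (mul_right_cancel h')
  have ha0 : a₀ ≠ 0 := by
    rintro rfl
    apply hne'
    rw [uu_zero, one_mul, mul_one]
  have hγ0 : w.1 1 0 ≠ 0 := by
    intro h
    have h1 := unip_eq_uu w (sl2_p_upper p w hwp h)
    apply hne'
    rw [h1, uu_mul, uu_mul, add_comm]
  obtain ⟨h11, h01⟩ := sl2_p_param p w hwp hγ0
  obtain ⟨γ, hγ⟩ : ∃ γ : K, γ = w.1 1 0 := ⟨_, rfl⟩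
  obtain ⟨s, hs⟩ : ∃ s : K, s = w.1 0 0 := ⟨_, rfl⟩
  rw [← hγ, ← hs] at h01
  rw [← hs] at h11
  rw [← hγ] at hγ0
  obtain ⟨c, hc⟩ : ∃ c : K, c = (1 - s) * γ⁻¹ := ⟨_, rfl⟩
  have hconj : uu c * w * (uu c)⁻¹ = ll γ := by
    apply sl2_ext'
    all_goals
      simp only [sl2_mul_apply, sl2_inv_00, sl2_inv_01, sl2_inv_10, sl2_inv_11, uu_00, uu_01,
        uu_10, uu_11, ll_00, ll_01, ll_10, ll_11, ← hγ, ← hs, h11, h01, hc]
      first | ring1 | (field_simp; ring1) | field_simp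
  refine ⟨uu c * g₁, a₀, γ, ha0, hγ0, ?_, ?_⟩
  · have e : uu c * g₁ * x * (uu c * g₁)⁻¹ = uu c * (g₁ * x * g₁⁻¹) * (uu c)⁻¹ := by group
    rw [e, ha₀, mul_inv_eq_iff_eq_mul, uu_mul, uu_mul, add_comm]
  · have e : uu c * g₁ * y * (uu c * g₁)⁻¹ = uu c * (g₁ * y * g₁⁻¹) * (uu c)⁻¹ := by group
    rw [e, ← hw, hconj]

variable (K) in
/-- the prime field embedding -/
def zcast (p : ℕ) [CharP K p] : ZMod p →+* K := ZMod.castHom (dvd_refl p) K

/-- the twisted embedding of the special linear group over the prime field -/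
def zmodEmbFun (p : ℕ) [Fact p.Prime] [CharP K p] (a : K) (ha : a ≠ 0)
    (s : Matrix.SpecialLinearGroup (Fin 2) (ZMod p)) : SL₂ :=
  ⟨!![zcast K p (s.1 0 0), a * zcast K p (s.1 0 1);
      a⁻¹ * zcast K p (s.1 1 0), zcast K p (s.1 1 1)], by
    rw [Matrix.det_fin_two_of]
    have h := congrArg (zcast K p) (sl2_det' s)
    rw [map_sub, map_mul, map_mul, map_one] at h
    have haa : a * a⁻¹ = 1 := mul_inv_cancel₀ ha
    linear_combination h - (zcast K p (s.1 0 1) * zcast K p (s.1 1 0)) * haa⟩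

theorem zmodEmbFun_00 (p : ℕ) [Fact p.Prime] [CharP K p] (a : K) (ha : a ≠ 0)
    (s : Matrix.SpecialLinearGroup (Fin 2) (ZMod p)) :
    (zmodEmbFun p a ha s).1 0 0 = zcast K p (s.1 0 0) := rfl

theorem zmodEmbFun_01 (p : ℕ) [Fact p.Prime] [CharP K p] (a : K) (ha : a ≠ 0)
    (s : Matrix.SpecialLinearGroup (Fin 2) (ZMod p)) :
    (zmodEmbFun p a ha s).1 0 1 = a * zcast K p (s.1 0 1) := rfl

theorem zmodEmbFun_10 (p : ℕ) [Fact p.Prime] [CharP K p] (a : K) (ha : a ≠ 0)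
    (s : Matrix.SpecialLinearGroup (Fin 2) (ZMod p)) :
    (zmodEmbFun p a ha s).1 1 0 = a⁻¹ * zcast K p (s.1 1 0) := rfl

theorem zmodEmbFun_11 (p : ℕ) [Fact p.Prime] [CharP K p] (a : K) (ha : a ≠ 0)
    (s : Matrix.SpecialLinearGroup (Fin 2) (ZMod p)) :
    (zmodEmbFun p a ha s).1 1 1 = zcast K p (s.1 1 1) := rfl

theorem zmodEmbFun_mul (p : ℕ) [Fact p.Prime] [CharP K p] (a : K) (ha : a ≠ 0)
    (s t : Matrix.SpecialLinearGroup (Fin 2) (ZMod p)) :
    zmodEmbFun p a ha (s * t) = zmodEmbFun p a ha s * zmodEmbFun p a ha t := by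
  have haa : a * a⁻¹ = 1 := mul_inv_cancel₀ ha
  apply sl2_ext'
  · rw [sl2_mul_apply, zmodEmbFun_00, zmodEmbFun_00, zmodEmbFun_00, zmodEmbFun_01, zmodEmbFun_10,
      sl2_mul_apply, map_add, map_mul, map_mul]
    linear_combination (-(zcast K p (s.1 0 1) * zcast K p (t.1 1 0))) * haa
  · rw [sl2_mul_apply, zmodEmbFun_01, zmodEmbFun_00, zmodEmbFun_01, zmodEmbFun_01, zmodEmbFun_11,
      sl2_mul_apply, map_add, map_mul, map_mul]
    ring
  · rw [sl2_mul_apply, zmodEmbFun_10, zmodEmbFun_10, zmodEmbFun_00, zmodEmbFun_11, zmodEmbFun_10,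
      sl2_mul_apply, map_add, map_mul, map_mul]
    ring
  · rw [sl2_mul_apply, zmodEmbFun_11, zmodEmbFun_10, zmodEmbFun_01, zmodEmbFun_11, zmodEmbFun_11,
      sl2_mul_apply, map_add, map_mul, map_mul]
    linear_combination (-(zcast K p (s.1 1 0) * zcast K p (t.1 0 1))) * haa

/-- the twisted embedding as a homomorphism -/
def zmodEmb (p : ℕ) [Fact p.Prime] [CharP K p] (a : K) (ha : a ≠ 0) :
    Matrix.SpecialLinearGroup (Fin 2) (ZMod p) →* SL₂ :=
  MonoidHom.mk' (zmodEmbFun p a ha) (zmodEmbFun_mul p a ha)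

theorem zmodEmb_apply (p : ℕ) [Fact p.Prime] [CharP K p] (a : K) (ha : a ≠ 0)
    (s : Matrix.SpecialLinearGroup (Fin 2) (ZMod p)) :
    zmodEmb p a ha s = zmodEmbFun p a ha s := rfl

theorem zmodEmb_injective (p : ℕ) [Fact p.Prime] [CharP K p] (a : K) (ha : a ≠ 0) :
    Function.Injective (zmodEmb p a ha) := by
  intro s t h
  rw [zmodEmb_apply, zmodEmb_apply] at h
  have hc : Function.Injective (zcast K p) := RingHom.injective _
  have h00 := congrArg (fun g : SL₂ => g.1 0 0) h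
  have h01 := congrArg (fun g : SL₂ => g.1 0 1) h
  have h10 := congrArg (fun g : SL₂ => g.1 1 0) h
  have h11 := congrArg (fun g : SL₂ => g.1 1 1) h
  simp only [zmodEmbFun_00, zmodEmbFun_01, zmodEmbFun_10, zmodEmbFun_11] at h00 h01 h10 h11
  apply sl2_ext'
  · exact hc h00
  · exact hc (mul_left_cancel₀ ha h01)
  · exact hc (mul_left_cancel₀ (inv_ne_zero ha) h10)
  · exact hc h11

theorem zmodEmb_range_le (p : ℕ) [Fact p.Prime] [CharP K p] (a : K) (ha : a ≠ 0)
    (S : Subgroup SL₂) (hu : uu a ∈ S) (hl : ll a⁻¹ ∈ S) : (zmodEmb p a ha).range ≤ S := by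
  rw [MonoidHom.range_eq_map, ← Cfsg.Agent.Lib.Helper3.sl2_gen, Subgroup.map_sup, sup_le_iff]
  have hcast : ∀ x : ZMod p, zcast K p x = ((x.val : ℕ) : K) := by
    intro x
    rw [ZMod.natCast_val]
    rfl
  constructor
  · rw [Subgroup.map_le_iff_le_comap, Cfsg.upperUnipotentSL2, Subgroup.closure_le]
    rintro s ⟨h10, h00, h11⟩
    show zmodEmb p a ha s ∈ S
    have e : zmodEmb p a ha s = uu a ^ (s.1 0 1).val := by
      rw [uu_pow, zmodEmb_apply]
      apply sl2_ext'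
      · rw [zmodEmbFun_00, uu_00, h00, map_one]
      · rw [zmodEmbFun_01, uu_01, hcast, mul_comm]
      · rw [zmodEmbFun_10, uu_10, h10, map_zero, mul_zero]
      · rw [zmodEmbFun_11, uu_11, h11, map_one]
    rw [e]
    exact pow_mem hu _
  · rw [Subgroup.map_le_iff_le_comap, Cfsg.lowerUnipotentSL2, Subgroup.closure_le]
    rintro s ⟨h01, h00, h11⟩
    show zmodEmb p a ha s ∈ S
    have e : zmodEmb p a ha s = ll a⁻¹ ^ (s.1 1 0).val := by
      rw [ll_pow, zmodEmb_apply]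
      apply sl2_ext'
      · rw [zmodEmbFun_00, ll_00, h00, map_one]
      · rw [zmodEmbFun_01, ll_01, h01, map_zero, mul_zero]
      · rw [zmodEmbFun_10, ll_10, hcast, mul_comm]
      · rw [zmodEmbFun_11, ll_11, h11, map_one]
    rw [e]
    exact pow_mem hl _

/-- The subgroup theorem: a finite group embedded in a two-dimensional special linear group of
odd characteristic `p ≠ 3`, with two non-commuting elements of order `p`, contains a copy of
`SL(2, p)`. -/
theorem dickson_lite (p : ℕ) [hp : Fact p.Prime] [CharP K p] (hp2 : p ≠ 2) (hp3 : p ≠ 3) :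
    ∀ (n : ℕ) (G : Type v) [Group G] [Finite G] (ι : G →* SL₂), Function.Injective ι →
      Nat.card G = n → ∀ x y : G, x ^ p = 1 → y ^ p = 1 → x * y ≠ y * x →
      ∃ f : Matrix.SpecialLinearGroup (Fin 2) (ZMod p) →* G, Function.Injective f := by
  intro n
  induction n using Nat.strong_induction_on with
  | _ n ih =>
  intro G _ _ ι hι hn x y hx hy hne
  by_cases hmin : ∀ R : Subgroup G, R ≠ ⊤ → ∀ v w : G, v ∈ R → w ∈ R → v ^ p = 1 → w ^ p = 1 →
      v * w = w * v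
  · obtain ⟨g, a₀, b₀, ha, hb, hgx, hgy⟩ := sl2_normal_form p (ι x) (ι y)
      (by rw [← map_pow, hx, map_one]) (by rw [← map_pow, hy, map_one])
      (fun h => hne (hι (by rw [map_mul, map_mul, h])))
    obtain ⟨ι', hι'def⟩ : ∃ ι' : G →* SL₂, ∀ w, ι' w = g * ι w * g⁻¹ :=
      ⟨(MulAut.conj g).toMonoidHom.comp ι, fun w => rfl⟩
    have hι' : Function.Injective ι' := by
      intro s t h
      rw [hι'def, hι'def] at h
      exact hι (mul_left_cancel (mul_right_cancel h))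
    rcases dickson_core p hp2 ι' hι' x y a₀ b₀ ha hb (by rw [hι'def, hgx]) (by rw [hι'def, hgy])
      hmin with ⟨a, u, v, ha0, hu, hv⟩ | h3
    · have hrange : (zmodEmb p a ha0).range ≤ ι'.range :=
        zmodEmb_range_le p a ha0 ι'.range ⟨u, hu⟩ ⟨v, hv⟩
      refine ⟨(MonoidHom.ofInjective hι').symm.toMonoidHom.comp
        ((zmodEmb p a ha0).codRestrict ι'.range (fun s => hrange ⟨s, rfl⟩)), ?_⟩
      apply (MonoidHom.ofInjective hι').symm.injective.comp
      intro s t h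
      apply zmodEmb_injective p a ha0
      exact congrArg Subtype.val h
    · exact absurd h3 hp3
  · push Not at hmin
    obtain ⟨R, hR, v, w, hv, hw, hvp, hwp, hvw⟩ := hmin
    have hlt : Nat.card R < n := by
      rw [← hn]
      exact lt_of_le_of_ne (Subgroup.card_le_card_group R)
        (fun h => hR (Subgroup.eq_top_of_card_eq R h))
    obtain ⟨f, hf⟩ := ih (Nat.card R) hlt ↥R (ι.comp R.subtype)
      (hι.comp R.subtype_injective) rfl ⟨v, hv⟩ ⟨w, hw⟩ (Subtype.ext hvp) (Subtype.ext hwp)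
      (fun h => hvw (congrArg Subtype.val h))
    exact ⟨R.subtype.comp f, R.subtype_injective.comp hf⟩

end

end Cfsg.Agent.Lib.Helper17
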