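import Mathlib
import Cfsg.Agent.Lib.Helper12.QuadMat

set_option autoImplicit false
set_option linter.unusedSimpArgs false

/-!
A strengthening of the two-by-two picture for a pair of square-zero elements: in the monoid
generated by `1 + N` and `1 + M`, elements commuting with `N` and `M` square to one, and twice an
element squaring to one commutes with `N` and `M`.
-/

namespace Cfsg.Agent.Lib.Helper17

open Cfsg.Agent.Lib.Helper12

section QuadMat2

variable {E : Type*} [Ring E]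

theorem quad_mat_main2 (N M Δ : E) (hNN : N * N = 0) (hMM : M * M = 0)
    (hΔ1 : (N * M + M * N) * Δ = 1) (hΔ2 : Δ * (N * M + M * N) = 1) :
    ∃ S : Submonoid E, 1 + N ∈ S ∧ 1 + M ∈ S ∧
      (∀ g ∈ S, g * N = N * g → g * M = M * g → g * g = 1) ∧
      (∀ g ∈ S, g * g = 1 → (g + g) * N = N * (g + g) ∧ (g + g) * M = M * (g + g)) := by
  obtain ⟨Γ, hΓ⟩ : ∃ Γ : E, N * M + M * N = Γ := ⟨_, rfl⟩
  rw [hΓ] at hΔ1 hΔ2
  have e1 : Γ * N = N * (M * N) := by
    rw [← hΓ, add_mul, mul_assoc M N N, hNN, mul_zero, add_zero, mul_assoc]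
  have e2 : N * Γ = N * (M * N) := by
    rw [← hΓ, mul_add, ← mul_assoc N N M, hNN, zero_mul, zero_add]
  have e3 : Γ * M = M * (N * M) := by
    rw [← hΓ, add_mul, mul_assoc N M M, hMM, mul_zero, zero_add, mul_assoc]
  have e4 : M * Γ = M * (N * M) := by
    rw [← hΓ, mul_add, ← mul_assoc M M N, hMM, zero_mul, add_zero]
  have hNΓ : N * Γ = Γ * N := by rw [e1, e2]
  have hMΓ : M * Γ = Γ * M := by rw [e3, e4]
  have hNΔ : N * Δ = Δ * N := by
    calc N * Δ = (Δ * Γ) * (N * Δ) := by rw [hΔ2, one_mul]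
      _ = Δ * ((Γ * N) * Δ) := by simp only [mul_assoc]
      _ = Δ * ((N * Γ) * Δ) := by rw [hNΓ]
      _ = Δ * N * (Γ * Δ) := by simp only [mul_assoc]
      _ = Δ * N := by rw [hΔ1, mul_one]
  have hMΔ : M * Δ = Δ * M := by
    calc M * Δ = (Δ * Γ) * (M * Δ) := by rw [hΔ2, one_mul]
      _ = Δ * ((Γ * M) * Δ) := by simp only [mul_assoc]
      _ = Δ * ((M * Γ) * Δ) := by rw [hMΓ]
      _ = Δ * M * (Γ * Δ) := by simp only [mul_assoc]
      _ = Δ * M := by rw [hΔ1, mul_one]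
  have r1' : ∀ z, N * (N * z) = 0 := fun z => by rw [← mul_assoc, hNN, zero_mul]
  have r2' : ∀ z, M * (M * z) = 0 := fun z => by rw [← mul_assoc, hMM, zero_mul]
  have r3' : ∀ z, N * (Δ * z) = Δ * (N * z) := fun z => by rw [← mul_assoc, hNΔ, mul_assoc]
  have r4' : ∀ z, M * (Δ * z) = Δ * (M * z) := fun z => by rw [← mul_assoc, hMΔ, mul_assoc]
  have r5 : N * (M * N) = Γ * N := e1.symm
  have r5' : ∀ z, N * (M * (N * z)) = Γ * (N * z) := fun z => by
    rw [← mul_assoc M, ← mul_assoc N, r5, mul_assoc]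
  have r6 : M * (N * M) = Γ * M := e3.symm
  have r6' : ∀ z, M * (N * (M * z)) = Γ * (M * z) := fun z => by
    rw [← mul_assoc N, ← mul_assoc M, r6, mul_assoc]
  have r7' : ∀ z, Δ * (Γ * z) = z := fun z => by rw [← mul_assoc, hΔ2, one_mul]
  have r8' : ∀ z, M * (Γ * z) = Γ * (M * z) := fun z => by rw [← mul_assoc, hMΓ, mul_assoc]
  have r9' : ∀ z, N * (Γ * z) = Γ * (N * z) := fun z => by rw [← mul_assoc, hNΓ, mul_assoc]
  have r10' : ∀ z, Γ * (Δ * z) = z := fun z => by rw [← mul_assoc, hΔ1, one_mul]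
  have hrel : ∀ i j i' j' : Fin 2, quadUnits N M Δ i j * quadUnits N M Δ i' j' =
      if j = i' then quadUnits N M Δ i j' else 0 := by
    intro i j i' j'
    fin_cases i <;> fin_cases j <;> fin_cases i' <;> fin_cases j' <;>
      simp [quadUnits, mul_assoc, hNN, hMM, r1', r2', hNΔ, hMΔ, r3', r4', r5, r5', r6, r6',
        hΔ2, r7', hMΓ, hNΓ, r8', r9', hΔ1, r10']
  have hsum : quadUnits N M Δ 0 0 + quadUnits N M Δ 1 1 = 1 := by
    simp only [quadUnits, if_true, one_ne_zero, if_false]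
    rw [mul_assoc, mul_assoc, ← mul_add, hΓ, hΔ2]
  have he01 : quadUnits N M Δ 0 1 = N := by simp [quadUnits]
  have he10 : quadUnits N M Δ 1 0 = Δ * M := by simp [quadUnits]
  obtain ⟨ι, hι⟩ : ∃ ι : Polynomial ℤ →+* E,
      ι = ((Polynomial.aeval Γ : Polynomial ℤ →ₐ[ℤ] E) : Polynomial ℤ →+* E) := ⟨_, rfl⟩
  have hιX : ι Polynomial.X = Γ := by rw [hι]; simp
  have hcN : ∀ c, Commute (ι c) N := by
    intro c; rw [hι]; exact aeval_commute_int Γ N hNΓ.symm c
  have hcM : ∀ c, Commute (ι c) M := by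
    intro c; rw [hι]; exact aeval_commute_int Γ M hMΓ.symm c
  have hcΔ : ∀ c, Commute (ι c) Δ := by
    intro c; rw [hι]
    refine aeval_commute_int Γ Δ ?_ c
    show Γ * Δ = Δ * Γ
    rw [hΔ1, hΔ2]
  have hc : ∀ c i j, ι c * quadUnits N M Δ i j = quadUnits N M Δ i j * ι c := by
    intro c i j
    fin_cases i <;> fin_cases j
    · simpa [quadUnits] using (((hcΔ c).mul_right (hcN c)).mul_right (hcM c)).eq
    · simpa [quadUnits] using (hcN c).eq
    · simpa [quadUnits] using ((hcΔ c).mul_right (hcM c)).eq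
    · simpa [quadUnits] using (((hcΔ c).mul_right (hcM c)).mul_right (hcN c)).eq
  obtain ⟨e, he⟩ : ∃ e, e = quadUnits N M Δ := ⟨_, rfl⟩
  rw [← he] at hrel hsum he01 he10 hc
  have hone : phiMat ι e 1 = 1 := by
    unfold phiMat
    simp only [Fin.sum_univ_two, Matrix.one_apply]
    simp
    exact hsum
  refine ⟨{ carrier := {g | ∃ A : Matrix (Fin 2) (Fin 2) (Polynomial ℤ), A.det = 1 ∧
              g = phiMat ι e A}
            one_mem' := ⟨1, Matrix.det_one, hone.symm⟩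
            mul_mem' := ?_ }, ?_, ?_, ?_, ?_⟩
  · rintro a b ⟨A, hA, rfl⟩ ⟨B, hB, rfl⟩
    exact ⟨A * B, by rw [Matrix.det_mul, hA, hB, one_mul], (phiMat_mul ι e hc hrel A B).symm⟩
  · refine ⟨!![1, 1; 0, 1], by simp [Matrix.det_fin_two], ?_⟩
    unfold phiMat
    simp only [Fin.sum_univ_two]
    simp
    rw [he01, ← hsum]
    abel
  · refine ⟨!![1, 0; Polynomial.X, 1], by simp [Matrix.det_fin_two], ?_⟩
    unfold phiMat
    simp only [Fin.sum_univ_two]
    simp
    rw [he10, hιX, r10', ← hsum]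
    abel
  · rintro g ⟨A, hA, rfl⟩ hgN hgM
    have hN' : phiMat ι e !![0, 1; 0, 0] = N := by
      unfold phiMat
      simp only [Fin.sum_univ_two]
      simp
      exact he01
    have hM' : phiMat ι e !![0, 0; Polynomial.X, 0] = M := by
      unfold phiMat
      simp only [Fin.sum_univ_two]
      simp
      rw [he10, hιX, r10']
    have k1 : phiMat ι e (A * !![0, 1; 0, 0]) = phiMat ι e (!![0, 1; 0, 0] * A) := by
      rw [phiMat_mul ι e hc hrel, phiMat_mul ι e hc hrel, hN', hgN]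
    have k2 : phiMat ι e (A * !![0, 0; Polynomial.X, 0]) =
        phiMat ι e (!![0, 0; Polynomial.X, 0] * A) := by
      rw [phiMat_mul ι e hc hrel, phiMat_mul ι e hc hrel, hM', hgM]
    have c1 := phiMat_coeff ι e hc hrel hsum (A * !![0, 1; 0, 0])
    have c1' := phiMat_coeff ι e hc hrel hsum (!![0, 1; 0, 0] * A)
    have c2 := phiMat_coeff ι e hc hrel hsum (A * !![0, 0; Polynomial.X, 0])
    have c2' := phiMat_coeff ι e hc hrel hsum (!![0, 0; Polynomial.X, 0] * A)
    have h10 : ι (A 1 0) = 0 := by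
      have h := (c1 0 0).symm.trans ((by rw [k1] : _ = _).trans (c1' 0 0))
      simpa [Matrix.mul_apply, Fin.sum_univ_two] using h.symm
    have h11 : ι (A 1 1) = ι (A 0 0) := by
      have h := (c1 0 1).symm.trans ((by rw [k1] : _ = _).trans (c1' 0 1))
      simpa [Matrix.mul_apply, Fin.sum_univ_two] using h.symm
    have h01 : ι (A 0 1) = 0 := by
      have h := (c2 0 0).symm.trans ((by rw [k2] : _ = _).trans (c2' 0 0))
      have h' : ι (A 0 1) * Γ = 0 := by
        simpa [Matrix.mul_apply, Fin.sum_univ_two, hιX] using h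
      calc ι (A 0 1) = ι (A 0 1) * Γ * Δ := by rw [mul_assoc, hΔ1, mul_one]
        _ = 0 := by rw [h', zero_mul]
    have ha2 : ι (A 0 0) * ι (A 0 0) = 1 := by
      have h := congrArg ι hA
      rw [Matrix.det_fin_two, map_sub, map_mul, map_mul, h01, h11, zero_mul, sub_zero, map_one] at h
      exact h
    rw [← phiMat_mul ι e hc hrel]
    unfold phiMat
    simp only [Fin.sum_univ_two, Matrix.mul_apply, map_add, map_mul, h01, h10, h11]
    simp only [mul_zero, zero_mul, add_zero, zero_add, ha2, one_mul]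
    exact hsum
  · rintro g ⟨A, hA, rfl⟩ hgg
    have k1 : phiMat ι e (A * A) = phiMat ι e 1 := by
      rw [phiMat_mul ι e hc hrel, hgg, hone]
    have c00 : ι ((A * A) 0 0) = ι ((1 : Matrix (Fin 2) (Fin 2) (Polynomial ℤ)) 0 0) := by
      rw [← phiMat_coeff ι e hc hrel hsum (A * A) 0 0, k1, phiMat_coeff ι e hc hrel hsum]
    have c01 : ι ((A * A) 0 1) = ι ((1 : Matrix (Fin 2) (Fin 2) (Polynomial ℤ)) 0 1) := by
      rw [← phiMat_coeff ι e hc hrel hsum (A * A) 0 1, k1, phiMat_coeff ι e hc hrel hsum]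
    have c10 : ι ((A * A) 1 0) = ι ((1 : Matrix (Fin 2) (Fin 2) (Polynomial ℤ)) 1 0) := by
      rw [← phiMat_coeff ι e hc hrel hsum (A * A) 1 0, k1, phiMat_coeff ι e hc hrel hsum]
    have c11 : ι ((A * A) 1 1) = ι ((1 : Matrix (Fin 2) (Fin 2) (Polynomial ℤ)) 1 1) := by
      rw [← phiMat_coeff ι e hc hrel hsum (A * A) 1 1, k1, phiMat_coeff ι e hc hrel hsum]
    have d00 : ι (A 0 0 * A 0 0 + A 0 1 * A 1 0) = 1 := by
      have : (A * A) 0 0 = A 0 0 * A 0 0 + A 0 1 * A 1 0 := by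
        simp [Matrix.mul_apply, Fin.sum_univ_two]
      rw [← this, c00]; simp
    have d01 : ι (A 0 0 * A 0 1 + A 0 1 * A 1 1) = 0 := by
      have : (A * A) 0 1 = A 0 0 * A 0 1 + A 0 1 * A 1 1 := by
        simp [Matrix.mul_apply, Fin.sum_univ_two]
      rw [← this, c01]; simp
    have d10 : ι (A 1 0 * A 0 0 + A 1 1 * A 1 0) = 0 := by
      have : (A * A) 1 0 = A 1 0 * A 0 0 + A 1 1 * A 1 0 := by
        simp [Matrix.mul_apply, Fin.sum_univ_two]
      rw [← this, c10]; simp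
    have d11 : ι (A 1 0 * A 0 1 + A 1 1 * A 1 1) = 1 := by
      have : (A * A) 1 1 = A 1 0 * A 0 1 + A 1 1 * A 1 1 := by
        simp [Matrix.mul_apply, Fin.sum_univ_two]
      rw [← this, c11]; simp
    have ddet : ι (A 0 0 * A 1 1 - A 0 1 * A 1 0) = 1 := by
      have h := congrArg ι hA
      rw [Matrix.det_fin_two, map_one] at h
      exact h
    have d00' : ι (A 0 0) * ι (A 0 0) + ι (A 0 1) * ι (A 1 0) = 1 := by
      rw [← map_mul, ← map_mul, ← map_add]; exact d00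
    have d01' : ι (A 0 0) * ι (A 0 1) + ι (A 0 1) * ι (A 1 1) = 0 := by
      rw [← map_mul, ← map_mul, ← map_add]; exact d01
    have d10' : ι (A 1 0) * ι (A 0 0) + ι (A 1 1) * ι (A 1 0) = 0 := by
      rw [← map_mul, ← map_mul, ← map_add]; exact d10
    have d11' : ι (A 1 0) * ι (A 0 1) + ι (A 1 1) * ι (A 1 1) = 1 := by
      rw [← map_mul, ← map_mul, ← map_add]; exact d11
    have ddet' : ι (A 0 0) * ι (A 1 1) - ι (A 0 1) * ι (A 1 0) = 1 := by
      rw [← map_mul, ← map_mul, ← map_sub]; exact ddet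
    have hb : ι (A 0 1) + ι (A 0 1) = 0 := by
      have e1 : A 0 1 + A 0 1 = ((1 - (A 0 0 * A 0 0 + A 0 1 * A 1 0)) +
          (1 - (A 0 0 * A 1 1 - A 0 1 * A 1 0))) * A 0 1 +
          A 0 0 * (A 0 0 * A 0 1 + A 0 1 * A 1 1) := by ring
      have e2 := congrArg ι e1
      simp only [map_add, map_sub, map_mul, map_one] at e2
      rw [d00', ddet', d01'] at e2
      rw [e2]; simp
    have hcc : ι (A 1 0) + ι (A 1 0) = 0 := by
      have e1 : A 1 0 + A 1 0 = ((1 - (A 0 0 * A 0 0 + A 0 1 * A 1 0)) +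
          (1 - (A 0 0 * A 1 1 - A 0 1 * A 1 0))) * A 1 0 +
          A 0 0 * (A 1 0 * A 0 0 + A 1 1 * A 1 0) := by ring
      have e2 := congrArg ι e1
      simp only [map_add, map_sub, map_mul, map_one] at e2
      rw [d00', ddet', d10'] at e2
      rw [e2]; simp
    have hd : ι (A 1 1) + ι (A 1 1) = ι (A 0 0) + ι (A 0 0) := by
      have e1 : A 1 1 + A 1 1 = (A 0 0 + A 0 0) +
          (((1 - (A 0 0 * A 0 0 + A 0 1 * A 1 0)) + (1 - (A 0 0 * A 1 1 - A 0 1 * A 1 0))) * A 1 1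
          - ((1 - (A 1 0 * A 0 1 + A 1 1 * A 1 1)) + (1 - (A 0 0 * A 1 1 - A 0 1 * A 1 0))) * A 0 0)
          := by ring
      have e2 := congrArg ι e1
      simp only [map_add, map_sub, map_mul, map_one] at e2
      rw [d00', ddet', d11'] at e2
      rw [e2]; simp
    have hgsum : phiMat ι e A + phiMat ι e A = ι (A 0 0) + ι (A 0 0) := by
      unfold phiMat
      simp only [Fin.sum_univ_two]
      have e3 : ι (A 0 0) * e 0 0 + ι (A 0 1) * e 0 1 + (ι (A 1 0) * e 1 0 + ι (A 1 1) * e 1 1) +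
          (ι (A 0 0) * e 0 0 + ι (A 0 1) * e 0 1 + (ι (A 1 0) * e 1 0 + ι (A 1 1) * e 1 1)) =
          (ι (A 0 0) + ι (A 0 0)) * e 0 0 + (ι (A 0 1) + ι (A 0 1)) * e 0 1 +
          ((ι (A 1 0) + ι (A 1 0)) * e 1 0 + (ι (A 1 1) + ι (A 1 1)) * e 1 1) := by
        simp only [add_mul]; abel
      rw [e3, hb, hcc, hd, zero_mul, zero_mul, add_zero, zero_add, ← mul_add, hsum, mul_one]
    rw [hgsum]
    constructor
    · rw [← map_add]; exact (hcN _).eq
    · rw [← map_add]; exact (hcM _).eq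

end QuadMat2

end Cfsg.Agent.Lib.Helper17
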