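import Mathlib
import Cfsg.Agent.Lib.Helper12.QuadIrr
import Cfsg.Agent.Lib.Helper17.QuadMat2

set_option autoImplicit false
set_option linter.unusedSimpArgs false
set_option linter.style.haveILetI false

/-!
Two quadratic elements generating a group that acts irreducibly and nontrivially on an abelian
`p`-group, `p` odd: elements acting centrally square to the identity action, and elements whose
square acts trivially act centrally.
-/

namespace Cfsg.Agent.Lib.Helper17

open Cfsg.Agent.Lib.Helper1 Cfsg.Agent.Lib.Helper5 Cfsg.Agent.Lib.Helper12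

theorem quad_irr2 {A Λ : Type*} [CommGroup A] [Finite A] [Group Λ] [Finite Λ]
    {p : ℕ} [hp : Fact p.Prime] (hp2 : p ≠ 2)
    (hA : IsPGroup p A) (φ : Λ →* MulAut A) (x y : Λ) (hgen : Subgroup.closure {x, y} = ⊤)
    (hx : ∀ v : A, φ x (φ x v / v) = φ x v / v) (hy : ∀ v : A, φ y (φ y v / v) = φ y v / v)
    (hirr : ∀ B : Subgroup A, (∀ b ∈ B, φ x b ∈ B) → (∀ b ∈ B, φ y b ∈ B) → B = ⊥ ∨ B = ⊤)
    (hxy : ¬ (φ x = 1 ∧ φ y = 1)) :
    (∀ g : Λ, φ g * φ x = φ x * φ g → φ g * φ y = φ y * φ g → φ (g * g) = 1) ∧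
    (∀ g : Λ, φ (g * g) = 1 → φ g * φ x = φ x * φ g ∧ φ g * φ y = φ y * φ g) := by
  classical
  obtain ⟨ρ, hρ⟩ : ∃ ρ : Λ →* AddMonoid.End (Additive A), ρ = (autToEnd (A := A)).comp φ :=
    ⟨_, rfl⟩
  have hρapp : ∀ g (w : Additive A), ρ g w = Additive.ofMul (φ g (Additive.toMul w)) := by
    intro g w; rw [hρ]; rfl
  have hsubapp : ∀ (f : AddMonoid.End (Additive A)) (w : Additive A), (f - 1) w = f w - w :=
    fun f w => rfl
  have hquadE : ∀ z : Λ, (∀ v : A, φ z (φ z v / v) = φ z v / v) →
      (ρ z - 1) * (ρ z - 1) = 0 := by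
    intro z hz
    ext w
    show (ρ z - 1) ((ρ z - 1) w) = 0
    rw [hsubapp, hsubapp]
    have key : ρ z (ρ z w - w) = ρ z w - w := by
      rw [hρapp, hρapp]
      have h := hz (Additive.toMul w)
      rw [toMul_sub, toMul_ofMul, h, ofMul_div, ofMul_toMul]
    rw [key, sub_self]
  have hNN := hquadE x hx
  have hMM := hquadE y hy
  -- the common fixed points
  have h0 : ∀ w : Additive A, (ρ x - 1) w = 0 → (ρ y - 1) w = 0 → w = 0 := by
    obtain ⟨B, hB⟩ : ∃ B : Subgroup A, ∀ a, a ∈ B ↔ (φ x a = a ∧ φ y a = a) :=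
      ⟨{ carrier := {a | φ x a = a ∧ φ y a = a}
         one_mem' := ⟨map_one _, map_one _⟩
         mul_mem' := by
           rintro a b ⟨h1, h2⟩ ⟨h3, h4⟩
           exact ⟨by rw [map_mul, h1, h3], by rw [map_mul, h2, h4]⟩
         inv_mem' := by
           rintro a ⟨h1, h2⟩
           exact ⟨by rw [map_inv, h1], by rw [map_inv, h2]⟩ }, fun a => Iff.rfl⟩
    have hBx : ∀ b ∈ B, φ x b ∈ B := fun b hb => by rw [((hB b).mp hb).1]; exact hb
    have hBy : ∀ b ∈ B, φ y b ∈ B := fun b hb => by rw [((hB b).mp hb).2]; exact hb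
    rcases hirr B hBx hBy with hbot | htop
    · intro w h1 h2
      rw [hsubapp, sub_eq_zero, hρapp] at h1 h2
      have hw : Additive.toMul w ∈ B := by
        rw [hB]
        exact ⟨congrArg Additive.toMul h1, congrArg Additive.toMul h2⟩
      rw [hbot, Subgroup.mem_bot] at hw
      exact congrArg Additive.ofMul hw
    · exfalso
      apply hxy
      constructor
      · ext a
        have : a ∈ B := by rw [htop]; trivial
        exact ((hB a).mp this).1
      · ext a
        have : a ∈ B := by rw [htop]; trivial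
        exact ((hB a).mp this).2
  -- the sum of the commutators
  have hsum : ∀ w : Additive A, ∃ u v, w = (ρ x - 1) u + (ρ y - 1) v := by
    obtain ⟨T, hT⟩ : ∃ T : Subgroup A, ∀ a, a ∈ T ↔ ∃ u v, a = (φ x u / u) * (φ y v / v) :=
      ⟨{ carrier := {a | ∃ u v, a = (φ x u / u) * (φ y v / v)}
         one_mem' := ⟨1, 1, by simp⟩
         mul_mem' := by
           rintro a b ⟨u, v, rfl⟩ ⟨u', v', rfl⟩
           refine ⟨u * u', v * v', ?_⟩
           rw [map_mul, map_mul, mul_mul_mul_comm, div_mul_div_comm, div_mul_div_comm]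
         inv_mem' := by
           rintro a ⟨u, v, rfl⟩
           refine ⟨u⁻¹, v⁻¹, ?_⟩
           rw [map_inv, map_inv, mul_inv, inv_div_inv, inv_div_inv, inv_div, inv_div] }, fun a => Iff.rfl⟩
    have hTx : ∀ b ∈ T, φ x b ∈ T := by
      intro b hb
      obtain ⟨u, v, rfl⟩ := (hT b).mp hb
      rw [hT]
      refine ⟨u * ((φ x u / u) * (φ y v / v)), v, ?_⟩
      rw [map_mul (φ x) u]
      exact comm_ident1 (φ x u) (φ y v) u v _
    have hTy : ∀ b ∈ T, φ y b ∈ T := by
      intro b hb
      obtain ⟨u, v, rfl⟩ := (hT b).mp hb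
      rw [hT]
      refine ⟨u, v * ((φ x u / u) * (φ y v / v)), ?_⟩
      rw [map_mul (φ y) v]
      exact comm_ident2 (φ x u) (φ y v) u v _
    rcases hirr T hTx hTy with hbot | htop
    · exfalso
      apply hxy
      constructor
      · ext a
        have : φ x a / a ∈ T := by rw [hT]; exact ⟨a, 1, by simp⟩
        rw [hbot, Subgroup.mem_bot] at this
        exact div_eq_one.mp this
      · ext a
        have : φ y a / a ∈ T := by rw [hT]; exact ⟨1, a, by simp⟩
        rw [hbot, Subgroup.mem_bot] at this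
        exact div_eq_one.mp this
    · intro w
      have hw : Additive.toMul w ∈ T := by rw [htop]; trivial
      obtain ⟨u, v, huv⟩ := (hT _).mp hw
      refine ⟨Additive.ofMul u, Additive.ofMul v, ?_⟩
      rw [hsubapp, hsubapp, hρapp, hρapp, toMul_ofMul, toMul_ofMul, ← ofMul_div, ← ofMul_div,
        ← ofMul_mul, ← huv, ofMul_toMul]
  obtain ⟨Δ, hΔ1, hΔ2⟩ := exists_inv_of_quad (ρ x - 1) (ρ y - 1) hNN hMM h0 hsum
  obtain ⟨S, hS1, hS2, hcent, hinvo⟩ := quad_mat_main2 (ρ x - 1) (ρ y - 1) Δ hNN hMM hΔ1 hΔ2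
  rw [add_sub_cancel] at hS1 hS2
  have hS : ∀ g : Λ, ρ g ∈ S := by
    intro g
    have hg : g ∈ Subgroup.closure {x, y} := by rw [hgen]; trivial
    induction hg using Subgroup.closure_induction with
    | mem z hz =>
      rcases hz with rfl | rfl
      · exact hS1
      · exact hS2
    | one => rw [map_one]; exact S.one_mem
    | mul a b _ _ ha hb => rw [map_mul]; exact S.mul_mem ha hb
    | inv a _ ha =>
      have h1 : a * a ^ (orderOf a - 1) = 1 := by
        rw [← pow_succ', Nat.sub_add_cancel (orderOf_pos a), pow_orderOf_eq_one]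
      rw [← eq_inv_of_mul_eq_one_right h1, map_pow]
      exact S.pow_mem ha _
  have hρmul : ∀ g h : Λ, ρ g * ρ h = ρ h * ρ g ↔ φ g * φ h = φ h * φ g := by
    intro g h
    constructor
    · intro e
      apply autToEnd_injective
      rw [map_mul, map_mul]
      rw [hρ] at e
      exact e
    · intro e
      rw [hρ]
      show autToEnd (φ g) * autToEnd (φ h) = autToEnd (φ h) * autToEnd (φ g)
      rw [← map_mul (autToEnd (A := A)), ← map_mul (autToEnd (A := A)), e]
  have hsub : ∀ g h : Λ, ρ g * ρ h = ρ h * ρ g ↔ ρ g * (ρ h - 1) = (ρ h - 1) * ρ g := by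
    intro g h
    rw [mul_sub, sub_mul, mul_one, one_mul]
    constructor
    · intro e; rw [e]
    · intro e; exact sub_left_injective e
  have htwo : ∀ u : Additive A, u + u = 0 → u = 0 := by
    intro u hu
    have h1 : 2 • u = 0 := by rw [two_nsmul]; exact hu
    obtain ⟨j, hj⟩ := hA (Additive.toMul u)
    have h2 : (p ^ j) • u = 0 := by
      have : Additive.ofMul (Additive.toMul u ^ p ^ j) = 0 := by rw [hj]; rfl
      exact this
    have h3 : addOrderOf u ∣ 2 := addOrderOf_dvd_of_nsmul_eq_zero h1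
    have h4 : addOrderOf u ∣ p ^ j := addOrderOf_dvd_of_nsmul_eq_zero h2
    have hcop : Nat.Coprime 2 (p ^ j) := by
      apply Nat.Coprime.pow_right
      exact (Nat.coprime_primes Nat.prime_two hp.1).mpr (fun h => hp2 h.symm)
    have h5 : addOrderOf u = 1 := Nat.eq_one_of_dvd_coprimes hcop h3 h4
    exact AddMonoid.addOrderOf_eq_one_iff.mp h5
  constructor
  · intro g hgx hgy
    have h5 := hcent (ρ g) (hS g) ((hsub g x).mp ((hρmul g x).mpr hgx))
      ((hsub g y).mp ((hρmul g y).mpr hgy))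
    apply autToEnd_injective
    rw [map_one, map_mul, map_mul]
    rw [hρ] at h5
    exact h5
  · intro g hgg
    have h5 : ρ g * ρ g = 1 := by
      rw [← map_mul, hρ]
      show autToEnd (φ (g * g)) = 1
      rw [hgg, map_one]
    obtain ⟨k1, k2⟩ := hinvo (ρ g) (hS g) h5
    have key : ∀ n : AddMonoid.End (Additive A), (ρ g + ρ g) * n = n * (ρ g + ρ g) →
        ρ g * n = n * ρ g := by
      intro n hn
      apply AddMonoidHom.ext
      intro w
      have e1 : (ρ g * n - n * ρ g) w + (ρ g * n - n * ρ g) w = 0 := by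
        have e2 : (ρ g * n - n * ρ g) + (ρ g * n - n * ρ g) = 0 := by
          have e3 : (ρ g * n - n * ρ g) + (ρ g * n - n * ρ g) =
              (ρ g + ρ g) * n - n * (ρ g + ρ g) := by noncomm_ring
          rw [e3, hn, sub_self]
        have := congrArg (fun f : AddMonoid.End (Additive A) => f w) e2
        exact this
      have e4 := htwo _ e1
      have e5 : (ρ g * n - n * ρ g) w = (ρ g * n) w - (n * ρ g) w := rfl
      rw [e5, sub_eq_zero] at e4
      exact e4
    exact ⟨(hρmul g x).mp ((hsub g x).mpr (key _ k1)), (hρmul g y).mp ((hsub g y).mpr (key _ k2))⟩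

end Cfsg.Agent.Lib.Helper17
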