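import Mathlib
import Cfsg.Prelude.Def_LocalEven
import Cfsg.Agent.Lib.Helper17.QuadIrr2
import Cfsg.Agent.Lib.Helper17.S4Rec
import Cfsg.Agent.Lib.Helper1.CoprimeSylow
import Cfsg.Agent.Lib.Helper2.SL23Sec
import Cfsg.Agent.Lib.Helper12.CN

set_option autoImplicit false
set_option linter.unusedSimpArgs false
set_option linter.unusedVariables false
set_option linter.style.haveILetI false

/-!
Quadratic action and normal `p'`-subgroups: if `a` acts quadratically on an elementary abelian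
`p`-group (`p` odd) and does not centralize an `a`-invariant `p'`-group `R` of automorphisms,
then `p = 3` and `SL(2,3)` is involved.
-/

namespace Cfsg.Agent.Lib.Helper17

open Cfsg.Agent.Lib.Helper1 Cfsg.Agent.Lib.Helper12
open scoped commutatorElement

section QuadSol

variable {A X : Type*} [CommGroup A] [Group X]

/-- quadratic action of `a` through `φ` -/
def QuadAct (φ : X →* MulAut A) (a : X) : Prop := ∀ v : A, φ a (φ a v / v) = φ a v / v

theorem quadAct_inv (φ : X →* MulAut A) (a : X) (h : QuadAct φ a) : QuadAct φ a⁻¹ := by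
  intro v
  obtain ⟨u, hu⟩ : ∃ u, u = φ a⁻¹ v := ⟨_, rfl⟩
  have hv : v = φ a u := by
    rw [hu, ← MulAut.mul_apply, ← map_mul, mul_inv_cancel, map_one, MulAut.one_apply]
  have h1 := h u
  rw [← hu, hv]
  have e1 : u / φ a u = (φ a u / u)⁻¹ := by rw [inv_div]
  rw [e1, map_inv]
  congr 1
  have h2 : φ a⁻¹ (φ a (φ a u / u)) = φ a u / u := by
    rw [← MulAut.mul_apply, ← map_mul, inv_mul_cancel, map_one, MulAut.one_apply]
  rw [h1] at h2
  exact h2

theorem quadAct_conj (φ : X →* MulAut A) (a g : X) (h : QuadAct φ a) :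
    QuadAct φ (g * a * g⁻¹) := by
  intro v
  obtain ⟨u, hu⟩ : ∃ u, u = φ g⁻¹ v := ⟨_, rfl⟩
  have hv : v = φ g u := by
    rw [hu, ← MulAut.mul_apply, ← map_mul, mul_inv_cancel, map_one, MulAut.one_apply]
  have e0 : ∀ w, φ (g * a * g⁻¹) (φ g w) = φ g (φ a w) := by
    intro w
    rw [map_mul, map_mul, MulAut.mul_apply, MulAut.mul_apply, map_inv, MulAut.inv_apply_self]
  rw [hv, e0, ← map_div, e0, h u]


universe u₁ u₂ u₃

theorem involves_of_surjective_hom {G : Type u₁} {G' : Type u₂} {H : Type u₃} [Group G] [Group G']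
    [Group H] (f : G →* G') (hf : Function.Surjective f) (h : Cfsg.Involves H G') :
    Cfsg.Involves H G := by
  obtain ⟨K, φ, hφ⟩ := exists_hom_of_involves h
  refine involves_of_surjective (K.comap f) (φ.comp (f.subgroupComap K)) ?_
  intro x
  obtain ⟨k, rfl⟩ := hφ x
  obtain ⟨g, hg⟩ := hf (k : G')
  refine ⟨⟨g, ?_⟩, ?_⟩
  · rw [Subgroup.mem_comap, hg]
    exact k.2
  · rw [MonoidHom.comp_apply]
    congr 1
    exact Subtype.ext hg

/-- Recognition of `SL(2,3)` as a section from quaternion relations and an element of order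
three. -/
theorem sl23_of_relations {Γ : Type*} [Group Γ] [Finite Γ] (i j g ε : Γ) (hε : ε ≠ 1)
    (hε2 : ε * ε = 1) (hεc : ∀ f : Γ, f * ε = ε * f) (hi : i * i = ε) (hj : j * j = ε)
    (hij : i⁻¹ * j * i * j⁻¹ = ε) (hg3 : g ^ 3 = 1) (hgi : g * i * g⁻¹ = j)
    (hk : i * j * (g * j * g⁻¹) = 1 ∨ i * j * (g * j * g⁻¹) = ε) :
    Cfsg.Involves (Matrix.SpecialLinearGroup (Fin 2) (ZMod 3)) Γ := by
  have h1 : orderOf i = 4 := by
    have h := orderOf_eq_prime_pow (x := i) (p := 2) (n := 1) (by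
      rw [pow_one, pow_two, hi]; exact hε) (by
      have : i ^ 2 ^ (1 + 1) = (i * i) * (i * i) := by
        show i ^ 4 = _
        rw [show (4 : ℕ) = 2 + 2 from rfl, pow_add, pow_two]
      rw [this, hi, hε2])
    rw [h]; norm_num
  have i4 : i ^ 4 = 1 := by rw [← h1]; exact pow_orderOf_eq_one i
  have e1 : i⁻¹ = ε * i := by
    apply inv_eq_of_mul_eq_one_right
    rw [← mul_assoc, hεc, mul_assoc, hi, hε2]
  have e1j : j⁻¹ = ε * j := by
    apply inv_eq_of_mul_eq_one_right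
    rw [← mul_assoc, hεc, mul_assoc, hj, hε2]
  have e2 : j * i = ε * (i * j) := by
    have : j * i = i * (i⁻¹ * j * i * j⁻¹) * j := by group
    rw [this, hij, hεc, mul_assoc]
  have h3 : i * j = j * i⁻¹ := by
    rw [e1, ← mul_assoc, hεc, mul_assoc, e2, ← mul_assoc, hε2, one_mul]
  have h2 : j * j = i ^ 2 := by rw [pow_two, hi, hj]
  have h4 : j ∉ Subgroup.zpowers i := by
    intro h
    obtain ⟨k, hk⟩ := Subgroup.mem_zpowers_iff.mp h
    have hc : Commute i j := by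
      rw [← hk]
      exact (Commute.refl i).zpow_right k
    apply hε
    have h5 : i * j = ε * (i * j) := by
      nth_rewrite 1 [hc.eq]
      exact e2
    exact (mul_eq_right.mp h5.symm)
  have i3 : i ^ 3 = i⁻¹ := by
    apply eq_inv_of_mul_eq_one_left
    rw [← pow_succ]
    exact i4
  have h7 : Odd (orderOf g) := by
    have hd : orderOf g ∣ 3 := orderOf_dvd_of_pow_eq_one hg3
    rcases (Nat.dvd_prime Nat.prime_three).mp hd with h | h
    · rw [h]; exact odd_one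
    · rw [h]; decide
  have hji : j⁻¹ * i⁻¹ = j * i := by
    calc j⁻¹ * i⁻¹ = (ε * j) * (ε * i) := by rw [e1, e1j]
      _ = ε * (j * ε) * i := by group
      _ = ε * (ε * j) * i := by rw [hεc j]
      _ = (ε * ε) * (j * i) := by group
      _ = j * i := by rw [hε2, one_mul]
  rcases hk with hk | hk
  · -- use `(i, j * i, g⁻¹)`
    have hgj : g * j * g⁻¹ = j * i := by
      have : g * j * g⁻¹ = (i * j)⁻¹ * (i * j * (g * j * g⁻¹)) := by group
      rw [this, hk, mul_one, mul_inv_rev, hji]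
    have ginv : g⁻¹ = g * g := by
      apply inv_eq_of_mul_eq_one_right
      have : g * (g * g) = g ^ 3 := by rw [pow_succ, pow_two, mul_assoc]
      rw [this, hg3]
    have h7' : Odd (orderOf g⁻¹) := by rw [orderOf_inv]; exact h7
    refine Cfsg.Agent.Lib.Helper2.exists_sl23_section i (j * i) g⁻¹ h1 ?_ ?_ ?_ ?_ ?_ h7'
    · -- (j i)(j i) = i^2
      have : j * i * (j * i) = j * (i * j) * i := by group
      rw [this, h3, pow_two, hi]
      have : j * (j * i⁻¹) * i = j * j := by group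
      rw [this, hj]
    · have : i * (j * i) = (i * j) * i := by group
      rw [this, h3]
      group
    · intro h
      apply h4
      have : j = (j * i) * i⁻¹ := by group
      rw [this]
      exact Subgroup.mul_mem _ h (Subgroup.inv_mem _ (Subgroup.mem_zpowers i))
    · rw [inv_inv]
      have : g⁻¹ * i * g = g * (g * i * g⁻¹) * g⁻¹ := by
        have gg : g = (g * g)⁻¹ := by rw [← ginv, inv_inv]
        calc g⁻¹ * i * g = (g * g) * i * (g * g)⁻¹ := by rw [← gg, ← ginv]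
          _ = g * (g * i * g⁻¹) * g⁻¹ := by group
      rw [this, hgi, hgj]
    · rw [inv_inv]
      have : g⁻¹ * (j * i) * g = j := by
        rw [← hgj]; group
      rw [this, mul_assoc, ← pow_succ', i4, mul_one]
  · have hgj : g * j * g⁻¹ = j * i ^ 3 := by
      have : g * j * g⁻¹ = (i * j)⁻¹ * (i * j * (g * j * g⁻¹)) := by group
      rw [this, hk, i3, ← h3]
      calc (i * j)⁻¹ * ε = j⁻¹ * i⁻¹ * ε := by group
        _ = j * i * ε := by rw [hji]
        _ = ε * (i * j) * ε := by rw [e2]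
        _ = (i * j) * ε * ε := by rw [← hεc (i * j)]
        _ = i * j := by rw [mul_assoc, hε2, mul_one]
    exact Cfsg.Agent.Lib.Helper2.exists_sl23_section i j g h1 h2 h3 h4 hgi hgj h7

set_option maxHeartbeats 3200000 in
theorem quad_sol_core [Finite A] [Finite X] {p : ℕ} [hp : Fact p.Prime] (hp2 : p ≠ 2)
    (hAp : ∀ v : A, v ^ p = 1) (φ : X →* MulAut A) (hφ : Function.Injective φ)
    (a : X) (hq : QuadAct φ a) (R : Subgroup X) (hRcop : (Nat.card R).Coprime p)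
    (haR : ∀ r ∈ R, a * r * a⁻¹ ∈ R) (hne : ∃ r ∈ R, a * r * a⁻¹ ≠ r)
    (hmin : ∀ T : Subgroup X, T ≤ R → (∀ r ∈ T, a * r * a⁻¹ ∈ T) →
      (∃ r ∈ T, a * r * a⁻¹ ≠ r) → R ≤ T) :
    p = 3 ∧ Cfsg.Involves (Matrix.SpecialLinearGroup (Fin 2) (ZMod 3)) X := by
  classical
  have hpp : p.Prime := hp.1
  have hmin' : ∀ T : Subgroup X, T ≤ R → (∀ r ∈ T, a * r * a⁻¹ ∈ T) → ¬ R ≤ T →
      ∀ t ∈ T, a * t * a⁻¹ = t := by
    intro T hT h1 h2 t ht
    by_contra h
    exact h2 (hmin T hT h1 ⟨t, ht, h⟩)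
  -- `a ^ p = 1`
  have hap : a ^ p = 1 := by
    apply hφ
    rw [map_one]
    ext v
    have key : ∀ k : ℕ, φ (a ^ k) v = v * (φ a v / v) ^ k := by
      intro k
      induction k with
      | zero => simp
      | succ k ih =>
        rw [pow_succ', map_mul, MulAut.mul_apply, ih, map_mul, map_pow, hq v, pow_succ',
          ← mul_assoc, mul_div_cancel]
    rw [key, hAp, mul_one]
    rfl
  obtain ⟨m, hm⟩ : ∃ m, p = 2 * m + 1 := by
    rcases hpp.eq_two_or_odd with h | h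
    · exact absurd h hp2
    · exact ⟨p / 2, by omega⟩
  have hsq : ∀ y : X, (a * a) * y = y * (a * a) → a * y = y * a := by
    intro y hy
    have h1 : (a * a) ^ (m + 1) = a := by
      rw [← pow_two, ← pow_mul]
      have : 2 * (m + 1) = p + 1 := by omega
      rw [this, pow_succ, hap, one_mul]
    have h2 : Commute ((a * a) ^ (m + 1)) y := (show Commute (a * a) y from hy).pow_left _
    rw [h1] at h2
    exact h2.eq
  -- the fixed points
  obtain ⟨D, hD⟩ : ∃ D : Subgroup X, ∀ x, x ∈ D ↔ x ∈ R ∧ a * x * a⁻¹ = x :=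
    ⟨{ carrier := {x | x ∈ R ∧ a * x * a⁻¹ = x}
       one_mem' := ⟨R.one_mem, by group⟩
       mul_mem' := by
         rintro x y ⟨hx, hx'⟩ ⟨hy, hy'⟩
         refine ⟨R.mul_mem hx hy, ?_⟩
         have : a * (x * y) * a⁻¹ = (a * x * a⁻¹) * (a * y * a⁻¹) := by group
         rw [this, hx', hy']
       inv_mem' := by
         rintro x ⟨hx, hx'⟩
         refine ⟨R.inv_mem hx, ?_⟩
         have : a * x⁻¹ * a⁻¹ = (a * x * a⁻¹)⁻¹ := by group
         rw [this, hx'] }, fun x => Iff.rfl⟩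
  have hDR : D ≤ R := fun x hx => ((hD x).mp hx).1
  have hDa : ∀ d ∈ D, a * d * a⁻¹ = d := fun x hx => ((hD x).mp hx).2
  have hDa' : ∀ d ∈ D, a * d = d * a := by
    intro d hd
    have h := hDa d hd
    have : a * d = (a * d * a⁻¹) * a := by group
    rw [this, h]
  have hRpow : ∀ s ∈ R, s ^ p = 1 → s = 1 := by
    intro s hs hsp
    have h1 : orderOf s ∣ p := orderOf_dvd_of_pow_eq_one hsp
    have h2 : orderOf s ∣ Nat.card R := Subgroup.orderOf_dvd_natCard R hs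
    have h3 : orderOf s = 1 := Nat.eq_one_of_dvd_coprimes hRcop h2 h1
    exact orderOf_eq_one_iff.mp h3
  have hfix : ∀ g : X, g ^ p = 1 → (∀ d ∈ D, g * d * g⁻¹ = d) → ∀ x ∈ R,
      g * x * g⁻¹ * x⁻¹ ∈ D → g * x * g⁻¹ = x := by
    intro g hgp hgD x hx hs
    obtain ⟨s, hsdef⟩ : ∃ s, s = g * x * g⁻¹ * x⁻¹ := ⟨_, rfl⟩
    rw [← hsdef] at hs
    have hgx : g * x * g⁻¹ = s * x := by rw [hsdef]; group
    have hgs : g * s * g⁻¹ = s := hgD s hs
    have key : ∀ k : ℕ, g ^ k * x * (g ^ k)⁻¹ = s ^ k * x := by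
      intro k
      induction k with
      | zero => simp
      | succ k ih =>
        have e1 : g ^ (k + 1) * x * (g ^ (k + 1))⁻¹ = g * (g ^ k * x * (g ^ k)⁻¹) * g⁻¹ := by
          rw [pow_succ']; group
        rw [e1, ih]
        have e2 : g * (s ^ k * x) * g⁻¹ = (g * s * g⁻¹) ^ k * (g * x * g⁻¹) := by
          rw [conj_pow]; group
        rw [e2, hgs, hgx, pow_succ, mul_assoc]
    have h1 := key p
    rw [hgp] at h1
    have h2 : s ^ p = 1 := by
      have h1' : x = s ^ p * x := by simpa using h1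
      exact mul_eq_right.mp h1'.symm
    have h3 := hRpow s (hDR hs) h2
    rw [hgx, h3, one_mul]
  have hfixa : ∀ x ∈ R, a * x * a⁻¹ * x⁻¹ ∈ D → a * x * a⁻¹ = x := hfix a hap hDa
  -- `R` is a `q`-group
  have hZnorm : Subgroup.zpowers a ≤ Subgroup.normalizer (R : Set X) := by
    rw [Subgroup.zpowers_le]
    exact mem_normalizer_of_conj R a haR
  have hZcop : (Nat.card (Subgroup.zpowers a)).Coprime (Nat.card R) := by
    rw [Nat.card_zpowers]
    have h1 : orderOf a ∣ p := orderOf_dvd_of_pow_eq_one hap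
    exact Nat.Coprime.coprime_dvd_left h1 hRcop.symm
  have hZsolv : Group.IsSolvable (Subgroup.zpowers a) := by
    apply Group.isSolvable_of_comm
    rintro ⟨x, hx⟩ ⟨y, hy⟩
    obtain ⟨i, rfl⟩ := Subgroup.mem_zpowers_iff.mp hx
    obtain ⟨j, rfl⟩ := Subgroup.mem_zpowers_iff.mp hy
    apply Subtype.ext
    show a ^ i * a ^ j = a ^ j * a ^ i
    rw [← zpow_add, ← zpow_add, add_comm]
  have hqgrp : ∃ q : ℕ, q.Prime ∧ IsPGroup q R := by
    by_contra hcon
    push Not at hcon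
    have hall : ∀ q : ℕ, q.Prime → q ^ (Nat.card R).factorization q ∣ Nat.card D := by
      intro q hqp
      haveI : Fact q.Prime := ⟨hqp⟩
      obtain ⟨P, hP⟩ := exists_invariant_sylow (Subgroup.zpowers a) R hZnorm hZcop
        (Or.inl hZsolv) q
      obtain ⟨T, hTdef⟩ : ∃ T : Subgroup X, T = (P : Subgroup R).map R.subtype := ⟨_, rfl⟩
      rw [← hTdef] at hP
      have hTR : T ≤ R := hTdef ▸ Subgroup.map_subtype_le _
      have hTa : ∀ t ∈ T, a * t * a⁻¹ ∈ T := by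
        intro t ht
        exact (Subgroup.mem_normalizer_iff.mp (hP (Subgroup.mem_zpowers a)) t).mp ht
      have hnot : ¬ R ≤ T := by
        intro hRT
        apply hcon q hqp
        intro r
        have hr : (r : X) ∈ T := hRT r.2
        rw [hTdef] at hr
        obtain ⟨x, hx, hxr⟩ := Subgroup.mem_map.mp hr
        have hxr' : x = r := Subtype.ext (by simpa using hxr)
        obtain ⟨k, hk⟩ := P.isPGroup' ⟨x, hx⟩
        refine ⟨k, ?_⟩
        rw [← hxr']
        have := congrArg Subtype.val hk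
        simpa using this
      have hTD : T ≤ D := by
        intro t ht
        rw [hD]
        exact ⟨hTR ht, hmin' T hTR hTa hnot t ht⟩
      have hcard : Nat.card T = q ^ (Nat.card R).factorization q := by
        rw [hTdef, Subgroup.card_map_of_injective R.subtype_injective]
        exact P.card_eq_multiplicity
      rw [← hcard]
      exact Subgroup.card_dvd_of_le hTD
    have hdvd : Nat.card R ∣ Nat.card D := by
      rw [← Nat.factorization_prime_le_iff_dvd Nat.card_pos.ne' Nat.card_pos.ne']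
      intro q hqp
      exact (hqp.pow_dvd_iff_le_factorization Nat.card_pos.ne').mp (hall q hqp)
    have hDeq : D = R := Subgroup.eq_of_le_of_card_ge hDR (Nat.le_of_dvd Nat.card_pos hdvd)
    obtain ⟨r, hr, hr'⟩ := hne
    have : r ∈ D := hDeq ▸ hr
    exact hr' ((hD r).mp this).2
  obtain ⟨q, hqp, hRq⟩ := hqgrp
  haveI : Fact q.Prime := ⟨hqp⟩
  haveI hRnil : Group.IsNilpotent R := hRq.isNilpotent
  -- `[R, a] = R`
  obtain ⟨C₁, hC₁⟩ : ∃ C₁ : Subgroup X,
      C₁ = Subgroup.closure {y | ∃ r ∈ R, y = a * r * a⁻¹ * r⁻¹} := ⟨_, rfl⟩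
  have hC₁R : C₁ ≤ R := by
    rw [hC₁, Subgroup.closure_le]
    rintro y ⟨r, hr, rfl⟩
    exact R.mul_mem (haR r hr) (R.inv_mem hr)
  have hC₁a : ∀ t ∈ C₁, a * t * a⁻¹ ∈ C₁ := by
    have hle : C₁ ≤ C₁.comap (MulAut.conj a).toMonoidHom := by
      nth_rewrite 1 [hC₁]
      rw [Subgroup.closure_le]
      rintro y ⟨r, hr, rfl⟩
      show a * (a * r * a⁻¹ * r⁻¹) * a⁻¹ ∈ C₁
      rw [hC₁]
      apply Subgroup.subset_closure
      exact ⟨a * r * a⁻¹, haR r hr, by group⟩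
    intro t ht
    exact hle ht
  have hRC₁ : R ≤ C₁ := by
    by_contra hcon
    have h1 := hmin' C₁ hC₁R hC₁a hcon
    obtain ⟨r, hr, hr'⟩ := hne
    apply hr'
    apply hfixa r hr
    rw [hD]
    have hmem : a * r * a⁻¹ * r⁻¹ ∈ C₁ := by
      rw [hC₁]; exact Subgroup.subset_closure ⟨r, hr, rfl⟩
    exact ⟨hC₁R hmem, h1 _ hmem⟩
  -- `D` is normal in `R`
  have haND : a ∈ Subgroup.normalizer (D : Set X) := by
    apply mem_normalizer_of_conj D a
    intro d hd
    rw [hDa d hd]; exact hd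
  have hDnorm : ∀ r ∈ R, ∀ d ∈ D, r * d * r⁻¹ ∈ D := by
    obtain ⟨T, hT⟩ : ∃ T : Subgroup X, T = R ⊓ Subgroup.normalizer (D : Set X) := ⟨_, rfl⟩
    have hTR : T ≤ R := hT ▸ inf_le_left
    have hTa : ∀ t ∈ T, a * t * a⁻¹ ∈ T := by
      intro t ht
      rw [hT] at ht ⊢
      obtain ⟨h1, h2⟩ := Subgroup.mem_inf.mp ht
      exact Subgroup.mem_inf.mpr ⟨haR t h1,
        Subgroup.mul_mem _ (Subgroup.mul_mem _ haND h2) (Subgroup.inv_mem _ haND)⟩
    have hex : ∃ t ∈ T, a * t * a⁻¹ ≠ t := by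
      have hlt : D.subgroupOf R < ⊤ := by
        rw [lt_top_iff_ne_top]
        intro h
        obtain ⟨r, hr, hr'⟩ := hne
        have h1 : (⟨r, hr⟩ : R) ∈ D.subgroupOf R := by rw [h]; trivial
        rw [Subgroup.mem_subgroupOf] at h1
        exact hr' (hDa r h1)
      have h2 := Group.normalizerCondition_of_isNilpotent (G := R) (D.subgroupOf R) hlt
      obtain ⟨n, hn, hn'⟩ := SetLike.exists_of_lt h2
      refine ⟨(n : X), ?_, ?_⟩
      · rw [hT]
        refine Subgroup.mem_inf.mpr ⟨n.2, ?_⟩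
        apply mem_normalizer_of_conj D
        intro d hd
        have h3 := (Subgroup.mem_normalizer_iff.mp hn ⟨d, hDR hd⟩).mp
          (Subgroup.mem_subgroupOf.mpr hd)
        rw [Subgroup.mem_subgroupOf] at h3
        simpa using h3
      · intro h
        apply hn'
        rw [Subgroup.mem_subgroupOf, hD]
        exact ⟨n.2, h⟩
    have hRT := hmin T hTR hTa hex
    intro r hr d hd
    have h1 : r ∈ Subgroup.normalizer (D : Set X) := by
      have := hRT hr
      rw [hT] at this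
      exact (Subgroup.mem_inf.mp this).2
    exact (Subgroup.mem_normalizer_iff.mp h1 d).mp hd
  -- `D` is central in `R`
  have hDZ : ∀ d ∈ D, ∀ r ∈ R, r * d = d * r := by
    have hDZ0 : ⁅D, Subgroup.zpowers a⁆ = ⊥ := by
      rw [Subgroup.commutator_eq_bot_iff_le_centralizer]
      intro d hd
      rw [Subgroup.mem_centralizer_iff]
      intro z hz
      obtain ⟨k, rfl⟩ := Subgroup.mem_zpowers_iff.mp hz
      exact ((show Commute a d from hDa' d hd).zpow_left k).eq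
    have h1 : ⁅⁅R, D⁆, Subgroup.zpowers a⁆ = ⊥ := by
      rw [eq_bot_iff, ← hDZ0]
      apply Subgroup.commutator_mono _ le_rfl
      rw [Subgroup.commutator_le]
      intro r hr d hd
      exact D.mul_mem (hDnorm r hr d hd) (D.inv_mem hd)
    have h2 : ⁅⁅D, Subgroup.zpowers a⁆, R⁆ = ⊥ := by
      rw [hDZ0, Subgroup.commutator_bot_left]
    have h3 := Subgroup.commutator_commutator_eq_bot_of_rotate h1 h2
    have h4 : R ≤ ⁅Subgroup.zpowers a, R⁆ := by
      refine hRC₁.trans ?_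
      rw [hC₁, Subgroup.closure_le]
      rintro y ⟨r, hr, rfl⟩
      exact Subgroup.commutator_mem_commutator (Subgroup.mem_zpowers a) hr
    intro d hd r hr
    have h5 : ⁅r, d⁆ ∈ ⁅⁅Subgroup.zpowers a, R⁆, D⁆ :=
      Subgroup.commutator_mem_commutator (h4 hr) hd
    rw [h3, Subgroup.mem_bot, commutatorElement_def] at h5
    have : r * d = (r * d * r⁻¹ * d⁻¹) * (d * r) := by group
    rw [this, h5, one_mul]
  -- `R` is not abelian
  have hIsP : IsPGroup p A := fun v => ⟨1, by rw [pow_one]; exact hAp v⟩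
  have hnonab : ∃ r₁ ∈ R, ∃ r₂ ∈ R, r₁ * r₂ ≠ r₂ * r₁ := by
    by_contra hcon
    push Not at hcon
    haveI hKn : (R.subgroupOf (Subgroup.normalizer (R : Set X))).Normal :=
      Subgroup.normal_in_normalizer
    have haN : a ∈ Subgroup.normalizer (R : Set X) := hZnorm (Subgroup.mem_zpowers a)
    have key := quad_commute_aut hIsP (φ.comp (Subgroup.normalizer (R : Set X)).subtype)
      (R.subgroupOf (Subgroup.normalizer (R : Set X))) ?_ (Nat.card R) hRcop ?_ ⟨a, haN⟩ ?_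
    · obtain ⟨r, hr, hr'⟩ := hne
      apply hr'
      have h1 := key ⟨r, Subgroup.le_normalizer hr⟩ (Subgroup.mem_subgroupOf.mpr hr)
      have h2 : (a * a) * r = r * (a * a) := hφ h1
      have h3 := hsq r h2
      rw [h3]; group
    · intro k₁ hk₁ k₂ hk₂
      have : k₁ * k₂ = k₂ * k₁ :=
        Subtype.ext (hcon _ (Subgroup.mem_subgroupOf.mp hk₁) _ (Subgroup.mem_subgroupOf.mp hk₂))
      rw [this]
    · intro k hk
      have h1 : ((k : X)) ^ Nat.card R = 1 := by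
        have := Subgroup.orderOf_dvd_natCard R (Subgroup.mem_subgroupOf.mp hk)
        exact orderOf_dvd_iff_pow_eq_one.mp this
      have h2 : k ^ Nat.card R = 1 := Subtype.ext (by simpa using h1)
      rw [h2, map_one]
    · intro v
      exact hq v
  -- commutators lie in `D`
  have hR'D : ∀ x ∈ R, ∀ y ∈ R, x * y * x⁻¹ * y⁻¹ ∈ D := by
    obtain ⟨T, hT⟩ : ∃ T : Subgroup X, T = ⁅R, R⁆ := ⟨_, rfl⟩
    have hTR : T ≤ R := by
      rw [hT, Subgroup.commutator_le]
      intro x hx y hy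
      rw [commutatorElement_def]
      exact R.mul_mem (R.mul_mem (R.mul_mem hx hy) (R.inv_mem hx)) (R.inv_mem hy)
    have hTa : ∀ t ∈ T, a * t * a⁻¹ ∈ T := by
      have hle : T ≤ T.comap (MulAut.conj a).toMonoidHom := by
        nth_rewrite 1 [hT]
        rw [Subgroup.commutator_le]
        intro x hx y hy
        show a * ⁅x, y⁆ * a⁻¹ ∈ T
        have e : a * ⁅x, y⁆ * a⁻¹ = ⁅a * x * a⁻¹, a * y * a⁻¹⁆ := by
          rw [commutatorElement_def, commutatorElement_def]; group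
        rw [e, hT]
        exact Subgroup.commutator_mem_commutator (haR x hx) (haR y hy)
      intro t ht
      exact hle ht
    have hnot : ¬ R ≤ T := by
      intro hRT
      haveI : Nontrivial R := by
        obtain ⟨r, hr, hr'⟩ := hne
        refine ⟨⟨⟨r, hr⟩, 1, ?_⟩⟩
        intro h
        apply hr'
        have : r = 1 := congrArg Subtype.val h
        rw [this]; group
      have h1 := Group.IsSolvable.commutator_lt_top_of_nontrivial R
      apply h1.ne
      rw [eq_top_iff]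
      intro x _
      have hx : (x : X) ∈ T := hRT x.2
      rw [hT, ← Subgroup.map_subtype_commutator] at hx
      obtain ⟨y, hy, hyx⟩ := Subgroup.mem_map.mp hx
      have : y = x := Subtype.ext (by simpa using hyx)
      rw [← this]; exact hy
    intro x hx y hy
    rw [hD]
    have hmem : x * y * x⁻¹ * y⁻¹ ∈ T := by
      rw [hT, ← commutatorElement_def]
      exact Subgroup.commutator_mem_commutator hx hy
    exact ⟨hTR hmem, hmin' T hTR hTa hnot _ hmem⟩
  -- the two generators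
  obtain ⟨r₀, hr₀R, hr₀⟩ := hne
  have hr₀D : r₀ ∉ D := fun h => hr₀ (hDa r₀ h)
  obtain ⟨b, hb⟩ : ∃ b, b = r₀ * a⁻¹ * r₀⁻¹ := ⟨_, rfl⟩
  have hqb : QuadAct φ b := hb ▸ quadAct_conj φ a⁻¹ r₀ (quadAct_inv φ a hq)
  obtain ⟨Λ, hΛ⟩ : ∃ Λ : Subgroup X, Λ = Subgroup.closure {a, b} := ⟨_, rfl⟩
  have haΛ : a ∈ Λ := by rw [hΛ]; exact Subgroup.subset_closure (by simp)
  have hbΛ : b ∈ Λ := by rw [hΛ]; exact Subgroup.subset_closure (by simp)
  have hRΛ : R ≤ Λ := by
    obtain ⟨T, hT⟩ : ∃ T : Subgroup X, T = R ⊓ Λ := ⟨_, rfl⟩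
    have hTR : T ≤ R := hT ▸ inf_le_left
    have hTa : ∀ t ∈ T, a * t * a⁻¹ ∈ T := by
      intro t ht
      rw [hT] at ht ⊢
      obtain ⟨h1, h2⟩ := Subgroup.mem_inf.mp ht
      exact Subgroup.mem_inf.mpr ⟨haR t h1, Λ.mul_mem (Λ.mul_mem haΛ h2) (Λ.inv_mem haΛ)⟩
    have hs₀ : a * r₀ * a⁻¹ * r₀⁻¹ ∈ T := by
      rw [hT]
      refine Subgroup.mem_inf.mpr ⟨R.mul_mem (haR r₀ hr₀R) (R.inv_mem hr₀R), ?_⟩
      have : a * r₀ * a⁻¹ * r₀⁻¹ = a * b := by rw [hb]; group
      rw [this]; exact Λ.mul_mem haΛ hbΛ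
    by_contra hcon
    have h1 := hmin' T hTR hTa (fun h => hcon (h.trans (hT ▸ inf_le_right))) _ hs₀
    apply hr₀
    apply hfixa r₀ hr₀R
    rw [hD]
    exact ⟨hTR hs₀, h1⟩
  have hDΛ : ∀ d ∈ D, ∀ l ∈ Λ, l * d = d * l := by
    intro d hd l hl
    have hle : Λ ≤ Subgroup.centralizer {d} := by
      rw [hΛ, Subgroup.closure_le]
      rintro z (rfl | rfl)
      · rw [SetLike.mem_coe, Subgroup.mem_centralizer_iff]
        intro y hy
        rw [Set.mem_singleton_iff] at hy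
        rw [hy]; exact (hDa' d hd).symm
      · rw [SetLike.mem_coe, Subgroup.mem_centralizer_iff]
        intro y hy
        rw [Set.mem_singleton_iff] at hy
        rw [hy, hb]
        have e1 : r₀ * d = d * r₀ := hDZ d hd r₀ hr₀R
        have e2 : a * d = d * a := hDa' d hd
        have e3 : a⁻¹ * d = d * a⁻¹ := by
          have : a⁻¹ * d = a⁻¹ * (d * a) * a⁻¹ := by group
          rw [this, ← e2]; group
        have e4 : r₀⁻¹ * d = d * r₀⁻¹ := by
          have : r₀⁻¹ * d = r₀⁻¹ * (d * r₀) * r₀⁻¹ := by group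
          rw [this, ← e1]; group
        calc d * (r₀ * a⁻¹ * r₀⁻¹) = (d * r₀) * a⁻¹ * r₀⁻¹ := by group
          _ = r₀ * (d * a⁻¹) * r₀⁻¹ := by rw [← e1]; group
          _ = r₀ * a⁻¹ * (d * r₀⁻¹) := by rw [← e3]; group
          _ = r₀ * a⁻¹ * r₀⁻¹ * d := by rw [← e4]; group
    have := (Subgroup.mem_centralizer_iff.mp (hle hl)) d (Set.mem_singleton d)
    exact this.symm
  -- a nontrivial commutator and its commutator module
  obtain ⟨r₁, hr₁, r₂, hr₂, hr₁₂⟩ := hnonab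
  obtain ⟨c₀, hc₀⟩ : ∃ c₀, c₀ = r₁ * r₂ * r₁⁻¹ * r₂⁻¹ := ⟨_, rfl⟩
  have hc₀D : c₀ ∈ D := hc₀ ▸ hR'D r₁ hr₁ r₂ hr₂
  have hc₀1 : c₀ ≠ 1 := by
    intro h
    apply hr₁₂
    have : r₁ * r₂ = (r₁ * r₂ * r₁⁻¹ * r₂⁻¹) * (r₂ * r₁) := by group
    rw [this, ← hc₀, h, one_mul]
  obtain ⟨f, hf⟩ : ∃ f : A →* A, ∀ v, f v = φ c₀ v / v :=
    ⟨{ toFun := fun v => φ c₀ v / v
       map_one' := by simp
       map_mul' := by intro v w; rw [map_mul, mul_div_mul_comm] }, fun v => rfl⟩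
  obtain ⟨W₀, hW₀⟩ : ∃ W₀ : Subgroup A, W₀ = f.range := ⟨_, rfl⟩
  have hW₀Λ : ∀ l ∈ Λ, ∀ w ∈ W₀, φ l w ∈ W₀ := by
    intro l hl w hw
    rw [hW₀] at hw ⊢
    obtain ⟨v, rfl⟩ := hw
    refine ⟨φ l v, ?_⟩
    rw [hf, hf, map_div, ← MulAut.mul_apply, ← MulAut.mul_apply, ← map_mul, ← map_mul,
      hDΛ c₀ hc₀D l hl]
  have hW₀fpf : ∀ w ∈ W₀, φ c₀ w = w → w = 1 := by
    intro w hw hfx
    rw [hW₀] at hw
    obtain ⟨v, hv⟩ := hw
    rw [hf] at hv
    have hfix' : ∀ j : ℕ, φ (c₀ ^ j) w = w := by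
      intro j
      induction j with
      | zero => simp
      | succ j ihj => rw [pow_succ, map_mul, MulAut.mul_apply, hfx, ihj]
    have key : ∀ k : ℕ, w ^ k = φ (c₀ ^ k) v / v := by
      intro k
      induction k with
      | zero => simp
      | succ k ih =>
        have h2 : w = φ (c₀ ^ (k + 1)) v / φ (c₀ ^ k) v := by
          nth_rewrite 1 [← hfix' k]
          rw [← hv, map_div, ← MulAut.mul_apply, ← map_mul, ← pow_succ]
        rw [pow_succ, ih]
        nth_rewrite 1 [h2]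
        rw [mul_comm, div_mul_div_cancel]
    have h3 : w ^ orderOf c₀ = 1 := by
      rw [key, pow_orderOf_eq_one, map_one, MulAut.one_apply, div_self']
    have h4 : orderOf w ∣ orderOf c₀ := orderOf_dvd_of_pow_eq_one h3
    have h5 : orderOf w ∣ p := orderOf_dvd_of_pow_eq_one (hAp w)
    have h6 : orderOf c₀ ∣ Nat.card R := Subgroup.orderOf_dvd_natCard R (hDR hc₀D)
    have h7 : orderOf w = 1 := Nat.eq_one_of_dvd_coprimes hRcop (h4.trans h6) h5
    exact orderOf_eq_one_iff.mp h7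
  have hW₀ne : W₀ ≠ ⊥ := by
    intro h
    apply hc₀1
    apply hφ
    rw [map_one]
    ext v
    have h1 : f v ∈ W₀ := by rw [hW₀]; exact ⟨v, rfl⟩
    rw [h, Subgroup.mem_bot, hf, div_eq_one] at h1
    rw [h1]; rfl
  obtain ⟨W, hWmin⟩ := exists_minimal_of_wellFoundedLT
    (fun W : Subgroup A => W ≤ W₀ ∧ W ≠ ⊥ ∧ (∀ w ∈ W, φ a w ∈ W) ∧ (∀ w ∈ W, φ b w ∈ W))
    ⟨W₀, le_rfl, hW₀ne, hW₀Λ a haΛ, hW₀Λ b hbΛ⟩
  obtain ⟨⟨hWW₀, hWne, hWa, hWb⟩, hWmin'⟩ := hWmin
  have hpowinv : ∀ l : X, (∀ w ∈ W, φ l w ∈ W) → ∀ k : ℕ, ∀ w ∈ W, φ (l ^ k) w ∈ W := by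
    intro l hl k
    induction k with
    | zero => intro w hw; simpa using hw
    | succ k ih =>
      intro w hw
      rw [pow_succ, map_mul, MulAut.mul_apply]
      exact ih _ (hl w hw)
  have hWΛ : ∀ l ∈ Λ, ∀ w ∈ W, φ l w ∈ W := by
    obtain ⟨S, hS⟩ : ∃ S : Subgroup X, ∀ l, l ∈ S ↔ ∀ w ∈ W, φ l w ∈ W :=
      ⟨{ carrier := {l | ∀ w ∈ W, φ l w ∈ W}
         one_mem' := by intro w hw; simpa using hw
         mul_mem' := by
           intro l l' hl hl' w hw
           rw [map_mul, MulAut.mul_apply]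
           exact hl _ (hl' w hw)
         inv_mem' := by
           intro l hl
           have h1 : l⁻¹ = l ^ (orderOf l - 1) := by
             apply inv_eq_of_mul_eq_one_right
             rw [← pow_succ', Nat.sub_add_cancel (orderOf_pos l), pow_orderOf_eq_one]
           show ∀ w ∈ W, φ l⁻¹ w ∈ W
           rw [h1]
           exact hpowinv l hl _ }, fun l => Iff.rfl⟩
    intro l hl
    have hle : Λ ≤ S := by
      rw [hΛ, Subgroup.closure_le]
      rintro z (rfl | rfl)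
      · exact (hS _).mpr hWa
      · exact (hS _).mpr hWb
    exact (hS l).mp (hle hl)
  -- the action on `W`
  obtain ⟨ψ, hψ⟩ : ∃ ψ : ↥Λ →* MulAut ↥W,
      ∀ (l : ↥Λ) (w : ↥W), ((ψ l w : ↥W) : A) = φ (l : X) (w : A) := by
    refine ⟨{
        toFun := fun l =>
        { toFun := fun w => ⟨φ (l : X) (w : A), hWΛ l l.2 w w.2⟩
          invFun := fun w => ⟨φ ((l : X)⁻¹) (w : A), hWΛ _ (Λ.inv_mem l.2) w w.2⟩
          left_inv := by
            intro w
            apply Subtype.ext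
            show φ ((l : X)⁻¹) (φ (l : X) (w : A)) = w
            rw [map_inv, MulAut.inv_apply_self]
          right_inv := by
            intro w
            apply Subtype.ext
            show φ (l : X) (φ ((l : X)⁻¹) (w : A)) = w
            rw [map_inv, MulAut.apply_inv_self]
          map_mul' := by
            intro w w'
            apply Subtype.ext
            show φ (l : X) ((w : A) * (w' : A)) = φ (l : X) (w : A) * φ (l : X) (w' : A)
            rw [map_mul] }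
        map_one' := by
          apply MulEquiv.ext
          intro w
          apply Subtype.ext
          show φ ((1 : ↥Λ) : X) (w : A) = w
          simp
        map_mul' := by
          intro l l'
          apply MulEquiv.ext
          intro w
          apply Subtype.ext
          show φ ((l * l' : ↥Λ) : X) (w : A) = φ (l : X) (φ (l' : X) (w : A))
          simp }, fun l w => rfl⟩
  obtain ⟨a', ha'⟩ : ∃ a' : ↥Λ, (a' : X) = a := ⟨⟨a, haΛ⟩, rfl⟩
  obtain ⟨b', hb'⟩ : ∃ b' : ↥Λ, (b' : X) = b := ⟨⟨b, hbΛ⟩, rfl⟩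
  have hgen : Subgroup.closure ({a', b'} : Set ↥Λ) = ⊤ := by
    subst hΛ
    have h := Subgroup.closure_closure_coe_preimage (k := ({a, b} : Set X))
    have hpre : ((↑) : ↥(Subgroup.closure ({a, b} : Set X)) → X) ⁻¹' {a, b} = {a', b'} := by
      ext z
      simp only [Set.mem_preimage, Set.mem_insert_iff, Set.mem_singleton_iff, Subtype.ext_iff,
        ha', hb']
    rw [hpre] at h
    exact h
  have hWp : IsPGroup p ↥W := by
    intro w
    refine ⟨1, ?_⟩
    apply Subtype.ext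
    rw [pow_one, Subgroup.coe_pow, hAp]
    rfl
  have hqa' : ∀ v : ↥W, ψ a' (ψ a' v / v) = ψ a' v / v := by
    intro v
    apply Subtype.ext
    rw [hψ, Subgroup.coe_div, hψ, ha']
    exact hq v
  have hqb' : ∀ v : ↥W, ψ b' (ψ b' v / v) = ψ b' v / v := by
    intro v
    apply Subtype.ext
    rw [hψ, Subgroup.coe_div, hψ, hb']
    exact hqb v
  have hirr : ∀ B : Subgroup ↥W, (∀ u ∈ B, ψ a' u ∈ B) → (∀ u ∈ B, ψ b' u ∈ B) →
      B = ⊥ ∨ B = ⊤ := by
    intro B hBa hBb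
    by_cases hB : B = ⊥
    · exact Or.inl hB
    · right
      have hP : B.map W.subtype ≤ W₀ ∧ B.map W.subtype ≠ ⊥ ∧
          (∀ w ∈ B.map W.subtype, φ a w ∈ B.map W.subtype) ∧
          (∀ w ∈ B.map W.subtype, φ b w ∈ B.map W.subtype) := by
        refine ⟨(Subgroup.map_subtype_le B).trans hWW₀, ?_, ?_, ?_⟩
        · intro h
          apply hB
          rw [Subgroup.map_eq_bot_iff_of_injective _ W.subtype_injective] at h
          exact h
        · rintro w ⟨u, hu, rfl⟩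
          refine ⟨ψ a' u, hBa u hu, ?_⟩
          show ((ψ a' u : ↥W) : A) = φ a (u : A)
          rw [hψ, ha']
        · rintro w ⟨u, hu, rfl⟩
          refine ⟨ψ b' u, hBb u hu, ?_⟩
          show ((ψ b' u : ↥W) : A) = φ b (u : A)
          rw [hψ, hb']
      have h1 := hWmin' hP (Subgroup.map_subtype_le B)
      rw [eq_top_iff]
      intro u _
      obtain ⟨u', hu', hu''⟩ := h1 u.2
      have : u' = u := Subtype.ext hu''
      rw [← this]; exact hu'
  obtain ⟨c', hc'⟩ : ∃ c' : ↥Λ, (c' : X) = c₀ := ⟨⟨c₀, hRΛ (hDR hc₀D)⟩, rfl⟩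
  have hWnt : ∃ w : ↥W, w ≠ 1 := by
    by_contra h
    push Not at h
    apply hWne
    rw [eq_bot_iff]
    intro w hw
    have := h ⟨w, hw⟩
    rw [Subgroup.mem_bot]
    exact congrArg Subtype.val this
  have hc'fpf : ∀ w : ↥W, ψ c' w = w → w = 1 := by
    intro w hw
    apply Subtype.ext
    apply hW₀fpf (w : A) (hWW₀ w.2)
    rw [← hc', ← hψ, hw]
  have hc'ne : ψ c' ≠ 1 := by
    intro h
    obtain ⟨w, hw⟩ := hWnt
    apply hw
    apply hc'fpf
    rw [h]; rfl
  have hxy : ¬ (ψ a' = 1 ∧ ψ b' = 1) := by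
    rintro ⟨h1, h2⟩
    apply hc'ne
    have : ψ = 1 := by
      apply MonoidHom.eq_of_eqOn_dense hgen
      rintro z (rfl | rfl)
      · rw [h1]; rfl
      · rw [h2]; rfl
    rw [this]; rfl
  obtain ⟨hC1, hC2⟩ := quad_irr2 hp2 hWp ψ a' b' hgen hqa' hqb' hirr hxy
  -- elements of `D` square to the identity on `W`
  have hC1' : ∀ d : ↥Λ, (d : X) ∈ D → ψ (d * d) = 1 := by
    intro d hd
    apply hC1
    · rw [← map_mul, ← map_mul]
      congr 1
      apply Subtype.ext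
      rw [Subgroup.coe_mul, Subgroup.coe_mul, ha']
      exact (hDa' _ hd).symm
    · rw [← map_mul, ← map_mul]
      congr 1
      apply Subtype.ext
      rw [Subgroup.coe_mul, Subgroup.coe_mul]
      exact (hDΛ _ hd _ b'.2).symm
  have hD₀ : ∀ s : ↥Λ, (s : X) ∈ R → ψ s = 1 → (s : X) ∈ D := by
    obtain ⟨T, hT⟩ : ∃ T : Subgroup X, ∀ x, x ∈ T ↔ x ∈ R ∧ ∀ w ∈ W, φ x w = w :=
      ⟨{ carrier := {x | x ∈ R ∧ ∀ w ∈ W, φ x w = w}
         one_mem' := ⟨R.one_mem, by intro w _; simp⟩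
         mul_mem' := by
           rintro x y ⟨hx, hx'⟩ ⟨hy, hy'⟩
           refine ⟨R.mul_mem hx hy, ?_⟩
           intro w hw
           rw [map_mul, MulAut.mul_apply, hy' w hw, hx' w hw]
         inv_mem' := by
           rintro x ⟨hx, hx'⟩
           refine ⟨R.inv_mem hx, ?_⟩
           intro w hw
           calc φ x⁻¹ w = φ x⁻¹ (φ x w) := by rw [hx' w hw]
             _ = w := by
               rw [← MulAut.mul_apply, ← map_mul, inv_mul_cancel, map_one, MulAut.one_apply] },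
        fun x => Iff.rfl⟩
    have hTR : T ≤ R := fun x hx => ((hT x).mp hx).1
    have hTa : ∀ t ∈ T, a * t * a⁻¹ ∈ T := by
      intro t ht
      obtain ⟨h1, h2⟩ := (hT t).mp ht
      rw [hT]
      refine ⟨haR t h1, ?_⟩
      intro w hw
      rw [map_mul, map_mul, MulAut.mul_apply, MulAut.mul_apply,
        h2 _ (hWΛ a⁻¹ (Λ.inv_mem haΛ) w hw), ← MulAut.mul_apply, ← map_mul, mul_inv_cancel,
        map_one, MulAut.one_apply]
    have hnot : ¬ R ≤ T := by
      intro h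
      have h1 := ((hT c₀).mp (h (hDR hc₀D))).2
      apply hc'ne
      apply MulEquiv.ext
      intro w
      apply Subtype.ext
      rw [hψ, hc', h1 _ w.2]
      rfl
    intro s hs hs1
    rw [hD]
    refine ⟨hs, hmin' T hTR hTa hnot _ ?_⟩
    rw [hT]
    refine ⟨hs, ?_⟩
    intro w hw
    have := hψ s ⟨w, hw⟩
    rw [hs1] at this
    exact this.symm
  have hC2' : ∀ x : ↥Λ, (x : X) ∈ R → ψ (x * x) = 1 → (x : X) ∈ D := by
    intro x hx hxx
    obtain ⟨h1, _⟩ := hC2 x hxx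
    have h2 : ψ (a' * x * a'⁻¹ * x⁻¹) = 1 := by
      rw [map_mul, map_mul, map_mul, ← h1, map_inv, map_inv]
      group
    have h3 : ((a' * x * a'⁻¹ * x⁻¹ : ↥Λ) : X) ∈ D := by
      apply hD₀ _ _ h2
      rw [Subgroup.coe_mul, Subgroup.coe_mul, Subgroup.coe_mul, Subgroup.coe_inv,
        Subgroup.coe_inv, ha']
      exact R.mul_mem (haR _ hx) (R.inv_mem hx)
    rw [hD]
    refine ⟨hx, hfixa _ hx ?_⟩
    rw [Subgroup.coe_mul, Subgroup.coe_mul, Subgroup.coe_mul, Subgroup.coe_inv,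
      Subgroup.coe_inv, ha'] at h3
    exact h3
  have hq2 : q = 2 := by
    by_contra hq2
    have hodd : Odd (Nat.card R) := by
      obtain ⟨n, hn⟩ := hRq.exists_card_eq
      rw [hn]
      exact (hqp.odd_of_ne_two hq2).pow
    obtain ⟨j, hj⟩ := eq_pow_sq_of_odd hodd (⟨c₀, hDR hc₀D⟩ : R)
    have hj' : c' = (c' * c') ^ j := by
      apply Subtype.ext
      have := congrArg Subtype.val hj
      rw [Subgroup.coe_pow, Subgroup.coe_mul] at this ⊢
      rw [hc']
      exact this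
    apply hc'ne
    rw [hj', map_pow, hC1' c' (hc' ▸ hc₀D), one_pow]
  obtain ⟨ι, hι⟩ : ∃ ι : MulAut ↥W, ∀ w, ι w = w⁻¹ := ⟨MulEquiv.inv ↥W, fun w => rfl⟩
  have hι2 : ι * ι = 1 := by
    apply MulEquiv.ext
    intro w
    rw [MulAut.mul_apply, hι, hι, inv_inv]; rfl
  have hιne : ι ≠ 1 := by
    intro h
    obtain ⟨w, hw⟩ := hWnt
    apply hw
    have h1 : w⁻¹ = w := by rw [← hι, h]; rfl
    have h2 : w ^ 2 = 1 := by rw [pow_two]; nth_rewrite 1 [← h1]; exact inv_mul_cancel w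
    have h3 : orderOf w ∣ 2 := orderOf_dvd_of_pow_eq_one h2
    have h4 : orderOf w ∣ p := by
      apply orderOf_dvd_of_pow_eq_one
      apply Subtype.ext
      rw [Subgroup.coe_pow, hAp]; rfl
    have hcop : Nat.Coprime 2 p := by
      rw [Nat.coprime_primes Nat.prime_two hpp]; exact fun h => hp2 h.symm
    have h5 : orderOf w = 1 := Nat.eq_one_of_dvd_coprimes hcop h3 h4
    exact orderOf_eq_one_iff.mp h5
  have hιc : ∀ f : MulAut ↥W, f * ι = ι * f := by
    intro f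
    apply MulEquiv.ext
    intro w
    rw [MulAut.mul_apply, MulAut.mul_apply, hι, hι, map_inv]
  have hd1 : ∀ d : ↥Λ, (d : X) ∈ D → ψ d = 1 ∨ ψ d = ι := by
    intro d hd
    have hdd : ∀ w, ψ d (ψ d w) = w := by
      intro w
      rw [← MulAut.mul_apply, ← map_mul, hC1' d hd]; rfl
    have hcomm : ∀ l : ↥Λ, ∀ w, ψ d (ψ l w) = ψ l (ψ d w) := by
      intro l w
      rw [← MulAut.mul_apply, ← MulAut.mul_apply, ← map_mul, ← map_mul]
      congr 2
      apply Subtype.ext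
      rw [Subgroup.coe_mul, Subgroup.coe_mul]
      exact (hDΛ _ hd _ l.2).symm
    obtain ⟨B, hB⟩ : ∃ B : Subgroup ↥W, ∀ w, w ∈ B ↔ ψ d w = w :=
      ⟨{ carrier := {w | ψ d w = w}
         one_mem' := map_one _
         mul_mem' := by
           intro u v hu hv
           show ψ d (u * v) = u * v
           rw [map_mul, hu, hv]
         inv_mem' := by
           intro u hu
           show ψ d u⁻¹ = u⁻¹
           rw [map_inv, hu] }, fun w => Iff.rfl⟩
    have hBa : ∀ u ∈ B, ψ a' u ∈ B := by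
      intro u hu
      rw [hB] at hu ⊢
      rw [hcomm, hu]
    have hBb : ∀ u ∈ B, ψ b' u ∈ B := by
      intro u hu
      rw [hB] at hu ⊢
      rw [hcomm, hu]
    rcases hirr B hBa hBb with h | h
    · right
      apply MulEquiv.ext
      intro w
      have h1 : w * ψ d w ∈ B := by
        rw [hB, map_mul, hdd, mul_comm]
      rw [h, Subgroup.mem_bot] at h1
      rw [hι]
      exact eq_inv_of_mul_eq_one_right h1
    · left
      apply MulEquiv.ext
      intro w
      have h1 : w ∈ B := by rw [h]; trivial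
      rw [(hB w).mp h1]; rfl
  have he1 : ∀ x ∈ R, x * x ∈ D := by
    obtain ⟨T, hT⟩ : ∃ T : Subgroup X, ∀ x, x ∈ T ↔ x ∈ R ∧ x * x ∈ D :=
      ⟨{ carrier := {x | x ∈ R ∧ x * x ∈ D}
         one_mem' := ⟨R.one_mem, by rw [mul_one]; exact D.one_mem⟩
         mul_mem' := by
           rintro x y ⟨hx, hx'⟩ ⟨hy, hy'⟩
           refine ⟨R.mul_mem hx hy, ?_⟩
           have e : (x * y) * (x * y) = (x * x) * (x⁻¹ * y * x⁻¹⁻¹ * y⁻¹) * (y * y) := by group
           rw [e]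
           exact D.mul_mem (D.mul_mem hx' (hR'D _ (R.inv_mem hx) _ hy)) hy'
         inv_mem' := by
           rintro x ⟨hx, hx'⟩
           refine ⟨R.inv_mem hx, ?_⟩
           have e : x⁻¹ * x⁻¹ = (x * x)⁻¹ := by group
           rw [e]; exact D.inv_mem hx' }, fun x => Iff.rfl⟩
    have hTR : T ≤ R := fun x hx => ((hT x).mp hx).1
    have hTa : ∀ t ∈ T, a * t * a⁻¹ ∈ T := by
      intro t ht
      obtain ⟨h1, h2⟩ := (hT t).mp ht
      rw [hT]
      refine ⟨haR t h1, ?_⟩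
      have e : (a * t * a⁻¹) * (a * t * a⁻¹) = a * (t * t) * a⁻¹ := by group
      rw [e, hDa _ h2]; exact h2
    have hex : ∃ t ∈ T, a * t * a⁻¹ ≠ t := by
      have hpow : ∃ n : ℕ, r₀ ^ (2 ^ n) ∈ D := by
        obtain ⟨n, hn⟩ := hRq ⟨r₀, hr₀R⟩
        refine ⟨n, ?_⟩
        have := congrArg Subtype.val hn
        rw [hq2, Subgroup.coe_pow] at this
        rw [this]; exact D.one_mem
      have hn0 : Nat.find hpow ≠ 0 := by
        intro h
        have := Nat.find_spec hpow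
        rw [h, pow_zero, pow_one] at this
        exact hr₀D this
      obtain ⟨k, hk⟩ := Nat.exists_eq_succ_of_ne_zero hn0
      have hk1 : r₀ ^ (2 ^ k) ∉ D := Nat.find_min hpow (by omega)
      have hk2 : r₀ ^ (2 ^ (k + 1)) ∈ D := by
        have := Nat.find_spec hpow
        rw [hk] at this
        exact this
      refine ⟨r₀ ^ (2 ^ k), ?_, ?_⟩
      · rw [hT]
        refine ⟨R.pow_mem hr₀R _, ?_⟩
        rw [← pow_add, ← two_mul, ← pow_succ']
        exact hk2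
      · intro h
        apply hk1
        rw [hD]
        exact ⟨R.pow_mem hr₀R _, h⟩
    have hRT := hmin T hTR hTa hex
    intro x hx
    exact ((hT x).mp (hRT hx)).2
  have hf1 : ∀ x : ↥Λ, (x : X) ∈ R → (x : X) ∉ D → ψ (x * x) = ι := by
    intro x hx hxD
    have h1 : ((x * x : ↥Λ) : X) ∈ D := by
      rw [Subgroup.coe_mul]; exact he1 _ hx
    rcases hd1 _ h1 with h | h
    · exact absurd (hC2' x hx h) hxD
    · exact h
  have hg1 : ∀ x y : ↥Λ, (x : X) ∈ R → (y : X) ∈ R → (x : X) ∉ D → (y : X) ∉ D →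
      ((x * y : ↥Λ) : X) ∉ D → ψ (x⁻¹ * y * x * y⁻¹) = ι := by
    intro x y hx hy hxD hyD hxyD
    have h1 := hf1 x hx hxD
    have h2 := hf1 y hy hyD
    have h3 := hf1 (x * y) (by rw [Subgroup.coe_mul]; exact R.mul_mem hx hy) hxyD
    have e : (x * y) * (x * y) = (x * x) * (x⁻¹ * y * x * y⁻¹) * (y * y) := by group
    rw [e, map_mul, map_mul, h1, h2] at h3
    have h4 : ψ (x⁻¹ * y * x * y⁻¹) = ι * ι * ι := by
      have e1 : ι * ι * ι = ι * (ι * ψ (x⁻¹ * y * x * y⁻¹) * ι) * ι := by rw [h3]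
      have e2 : ι * (ι * ψ (x⁻¹ * y * x * y⁻¹) * ι) * ι =
          (ι * ι) * ψ (x⁻¹ * y * x * y⁻¹) * (ι * ι) := by group
      rw [e1, e2, hι2, one_mul, mul_one]
    rw [h4, hι2, one_mul]
  -- the three conjugates
  have hsq' : ∀ g : X, g ^ p = 1 → ∀ y : X, (g * g) * y = y * (g * g) → g * y = y * g := by
    intro g hg y hy
    have h1 : (g * g) ^ (m + 1) = g := by
      rw [← pow_two, ← pow_mul]
      have : 2 * (m + 1) = p + 1 := by omega
      rw [this, pow_succ, hg, one_mul]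
    have h2 : Commute ((g * g) ^ (m + 1)) y := (show Commute (g * g) y from hy).pow_left _
    rw [h1] at h2
    exact h2.eq
  have hinvD : ∀ g : X, g ^ p = 1 → (∀ d ∈ D, g * d * g⁻¹ = d) → ∀ x ∈ R,
      x * (g * x * g⁻¹) ∈ D → g * x * g⁻¹ = x := by
    intro g hg hgD x hx hd
    obtain ⟨d, hddef⟩ : ∃ d, d = x * (g * x * g⁻¹) := ⟨_, rfl⟩
    rw [← hddef] at hd
    have h1 : g * x * g⁻¹ = x⁻¹ * d := by rw [hddef]; group
    have h2 : (g * g) * x * (g * g)⁻¹ = x := by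
      have e1 : (g * g) * x * (g * g)⁻¹ = g * (g * x * g⁻¹) * g⁻¹ := by group
      rw [e1, h1]
      have e2 : g * (x⁻¹ * d) * g⁻¹ = (g * x * g⁻¹)⁻¹ * (g * d * g⁻¹) := by group
      rw [e2, h1, hgD d hd]
      have e3 : (x⁻¹ * d)⁻¹ * d = d⁻¹ * (x * d) := by group
      rw [e3, hDZ d hd x hx]; group
    have h3 : (g * g) * x = x * (g * g) := by
      have : (g * g) * x = ((g * g) * x * (g * g)⁻¹) * (g * g) := by group
      rw [this, h2]
    have h4 := hsq' g hg x h3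
    rw [h4]; group
  obtain ⟨x₁, hx₁⟩ : ∃ x₁, x₁ = a * r₀ * a⁻¹ := ⟨_, rfl⟩
  obtain ⟨x₂, hx₂⟩ : ∃ x₂, x₂ = a * x₁ * a⁻¹ := ⟨_, rfl⟩
  have hx₁R : x₁ ∈ R := hx₁ ▸ haR r₀ hr₀R
  have hx₂R : x₂ ∈ R := hx₂ ▸ haR x₁ hx₁R
  have hDconj : ∀ y, a * y * a⁻¹ ∈ D → y ∈ D := by
    intro y hy
    have h1 := hDa _ hy
    have h2 : a * y * a⁻¹ = y := by
      calc a * y * a⁻¹ = a⁻¹ * (a * (a * y * a⁻¹) * a⁻¹) * a := by group
        _ = a⁻¹ * (a * y * a⁻¹) * a := by rw [h1]
        _ = y := by group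
    rw [← h2]; exact hy
  have hx₁D : x₁ ∉ D := fun h => hr₀D (hDconj _ (hx₁ ▸ h))
  have hx₂D : x₂ ∉ D := fun h => hx₁D (hDconj _ (hx₂ ▸ h))
  have h01 : r₀ * x₁ ∉ D := by
    intro h
    apply hr₀
    apply hinvD a hap hDa r₀ hr₀R
    rw [← hx₁]; exact h
  have h12 : x₁ * x₂ ∉ D := by
    intro h
    apply h01
    apply hDconj
    have : a * (r₀ * x₁) * a⁻¹ = (a * r₀ * a⁻¹) * (a * x₁ * a⁻¹) := by group
    rw [this, ← hx₁, ← hx₂]; exact h
  have h02 : r₀ * x₂ ∉ D := by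
    intro h
    apply hr₀
    have hgp : (a * a) ^ p = 1 := by rw [← pow_two, ← pow_mul, mul_comm, pow_mul, hap, one_pow]
    have hgD : ∀ d ∈ D, (a * a) * d * (a * a)⁻¹ = d := by
      intro d hd
      have : (a * a) * d * (a * a)⁻¹ = a * (a * d * a⁻¹) * a⁻¹ := by group
      rw [this, hDa d hd, hDa d hd]
    have h1 := hinvD (a * a) hgp hgD r₀ hr₀R (by
      have : (a * a) * r₀ * (a * a)⁻¹ = x₂ := by rw [hx₂, hx₁]; group
      rw [this]; exact h)
    have h2 : (a * a) * r₀ = r₀ * (a * a) := by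
      have : (a * a) * r₀ = ((a * a) * r₀ * (a * a)⁻¹) * (a * a) := by group
      rw [this, h1]
    have h3 := hsq r₀ h2
    rw [h3]; group
  obtain ⟨y₀, hy₀⟩ : ∃ y₀ : ↥Λ, (y₀ : X) = r₀ := ⟨⟨r₀, hRΛ hr₀R⟩, rfl⟩
  obtain ⟨y₁, hy₁⟩ : ∃ y₁ : ↥Λ, (y₁ : X) = x₁ := ⟨⟨x₁, hRΛ hx₁R⟩, rfl⟩
  obtain ⟨y₂, hy₂⟩ : ∃ y₂ : ↥Λ, (y₂ : X) = x₂ := ⟨⟨x₂, hRΛ hx₂R⟩, rfl⟩
  have h012 : r₀ * x₁ * x₂ ∈ D := by
    by_contra hcon
    have g1 := hg1 (y₀ * y₁) y₂ (by rw [Subgroup.coe_mul, hy₀, hy₁]; exact R.mul_mem hr₀R hx₁R)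
      (by rw [hy₂]; exact hx₂R) (by rw [Subgroup.coe_mul, hy₀, hy₁]; exact h01)
      (by rw [hy₂]; exact hx₂D)
      (by rw [Subgroup.coe_mul, Subgroup.coe_mul, hy₀, hy₁, hy₂]; exact hcon)
    have g2 := hg1 y₀ y₂ (by rw [hy₀]; exact hr₀R) (by rw [hy₂]; exact hx₂R)
      (by rw [hy₀]; exact hr₀D) (by rw [hy₂]; exact hx₂D)
      (by rw [Subgroup.coe_mul, hy₀, hy₂]; exact h02)
    have g3 := hg1 y₁ y₂ (by rw [hy₁]; exact hx₁R) (by rw [hy₂]; exact hx₂R)
      (by rw [hy₁]; exact hx₁D) (by rw [hy₂]; exact hx₂D)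
      (by rw [Subgroup.coe_mul, hy₁, hy₂]; exact h12)
    have e : (y₀ * y₁)⁻¹ * y₂ * (y₀ * y₁) * y₂⁻¹ =
        y₁⁻¹ * (y₀⁻¹ * y₂ * y₀ * y₂⁻¹) * y₁ * (y₁⁻¹ * y₂ * y₁ * y₂⁻¹) := by group
    rw [e, map_mul, map_mul, map_mul, g2, g3, map_inv] at g1
    have h1 : (ψ y₁)⁻¹ * ι * ψ y₁ = ι := by
      rw [mul_assoc, ← hιc, ← mul_assoc, inv_mul_cancel, one_mul]
    rw [h1, hι2] at g1
    exact hιne g1.symm
  obtain ⟨d₁, hd₁⟩ : ∃ d₁, d₁ = r₀ * x₁ * x₂ := ⟨_, rfl⟩
  have hd₁D : d₁ ∈ D := hd₁ ▸ h012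
  have ha3e : a ^ 3 = a * a * a := by rw [pow_succ, pow_two]
  have hcube : (a ^ 3) * r₀ * (a ^ 3)⁻¹ = r₀ := by
    apply hfix (a ^ 3) (by rw [← pow_mul, mul_comm, pow_mul, hap, one_pow]) ?_ r₀ hr₀R ?_
    · intro d hd
      have : a ^ 3 * d * (a ^ 3)⁻¹ = a * (a * (a * d * a⁻¹) * a⁻¹) * a⁻¹ := by
        rw [ha3e]; group
      rw [this, hDa d hd, hDa d hd, hDa d hd]
    · obtain ⟨x₃, hx₃⟩ : ∃ x₃, x₃ = a * x₂ * a⁻¹ := ⟨_, rfl⟩
      have h1 : x₁ * x₂ * x₃ = d₁ := by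
        have : x₁ * x₂ * x₃ = a * d₁ * a⁻¹ := by rw [hd₁, hx₃, hx₂, hx₁]; group
        rw [this, hDa d₁ hd₁D]
      have h2 : a ^ 3 * r₀ * (a ^ 3)⁻¹ = x₃ := by rw [hx₃, hx₂, hx₁, ha3e]; group
      rw [h2]
      have h3 : x₃ * r₀⁻¹ = (x₁ * x₂)⁻¹ * d₁ * (x₁ * x₂)⁻¹⁻¹ * d₁⁻¹ := by
        have e1 : x₃ = (x₁ * x₂)⁻¹ * d₁ := by rw [← h1]; group
        have e2 : r₀ = d₁ * (x₁ * x₂)⁻¹ := by rw [hd₁]; group
        rw [e1]
        nth_rewrite 1 [e2]
        group
      rw [h3]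
      exact hR'D _ (R.inv_mem (R.mul_mem hx₁R hx₂R)) _ (hDR hd₁D)
  have hp3 : p = 3 := by
    by_contra hp3
    have hcop : Nat.Coprime 3 p := by
      rw [Nat.coprime_primes Nat.prime_three hpp]; exact fun h => hp3 h.symm
    obtain ⟨k, hk⟩ : ∃ k : ℕ, (a ^ 3) ^ k = a := by
      obtain ⟨k, -, hk⟩ := Nat.exists_mul_mod_eq_one_of_coprime hcop hpp.one_lt
      refine ⟨k, ?_⟩
      rw [← pow_mul, ← Nat.mod_add_div (3 * k) p, hk, pow_add, pow_mul, hap, one_pow, mul_one,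
        pow_one]
    apply hr₀
    have h1 : Commute (a ^ 3) r₀ := by
      have : a ^ 3 * r₀ = (a ^ 3 * r₀ * (a ^ 3)⁻¹) * a ^ 3 := by group
      rw [hcube] at this
      exact this
    have h2 : Commute a r₀ := by
      have := h1.pow_left k
      rw [hk] at this
      exact this
    rw [h2.eq]; group
  refine ⟨hp3, ?_⟩
  have ha3 : a ^ 3 = 1 := by rw [← hp3]; exact hap
  -- the group induced on `W`
  obtain ⟨π, hπ, hπs⟩ : ∃ π : ↥Λ →* ↥ψ.range,
      (∀ l, ((π l : ↥ψ.range) : MulAut ↥W) = ψ l) ∧ Function.Surjective π :=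
    ⟨ψ.rangeRestrict, fun l => rfl, ψ.rangeRestrict_surjective⟩
  have hπeq : ∀ l l' : ↥Λ, ψ l = ψ l' → π l = π l' :=
    fun l l' h => Subtype.ext (by rw [hπ, hπ, h])
  haveI : Finite ↥ψ.range := Finite.of_surjective π hπs
  have F1 : ψ (y₀ * y₀) = ι := hf1 y₀ (by rw [hy₀]; exact hr₀R) (by rw [hy₀]; exact hr₀D)
  have F1' : ψ (y₁ * y₁) = ι := hf1 y₁ (by rw [hy₁]; exact hx₁R) (by rw [hy₁]; exact hx₁D)
  have F2 : ψ (y₀⁻¹ * y₁ * y₀ * y₁⁻¹) = ι :=
    hg1 y₀ y₁ (by rw [hy₀]; exact hr₀R) (by rw [hy₁]; exact hx₁R) (by rw [hy₀]; exact hr₀D)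
      (by rw [hy₁]; exact hx₁D) (by rw [Subgroup.coe_mul, hy₀, hy₁]; exact h01)
  have F3 : a' * y₀ * a'⁻¹ = y₁ := by
    apply Subtype.ext
    rw [Subgroup.coe_mul, Subgroup.coe_mul, Subgroup.coe_inv, ha', hy₀, hy₁, hx₁]
  have F3' : a' * y₁ * a'⁻¹ = y₂ := by
    apply Subtype.ext
    rw [Subgroup.coe_mul, Subgroup.coe_mul, Subgroup.coe_inv, ha', hy₁, hy₂, hx₂]
  have F4 : ψ (y₀ * y₁ * y₂) = 1 ∨ ψ (y₀ * y₁ * y₂) = ι := by
    apply hd1
    rw [Subgroup.coe_mul, Subgroup.coe_mul, hy₀, hy₁, hy₂]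
    exact h012
  have key : Cfsg.Involves (Matrix.SpecialLinearGroup (Fin 2) (ZMod 3)) ↥ψ.range := by
    apply sl23_of_relations (π y₀) (π y₁) (π a') (π (y₀ * y₀))
    · intro h
      apply hιne
      have := congrArg Subtype.val h
      rw [hπ, F1] at this
      exact this
    · rw [← map_mul, ← map_one π]
      apply hπeq
      rw [map_mul, F1, hι2, map_one]
    · intro f
      apply Subtype.ext
      rw [Subgroup.coe_mul, Subgroup.coe_mul, hπ, F1, hιc]
    · rw [map_mul]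
    · rw [← map_mul]
      apply hπeq
      rw [F1, F1']
    · rw [← map_inv, ← map_inv, ← map_mul, ← map_mul, ← map_mul]
      apply hπeq
      rw [F1, F2]
    · rw [← map_pow, ← map_one π]
      congr 1
      apply Subtype.ext
      rw [Subgroup.coe_pow, ha', ha3]
      rfl
    · rw [← map_inv, ← map_mul, ← map_mul, F3]
    · rw [← map_inv, ← map_mul, ← map_mul, ← map_mul, ← map_mul, F3']
      rcases F4 with h | h
      · left
        rw [← map_one π]
        apply hπeq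
        rw [h, map_one]
      · right
        apply hπeq
        rw [h, F1]
  exact involves_of_subgroup Λ (involves_of_surjective_hom π hπs key)

theorem quad_sol_faithful [Finite A] [Finite X] {p : ℕ} [hp : Fact p.Prime] (hp2 : p ≠ 2)
    (hAp : ∀ v : A, v ^ p = 1) (φ : X →* MulAut A) (hφ : Function.Injective φ)
    (a : X) (hq : QuadAct φ a) (R : Subgroup X) (hRcop : (Nat.card R).Coprime p)
    (haR : ∀ r ∈ R, a * r * a⁻¹ ∈ R) (hne : ∃ r ∈ R, a * r * a⁻¹ ≠ r) :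
    p = 3 ∧ Cfsg.Involves (Matrix.SpecialLinearGroup (Fin 2) (ZMod 3)) X := by
  obtain ⟨R₁, hR₁min⟩ := exists_minimal_of_wellFoundedLT
    (fun T : Subgroup X => T ≤ R ∧ (∀ r ∈ T, a * r * a⁻¹ ∈ T) ∧ (∃ r ∈ T, a * r * a⁻¹ ≠ r))
    ⟨R, le_rfl, haR, hne⟩
  obtain ⟨⟨h1, h2, h3⟩, hmin⟩ := hR₁min
  refine quad_sol_core hp2 hAp φ hφ a hq R₁ ?_ h2 h3 ?_
  · exact Nat.Coprime.coprime_dvd_left (Subgroup.card_dvd_of_le h1) hRcop
  · intro T hT hTa hTne
    exact hmin ⟨hT.trans h1, hTa, hTne⟩ hT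

/-- The general form: `a` acts quadratically on an abelian group of exponent `p` (`p` odd) through
`φ`, and normalizes a `p'`-subgroup `R` on whose image it acts nontrivially. -/
theorem quad_sol [Finite A] [Finite X] {p : ℕ} [hp : Fact p.Prime] (hp2 : p ≠ 2)
    (hAp : ∀ v : A, v ^ p = 1) (φ : X →* MulAut A)
    (a : X) (hq : QuadAct φ a) (R : Subgroup X) (hRcop : (Nat.card R).Coprime p)
    (haR : ∀ r ∈ R, a * r * a⁻¹ ∈ R) (hne : ∃ r ∈ R, φ (a * r * a⁻¹) ≠ φ r) :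
    p = 3 ∧ Cfsg.Involves (Matrix.SpecialLinearGroup (Fin 2) (ZMod 3)) X := by
  obtain ⟨π, hπ, hπs⟩ : ∃ π : X →* ↥φ.range,
      (∀ l, ((π l : ↥φ.range) : MulAut A) = φ l) ∧ Function.Surjective π :=
    ⟨φ.rangeRestrict, fun l => rfl, φ.rangeRestrict_surjective⟩
  haveI : Finite ↥φ.range := Finite.of_surjective π hπs
  have hq' : QuadAct φ.range.subtype (π a) := by
    intro v
    have := hq v
    rw [Subgroup.coe_subtype, hπ]
    exact this
  have hcop : (Nat.card (R.map π)).Coprime p :=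
    Nat.Coprime.coprime_dvd_left (Subgroup.card_map_dvd R π) hRcop
  have haR' : ∀ r ∈ R.map π, π a * r * (π a)⁻¹ ∈ R.map π := by
    rintro r ⟨s, hs, rfl⟩
    exact ⟨a * s * a⁻¹, haR s hs, by rw [map_mul, map_mul, map_inv]⟩
  have hne' : ∃ r ∈ R.map π, π a * r * (π a)⁻¹ ≠ r := by
    obtain ⟨r, hr, hr'⟩ := hne
    refine ⟨π r, ⟨r, hr, rfl⟩, ?_⟩
    intro h
    apply hr'
    have := congrArg Subtype.val h
    rw [← map_inv, ← map_mul, ← map_mul, hπ, hπ] at this
    exact this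
  obtain ⟨h3, hinv⟩ := quad_sol_faithful hp2 hAp φ.range.subtype φ.range.subtype_injective
    (π a) hq' (R.map π) hcop haR' hne'
  exact ⟨h3, involves_of_surjective_hom π hπs hinv⟩

/-- `Cfsg.Involves` in a subgroup, in explicit form. -/
theorem exists_section_of_involves_subgroup {G : Type*} [Group G] {S : Type*} [Group S]
    (H : Subgroup G) (h : Cfsg.Involves S ↥H) :
    ∃ (K L : Subgroup G) (_ : (L.subgroupOf K).Normal), K ≤ H ∧
      Nonempty ((K ⧸ L.subgroupOf K) ≃* S) := by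
  obtain ⟨K, φ, hφ⟩ := exists_hom_of_involves h
  obtain ⟨e⟩ : Nonempty (K ≃* K.map H.subtype) :=
    ⟨Subgroup.equivMapOfInjective K H.subtype H.subtype_injective⟩
  obtain ⟨ψ, hψ⟩ : ∃ ψ : ↥(K.map H.subtype) →* S, Function.Surjective ψ := by
    refine ⟨φ.comp e.symm.toMonoidHom, ?_⟩
    intro x
    obtain ⟨k, rfl⟩ := hφ x
    exact ⟨e k, by simp⟩
  have hR : (ψ.ker.map (K.map H.subtype).subtype).subgroupOf (K.map H.subtype) = ψ.ker :=
    Subgroup.comap_map_eq_self_of_injective (K.map H.subtype).subtype_injective _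
  have key : ∀ (R' : Subgroup ↥(K.map H.subtype)), R' = ψ.ker →
      ∃ (_ : R'.Normal), Nonempty (↥(K.map H.subtype) ⧸ R' ≃* S) := by
    intro R' h
    subst h
    exact ⟨inferInstance, ⟨QuotientGroup.quotientKerEquivOfSurjective ψ hψ⟩⟩
  obtain ⟨hn, hne⟩ := key _ hR
  exact ⟨K.map H.subtype, _, hn, Subgroup.map_subtype_le K, hne⟩

end QuadSol

end Cfsg.Agent.Lib.Helper17
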