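import Mathlib
import Cfsg.Prelude.Def_Local
import Cfsg.Prelude.Def_LocalEven
import Cfsg.Agent.Lib.Helper6.PSolv3
import Cfsg.Agent.Lib.Helper17.QuadSol

set_option autoImplicit false
set_option linter.unusedSimpArgs false
set_option linter.unusedVariables false
set_option linter.style.haveILetI false

/-!
Quadratic elements in `p`-solvable groups: the dual Hall–Higman centralizer lemma, and the theorem
that a quadratic element of a `p`-solvable group acting on an abelian group of exponent `p` lies
in a normal subgroup acting as a `p`-group, unless `p = 3` and `SL(2,3)` is involved.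
-/

namespace Cfsg.Agent.Lib.Helper17

open Cfsg Cfsg.Agent.Lib.Helper6 Cfsg.Agent.Lib.Helper14

universe u v

section HH

variable {G : Type u} [Group G] [Finite G] {p : ℕ} [hp : Fact p.Prime]

/-- In a finite `p`-solvable group with `O_p(G) = 1`, the centralizer of `O_{p'}(G)` lies in
`O_{p'}(G)`. -/
theorem centralizer_pPrimeCore_le_of_isPSolvable (hsol : IsPSolvable p G) (hO : pCore p G = ⊥) :
    Subgroup.centralizer (pPrimeCore p G : Set G) ≤ pPrimeCore p G := by
  by_contra hcon
  have hCn : (Subgroup.centralizer (pPrimeCore p G : Set G)).Normal := inferInstance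
  have hπ : Function.Surjective (QuotientGroup.mk' (pPrimeCore p G)) :=
    QuotientGroup.mk'_surjective _
  have hsol' : IsPSolvable p (G ⧸ pPrimeCore p G) := isPSolvable_quotient hp.out _ hsol
  have hOp : pPrimeCore p (G ⧸ pPrimeCore p G) = ⊥ := pPrimeCore_quotient_pPrimeCore_eq_bot
  have hNn : ((Subgroup.centralizer (pPrimeCore p G : Set G)).map
      (QuotientGroup.mk' (pPrimeCore p G))).Normal := hCn.map _ hπ
  have hNne : (Subgroup.centralizer (pPrimeCore p G : Set G)).map
      (QuotientGroup.mk' (pPrimeCore p G)) ≠ ⊥ := by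
    intro h
    apply hcon
    intro c hc
    have h1 : QuotientGroup.mk' (pPrimeCore p G) c ∈
        (Subgroup.centralizer (pPrimeCore p G : Set G)).map
          (QuotientGroup.mk' (pPrimeCore p G)) := Subgroup.mem_map_of_mem _ hc
    rw [h, Subgroup.mem_bot] at h1
    exact (QuotientGroup.eq_one_iff c).mp h1
  obtain ⟨Mb, hMle, hMn, hMne, hM⟩ := exists_normal_p_or_p' hp.out hsol' _ hNne
  rcases hM with hM | hM
  · set D : Subgroup G := Subgroup.centralizer (pPrimeCore p G : Set G) ⊓
      Mb.comap (QuotientGroup.mk' (pPrimeCore p G)) with hDdef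
    have hDn : D.Normal := inferInstance
    have hDK : D ≤ pPrimeCore p G := by
      have hNc : (pPrimeCore p G).subgroupOf D ≤ Subgroup.center D := by
        intro x hx
        rw [Subgroup.mem_center_iff]
        intro d
        have hx' : (x : G) ∈ pPrimeCore p G := Subgroup.mem_subgroupOf.mp hx
        have hd : (d : G) ∈ Subgroup.centralizer (pPrimeCore p G : Set G) := d.2.1
        apply Subtype.ext
        exact ((Subgroup.mem_centralizer_iff.mp hd) x hx').symm
      have hQp : IsPGroup p (↥D ⧸ (pPrimeCore p G).subgroupOf D) := by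
        intro y
        obtain ⟨d, rfl⟩ := QuotientGroup.mk'_surjective _ y
        have hd : QuotientGroup.mk' (pPrimeCore p G) (d : G) ∈ Mb := d.2.2
        obtain ⟨k, hk⟩ := hM ⟨_, hd⟩
        refine ⟨k, ?_⟩
        rw [← map_pow]
        apply (QuotientGroup.eq_one_iff _).mpr
        rw [Subgroup.mem_subgroupOf, Subgroup.coe_pow]
        have h1 := congrArg Subtype.val hk
        rw [Subgroup.coe_pow, ← map_pow] at h1
        exact (QuotientGroup.eq_one_iff _).mp h1
      haveI : Group.IsNilpotent (↥D ⧸ (pPrimeCore p G).subgroupOf D) := hQp.isNilpotent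
      haveI hnil : Group.IsNilpotent ↥D :=
        Subgroup.isNilpotent_of_ker_le_center (QuotientGroup.mk' ((pPrimeCore p G).subgroupOf D))
          (by rw [QuotientGroup.ker_mk']; exact hNc)
      obtain ⟨P⟩ : Nonempty (Sylow p ↥D) := inferInstance
      have hPn : (P : Subgroup ↥D).Normal := inferInstance
      have hPmem : ∀ x : ↥D, x ∈ (P : Subgroup ↥D) ↔ ∃ k : ℕ, x ^ p ^ k = 1 := by
        intro x
        constructor
        · intro hx
          obtain ⟨k, hk⟩ := P.isPGroup' ⟨x, hx⟩
          exact ⟨k, by simpa using congrArg Subtype.val hk⟩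
        · rintro ⟨k, hk⟩
          have h1 : (QuotientGroup.mk' (P : Subgroup ↥D) x) ^ p ^ k = 1 := by
            rw [← map_pow, hk, map_one]
          have h2 : orderOf (QuotientGroup.mk' (P : Subgroup ↥D) x) ∣ p ^ k :=
            orderOf_dvd_of_pow_eq_one h1
          have h3 : orderOf (QuotientGroup.mk' (P : Subgroup ↥D) x) ∣ (P : Subgroup ↥D).index := by
            rw [Subgroup.index_eq_card]
            exact orderOf_dvd_natCard _
          have h4 : ((P : Subgroup ↥D).index).Coprime (p ^ k) :=
            Nat.Coprime.pow_right k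
              ((Nat.Prime.coprime_iff_not_dvd hp.out).mpr P.not_dvd_index).symm
          have h5 : orderOf (QuotientGroup.mk' (P : Subgroup ↥D) x) = 1 :=
            Nat.eq_one_of_dvd_coprimes h4 h3 h2
          exact (QuotientGroup.eq_one_iff x).mp (orderOf_eq_one_iff.mp h5)
      have hPG : ((P : Subgroup ↥D).map D.subtype).Normal := by
        constructor
        rintro n ⟨m, hm, rfl⟩ g
        have hmem : g * (m : G) * g⁻¹ ∈ D := hDn.conj_mem _ m.2 g
        refine ⟨⟨g * (m : G) * g⁻¹, hmem⟩, (hPmem _).mpr ?_, rfl⟩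
        obtain ⟨k, hk⟩ := (hPmem m).mp hm
        refine ⟨k, ?_⟩
        apply Subtype.ext
        show (g * (m : G) * g⁻¹) ^ p ^ k = 1
        rw [conj_pow]
        have h1 : (m : G) ^ p ^ k = 1 := by simpa using congrArg Subtype.val hk
        rw [h1, mul_one, mul_inv_cancel]
      have hPp : IsPGroup p ((P : Subgroup ↥D).map D.subtype) := P.isPGroup'.map D.subtype
      have hPbot := le_pCore p hPG hPp
      rw [hO, le_bot_iff] at hPbot
      have hPbot' : (P : Subgroup ↥D) = ⊥ :=
        (Subgroup.map_eq_bot_iff_of_injective _ D.subtype_injective).mp hPbot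
      have hcop : (Nat.card D).Coprime p := by
        have h1 := P.not_dvd_index
        rw [hPbot', Subgroup.index_bot] at h1
        exact ((Nat.Prime.coprime_iff_not_dvd hp.out).mpr h1).symm
      exact le_pPrimeCore p hDn hcop
    apply hMne
    rw [eq_bot_iff]
    intro y hy
    obtain ⟨c, hc, rfl⟩ := hMle hy
    have hcD : c ∈ D := ⟨hc, hy⟩
    rw [Subgroup.mem_bot]
    exact (QuotientGroup.eq_one_iff c).mpr (hDK hcD)
  · have h1 := le_pPrimeCore p hMn hM
    rw [hOp] at h1
    exact hMne (le_bot_iff.mp h1)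

end HH

section Main

/-- restriction of an action to an invariant subgroup -/
theorem exists_restrict_hom {A : Type u} {X : Type v} [CommGroup A] [Group X]
    (φ : X →* MulAut A) (B : Subgroup A) (hB : ∀ x : X, ∀ b ∈ B, φ x b ∈ B) :
    ∃ ψ : X →* MulAut ↥B, ∀ (x : X) (b : ↥B), ((ψ x b : ↥B) : A) = φ x (b : A) := by
  refine ⟨{
      toFun := fun l =>
      { toFun := fun w => ⟨φ l (w : A), hB l w w.2⟩
        invFun := fun w => ⟨φ l⁻¹ (w : A), hB _ w w.2⟩
        left_inv := by
          intro w
          apply Subtype.ext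
          show φ l⁻¹ (φ l (w : A)) = w
          rw [map_inv, MulAut.inv_apply_self]
        right_inv := by
          intro w
          apply Subtype.ext
          show φ l (φ l⁻¹ (w : A)) = w
          rw [map_inv, MulAut.apply_inv_self]
        map_mul' := by
          intro w w'
          apply Subtype.ext
          show φ l ((w : A) * (w' : A)) = φ l (w : A) * φ l (w' : A)
          rw [map_mul] }
      map_one' := by
        apply MulEquiv.ext
        intro w
        apply Subtype.ext
        show φ 1 (w : A) = w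
        simp
      map_mul' := by
        intro l l'
        apply MulEquiv.ext
        intro w
        apply Subtype.ext
        show φ (l * l') (w : A) = φ l (φ l' (w : A))
        simp }, fun l w => rfl⟩

/-- the induced action on the quotient by an invariant subgroup -/
theorem exists_quotient_hom {A : Type u} {X : Type v} [CommGroup A] [Group X]
    (φ : X →* MulAut A) (B : Subgroup A) (hB : ∀ x : X, ∀ b ∈ B, φ x b ∈ B) :
    ∃ ψ : X →* MulAut (A ⧸ B), ∀ (x : X) (v : A),
      ψ x (QuotientGroup.mk v) = QuotientGroup.mk (φ x v) := by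
  have hle : ∀ x : X, B ≤ B.comap (φ x).toMonoidHom := fun x b hb => hB x b hb
  obtain ⟨F, hF⟩ : ∃ F : X → ((A ⧸ B) →* (A ⧸ B)),
      ∀ x v, F x (QuotientGroup.mk v) = QuotientGroup.mk (φ x v) :=
    ⟨fun x => QuotientGroup.map B B (φ x).toMonoidHom (hle x), fun x v => rfl⟩
  have hF1 : ∀ q, F 1 q = q := by
    intro q
    obtain ⟨v, rfl⟩ := QuotientGroup.mk_surjective q
    rw [hF, map_one]; rfl
  have hFmul : ∀ x y q, F (x * y) q = F x (F y q) := by
    intro x y q
    obtain ⟨v, rfl⟩ := QuotientGroup.mk_surjective q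
    rw [hF, hF, hF, map_mul]; rfl
  refine ⟨{
      toFun := fun x =>
        { toFun := F x
          invFun := F x⁻¹
          left_inv := by intro q; rw [← hFmul, inv_mul_cancel, hF1]
          right_inv := by intro q; rw [← hFmul, mul_inv_cancel, hF1]
          map_mul' := map_mul (F x) }
      map_one' := by apply MulEquiv.ext; intro q; exact hF1 q
      map_mul' := by intro x y; apply MulEquiv.ext; intro q; exact hFmul x y q },
    fun x v => hF x v⟩

set_option maxHeartbeats 1600000 in
theorem quad_psolv_aux (p : ℕ) [hp : Fact p.Prime] (hp2 : p ≠ 2) (X : Type v) [Group X]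
    [Finite X] (hsol : IsPSolvable p X) (a : X) :
    ∀ n : ℕ, ∀ (A : Type u) [CommGroup A] [Finite A], Nat.card A = n → (∀ v : A, v ^ p = 1) →
    ∀ (φ : X →* MulAut A), QuadAct φ a →
    (∀ N : Subgroup X, N.Normal → a ∈ N → ¬ (∀ x ∈ N, ∃ k : ℕ, φ x ^ p ^ k = 1)) →
    p = 3 ∧ Cfsg.Involves (Matrix.SpecialLinearGroup (Fin 2) (ZMod 3)) X := by
  classical
  intro n
  induction n using Nat.strong_induction_on with
  | _ n ih =>
  intro A _ _ hcard hAp φ hq hyp
  by_cases hirr : ∀ B : Subgroup A, (∀ x : X, ∀ b ∈ B, φ x b ∈ B) → B = ⊥ ∨ B = ⊤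
  · -- the irreducible case
    obtain ⟨π, hπ, hπs⟩ : ∃ π : X →* ↥φ.range,
        (∀ l, ((π l : ↥φ.range) : MulAut A) = φ l) ∧ Function.Surjective π :=
      ⟨φ.rangeRestrict, fun l => rfl, φ.rangeRestrict_surjective⟩
    haveI : Finite ↥φ.range := Finite.of_surjective π hπs
    have hsol' : IsPSolvable p ↥φ.range := isPSolvable_of_surjective hp.out π hπs hsol
    have hφa : φ a ≠ 1 := by
      intro h
      apply hyp φ.ker inferInstance (MonoidHom.mem_ker.mpr h)
      intro x hx
      exact ⟨0, by rw [pow_zero, pow_one]; exact MonoidHom.mem_ker.mp hx⟩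
    have hOp : pCore p ↥φ.range = ⊥ := by
      obtain ⟨P₁, hP₁⟩ : ∃ P₁ : Subgroup (MulAut A),
          P₁ = (pCore p ↥φ.range).map φ.range.subtype := ⟨_, rfl⟩
      have hP₁p : IsPGroup p P₁ := by
        rw [hP₁]
        exact (pCore_isPGroup (G := ↥φ.range) p).map _
      have hP₁n : ∀ g ∈ P₁, ∀ x : X, (φ x)⁻¹ * g * φ x ∈ P₁ := by
        intro g hg x
        rw [hP₁] at hg ⊢
        obtain ⟨g', hg', rfl⟩ := hg
        refine ⟨(π x)⁻¹ * g' * π x, ?_, ?_⟩
        · have h1 := (pCore_normal p ↥φ.range).conj_mem g' hg' (π x)⁻¹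
          rwa [inv_inv] at h1
        · rw [Subgroup.coe_subtype, Subgroup.coe_mul, Subgroup.coe_mul, Subgroup.coe_inv, hπ]
      have hAnt : Nontrivial A := by
        by_contra hnt
        rw [not_nontrivial_iff_subsingleton] at hnt
        apply hφa
        apply MulEquiv.ext
        intro v
        exact Subsingleton.elim _ _
      have hIsP : IsPGroup p A := fun v => ⟨1, by rw [pow_one]; exact hAp v⟩
      have hpA : p ∣ Nat.card A := by
        obtain ⟨k, hk0, hk⟩ := hIsP.nontrivial_iff_card.mp hAnt
        rw [hk]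
        exact dvd_pow_self _ (ne_of_gt hk0)
      have h1fix : (1 : A) ∈ MulAction.fixedPoints P₁ A := by
        intro g
        exact map_one (g : MulAut A)
      obtain ⟨b, hb, hb1⟩ := hP₁p.exists_fixed_point_of_prime_dvd_card_of_fixed_point A hpA h1fix
      obtain ⟨B, hB⟩ : ∃ B : Subgroup A, ∀ v, v ∈ B ↔ ∀ g ∈ P₁, g v = v :=
        ⟨{ carrier := {v | ∀ g ∈ P₁, g v = v}
           one_mem' := fun g _ => map_one _
           mul_mem' := by
             intro u v hu hv g hg
             rw [map_mul, hu g hg, hv g hg]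
           inv_mem' := by
             intro u hu g hg
             rw [map_inv, hu g hg] }, fun v => Iff.rfl⟩
      have hBinv : ∀ x : X, ∀ v ∈ B, φ x v ∈ B := by
        intro x v hv
        rw [hB] at hv ⊢
        intro g hg
        have h2 := hv _ (hP₁n g hg x)
        rw [MulAut.mul_apply, MulAut.mul_apply] at h2
        have h3 := congrArg (φ x) h2
        rw [MulAut.apply_inv_self] at h3
        exact h3
      have hbB : b ∈ B := by
        rw [hB]
        intro g hg
        exact hb ⟨g, hg⟩
      have hBne : B ≠ ⊥ := by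
        intro h
        rw [h, Subgroup.mem_bot] at hbB
        exact hb1 hbB.symm
      rcases hirr B hBinv with h | h
      · exact absurd h hBne
      · rw [eq_bot_iff]
        intro f hf
        rw [Subgroup.mem_bot]
        apply Subtype.ext
        apply MulEquiv.ext
        intro v
        have hvB : v ∈ B := by rw [h]; trivial
        have hfP : (f : MulAut A) ∈ P₁ := by
          rw [hP₁]
          exact ⟨f, hf, rfl⟩
        exact (hB v).mp hvB _ hfP
    have hap : π a ^ p = 1 := by
      apply Subtype.ext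
      rw [Subgroup.coe_pow, hπ]
      apply MulEquiv.ext
      intro v
      have key : ∀ k : ℕ, (φ a ^ k) v = v * (φ a v / v) ^ k := by
        intro k
        induction k with
        | zero => simp
        | succ k ih =>
          rw [pow_succ', MulAut.mul_apply, ih, map_mul, map_pow, hq v, pow_succ', ← mul_assoc,
            mul_div_cancel]
      rw [key, hAp, mul_one]; rfl
    have hπa : π a ≠ 1 := by
      intro h
      apply hφa
      have h1 := congrArg Subtype.val h
      rw [hπ] at h1
      exact h1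
    have hq' : QuadAct φ.range.subtype (π a) := by
      intro v
      have h1 := hq v
      rw [Subgroup.coe_subtype, hπ]
      exact h1
    have hcop := pPrimeCore_coprime (G := ↥φ.range) p
    have haR : ∀ r ∈ pPrimeCore p ↥φ.range, π a * r * (π a)⁻¹ ∈ pPrimeCore p ↥φ.range :=
      fun r hr => (pPrimeCore_normal p ↥φ.range).conj_mem r hr (π a)
    have hne : ∃ r ∈ pPrimeCore p ↥φ.range, π a * r * (π a)⁻¹ ≠ r := by
      by_contra hcon
      push Not at hcon
      apply hπa
      have h1 : π a ∈ Subgroup.centralizer (pPrimeCore p ↥φ.range : Set ↥φ.range) := by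
        rw [Subgroup.mem_centralizer_iff]
        intro r hr
        have h0 := hcon r hr
        have e : π a * r = (π a * r * (π a)⁻¹) * π a := by group
        rw [h0] at e
        exact e.symm
      have h2 := centralizer_pPrimeCore_le_of_isPSolvable hsol' hOp h1
      have h3 := orderOf_coprime_of_mem_pPrimeCore h2
      have h4 : orderOf (π a) ∣ p := orderOf_dvd_of_pow_eq_one hap
      have h5 : orderOf (π a) = 1 := Nat.eq_one_of_dvd_coprimes h3 dvd_rfl h4
      exact orderOf_eq_one_iff.mp h5
    obtain ⟨h3, hinv⟩ := quad_sol_faithful hp2 hAp φ.range.subtype φ.range.subtype_injective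
      (π a) hq' (pPrimeCore p ↥φ.range) hcop haR hne
    exact ⟨h3, involves_of_surjective_hom π hπs hinv⟩
  · -- the reducible case
    push Not at hirr
    obtain ⟨B, hBinv, hBbot, hBtop⟩ := hirr
    obtain ⟨φB, hφB⟩ := exists_restrict_hom φ B hBinv
    obtain ⟨φQ, hφQ⟩ := exists_quotient_hom φ B hBinv
    have hcB : Nat.card ↥B < n := by
      rw [← hcard]
      exact lt_of_le_of_ne (Subgroup.card_le_card_group B)
        (fun h => hBtop (Subgroup.eq_top_of_card_eq B h))
    have hcQ : Nat.card (A ⧸ B) < n := by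
      rw [← hcard, Subgroup.card_eq_card_quotient_mul_card_subgroup B]
      have h1 : 1 < Nat.card ↥B := (Subgroup.one_lt_card_iff_ne_bot B).mpr hBbot
      have h2 : 0 < Nat.card (A ⧸ B) := Nat.card_pos
      nlinarith
    have hApB : ∀ v : ↥B, v ^ p = 1 := by
      intro v
      apply Subtype.ext
      rw [Subgroup.coe_pow, hAp]; rfl
    have hApQ : ∀ v : A ⧸ B, v ^ p = 1 := by
      intro q
      obtain ⟨v, rfl⟩ := QuotientGroup.mk_surjective q
      rw [← QuotientGroup.mk_pow, hAp]; rfl
    have hqB : QuadAct φB a := by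
      intro v
      apply Subtype.ext
      rw [hφB, Subgroup.coe_div, hφB]
      exact hq v
    have hqQ : QuadAct φQ a := by
      intro q
      obtain ⟨v, rfl⟩ := QuotientGroup.mk_surjective q
      rw [hφQ, ← QuotientGroup.mk_div, hφQ, hq v]
    by_cases h1 : ∀ N : Subgroup X, N.Normal → a ∈ N → ¬ (∀ x ∈ N, ∃ k : ℕ, φB x ^ p ^ k = 1)
    · exact ih _ hcB ↥B rfl hApB φB hqB h1
    by_cases h2 : ∀ N : Subgroup X, N.Normal → a ∈ N → ¬ (∀ x ∈ N, ∃ k : ℕ, φQ x ^ p ^ k = 1)
    · exact ih _ hcQ (A ⧸ B) rfl hApQ φQ hqQ h2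
    exfalso
    push Not at h1 h2
    obtain ⟨N₁, hN₁n, haN₁, hN₁⟩ := h1
    obtain ⟨N₂, hN₂n, haN₂, hN₂⟩ := h2
    apply hyp (N₁ ⊓ N₂) inferInstance ⟨haN₁, haN₂⟩
    intro x hx
    obtain ⟨k₁, hk₁⟩ := hN₁ x hx.1
    obtain ⟨k₂, hk₂⟩ := hN₂ x hx.2
    refine ⟨k₁ + k₂ + 1, ?_⟩
    have e1 : φB (x ^ p ^ (k₁ + k₂)) = 1 := by
      rw [map_pow, pow_add, pow_mul, hk₁, one_pow]
    have e2 : φQ (x ^ p ^ (k₁ + k₂)) = 1 := by
      rw [map_pow, pow_add, mul_comm, pow_mul, hk₂, one_pow]
    obtain ⟨m, hm⟩ : ∃ m, m = x ^ p ^ (k₁ + k₂) := ⟨_, rfl⟩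
    rw [← hm] at e1 e2
    have hδ : ∀ v : A, φ m v / v ∈ B := by
      intro v
      have h := hφQ m v
      rw [e2] at h
      have h' : (QuotientGroup.mk v : A ⧸ B) = QuotientGroup.mk (φ m v) := h
      rw [QuotientGroup.eq] at h'
      rw [div_eq_mul_inv, mul_comm]; exact h'
    have hfixB : ∀ b ∈ B, φ m b = b := by
      intro b hb
      have h := hφB m ⟨b, hb⟩
      rw [e1] at h
      exact h.symm
    have key : ∀ j : ℕ, ∀ v : A, φ (m ^ j) v = v * (φ m v / v) ^ j := by
      intro j
      induction j with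
      | zero => intro v; simp
      | succ j ihj =>
        intro v
        rw [pow_succ', map_mul, MulAut.mul_apply, ihj, map_mul, map_pow, hfixB _ (hδ v),
          pow_succ', ← mul_assoc, mul_div_cancel]
    have e3 : φ x ^ p ^ (k₁ + k₂ + 1) = φ (m ^ p) := by
      rw [hm, ← pow_mul, ← pow_succ, map_pow]
    rw [e3]
    apply MulEquiv.ext
    intro v
    rw [key, hAp, mul_one]; rfl

/-- A quadratic element of a `p`-solvable group (`p` odd) acting on an abelian group of exponent
`p`, not contained in any normal subgroup acting as a `p`-group: then `p = 3` and `SL(2,3)` is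
involved. -/
theorem quad_psolv {A : Type u} {X : Type v} [CommGroup A] [Finite A] [Group X] [Finite X]
    {p : ℕ} [Fact p.Prime] (hp2 : p ≠ 2) (hAp : ∀ v : A, v ^ p = 1) (φ : X →* MulAut A)
    (hsol : IsPSolvable p X) (a : X) (hq : QuadAct φ a)
    (hyp : ∀ N : Subgroup X, N.Normal → a ∈ N → ¬ (∀ x ∈ N, ∃ k : ℕ, φ x ^ p ^ k = 1)) :
    p = 3 ∧ Cfsg.Involves (Matrix.SpecialLinearGroup (Fin 2) (ZMod 3)) X :=
  quad_psolv_aux p hp2 X hsol a _ A rfl hAp φ hq hyp

end Main

end Cfsg.Agent.Lib.Helper17
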