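import Cfsg.Agent.Lib.Helper17.QuadSL2
import Cfsg.Agent.Lib.Helper17.QuadPSolv

set_option autoImplicit false
set_option maxHeartbeats 1000000
set_option linter.unusedSimpArgs false
set_option linter.unusedVariables false
set_option linter.style.haveILetI false

/-!
A finite group generated by two elements acting quadratically on an abelian group of odd prime
exponent `p`, such that the image of a Sylow `2`-subgroup is commutative, acts as a `p`-group.
-/

namespace Cfsg.Agent.Lib.Helper17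

open Cfsg.Agent.Lib.Helper1 Cfsg.Agent.Lib.Helper5 Cfsg.Agent.Lib.Helper12

universe u v

section SL2

variable {K : Type*} [Field K]

/-- an element of square one in a two-dimensional special linear group is central (char not 2) -/
theorem sl2_invol_central (h2 : (2 : K) ≠ 0) (g : Matrix.SpecialLinearGroup (Fin 2) K)
    (hg : g * g = 1) (h : Matrix.SpecialLinearGroup (Fin 2) K) : g * h = h * g := by
  have e1 : (g : Matrix (Fin 2) (Fin 2) K) * (g : Matrix (Fin 2) (Fin 2) K) = 1 := by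
    have h0 := congrArg Subtype.val hg
    rw [Matrix.SpecialLinearGroup.coe_mul] at h0
    exact h0
  have e2 := mat2_sq (g : Matrix (Fin 2) (Fin 2) K)
  rw [e1, g.det_coe, one_smul] at e2
  have e3 : (g : Matrix (Fin 2) (Fin 2) K).trace • (g : Matrix (Fin 2) (Fin 2) K)
      = (2 : K) • (1 : Matrix (Fin 2) (Fin 2) K) := by
    rw [two_smul]
    rw [eq_sub_iff_add_eq] at e2
    exact e2.symm
  have htr : (g : Matrix (Fin 2) (Fin 2) K).trace ≠ 0 := by
    intro h0
    rw [h0, zero_smul] at e3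
    have h1 := congrFun (congrFun e3 0) 0
    simp at h1
    exact h2 h1.symm
  have e4 : (g : Matrix (Fin 2) (Fin 2) K)
      = ((g : Matrix (Fin 2) (Fin 2) K).trace⁻¹ * 2) • (1 : Matrix (Fin 2) (Fin 2) K) := by
    rw [mul_smul, ← e3, smul_smul, inv_mul_cancel₀ htr, one_smul]
  apply Subtype.ext
  rw [Matrix.SpecialLinearGroup.coe_mul, Matrix.SpecialLinearGroup.coe_mul, e4]
  simp

/-- a finite subgroup of a two-dimensional special linear group (char not 2) with a commutative
Sylow 2-subgroup, generated by elements of odd order, has odd order -/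
theorem sl2_odd_of_abelian_sylow2 (h2 : (2 : K) ≠ 0)
    (G : Subgroup (Matrix.SpecialLinearGroup (Fin 2) K)) [Finite G] (P : Sylow 2 G)
    (hP : ∀ s ∈ P, ∀ t ∈ P, s * t = t * s)
    (S : Set G) (hS : Subgroup.closure S = ⊤) (hSodd : ∀ s ∈ S, Odd (orderOf s)) :
    Odd (Nat.card G) := by
  classical
  by_contra heven
  rw [Nat.not_odd_iff_even] at heven
  have h2dvd : 2 ∣ Nat.card G := heven.two_dvd
  have hPcard : 2 ∣ Nat.card P := by
    rw [Sylow.card_eq_multiplicity]
    apply dvd_pow_self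
    intro h0
    have h3 := Nat.factorization_eq_zero_iff (Nat.card G) 2 |>.mp h0
    rcases h3 with h3 | h3 | h3
    · exact h3 Nat.prime_two
    · exact h3 h2dvd
    · exact (Nat.card_pos (α := G)).ne' h3
  obtain ⟨z, hz⟩ := exists_prime_orderOf_dvd_card' 2 hPcard
  letI : CommGroup ↥(P : Subgroup G) :=
    { (inferInstance : Group ↥(P : Subgroup G)) with
      mul_comm := fun s t => Subtype.ext (hP s s.2 t t.2) }
  have hz2 : (z : G) * (z : G) = 1 := by
    have h1 : z ^ 2 = 1 := by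
      have h0 := pow_orderOf_eq_one z
      rw [hz] at h0
      exact h0
    have h3 := congrArg Subtype.val h1
    rw [Subgroup.coe_pow, pow_two] at h3
    exact h3
  have hz1 : (z : G) ≠ 1 := by
    intro h
    have h1 : z = 1 := Subtype.ext h
    rw [h1, orderOf_one] at hz
    norm_num at hz
  have hzc : ∀ g : G, (z : G) * g = g * (z : G) := by
    intro g
    apply Subtype.ext
    rw [Subgroup.coe_mul, Subgroup.coe_mul]
    apply sl2_invol_central h2
    have h3 := congrArg Subtype.val hz2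
    rw [Subgroup.coe_mul] at h3
    exact h3
  have key : ∀ (k : ℕ) (g₀ : G), g₀⁻¹ * (z : G) ^ k * g₀ ∈ (P : Subgroup G) →
      g₀⁻¹ * (z : G) ^ k * g₀ = (z : G) ^ k := by
    intro k g₀ _
    have h1 : (z : G) ^ k * g₀ = g₀ * (z : G) ^ k := by
      have : Commute (z : G) g₀ := hzc g₀
      exact (this.pow_left k).eq
    rw [mul_assoc, h1, inv_mul_cancel_left]
  have hτ := MonoidHom.transfer_eq_pow (MonoidHom.id ↥(P : Subgroup G)) (z : G) key
  have hidx : ¬ 2 ∣ (P : Subgroup G).index := P.not_dvd_index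
  have hpow : (z : G) ^ (P : Subgroup G).index = (z : G) := by
    obtain ⟨m, hm⟩ : Odd (P : Subgroup G).index := Nat.not_even_iff_odd.mp
      (fun h => hidx h.two_dvd)
    rw [hm, pow_succ, pow_mul, pow_two, hz2, one_pow, one_mul]
  have hτ1 : MonoidHom.transfer (MonoidHom.id ↥(P : Subgroup G)) (z : G) ≠ 1 := by
    rw [hτ]
    intro h
    apply hz1
    have h3 := congrArg Subtype.val h
    simp only [MonoidHom.id_apply] at h3
    rw [hpow] at h3
    exact h3
  apply hτ1
  have hle : Subgroup.closure S ≤ (MonoidHom.transfer (MonoidHom.id ↥(P : Subgroup G))).ker := by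
    rw [Subgroup.closure_le]
    intro s hs
    rw [SetLike.mem_coe, MonoidHom.mem_ker]
    obtain ⟨k, hk⟩ := P.isPGroup' (MonoidHom.transfer (MonoidHom.id ↥(P : Subgroup G)) s)
    have h1 : orderOf (MonoidHom.transfer (MonoidHom.id ↥(P : Subgroup G)) s) ∣ 2 ^ k :=
      orderOf_dvd_of_pow_eq_one hk
    have h3 : orderOf (MonoidHom.transfer (MonoidHom.id ↥(P : Subgroup G)) s) ∣ orderOf s :=
      orderOf_map_dvd _ s
    have hcop : Nat.Coprime (orderOf s) (2 ^ k) :=
      Nat.Coprime.pow_right k (Nat.Coprime.symm (Nat.coprime_two_left.mpr (hSodd s hs)))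
    have h4 : orderOf (MonoidHom.transfer (MonoidHom.id ↥(P : Subgroup G)) s) = 1 :=
      Nat.eq_one_of_dvd_coprimes hcop h3 h1
    exact orderOf_eq_one_iff.mp h4
  rw [hS] at hle
  exact MonoidHom.mem_ker.mp (hle (Subgroup.mem_top _))

end SL2


section Main

/-- invariance under two generators gives invariance under the whole group -/
theorem invariant_of_gen {A : Type u} {Λ : Type v} [CommGroup A] [Group Λ] [Finite Λ]
    (φ : Λ →* MulAut A) (x y : Λ) (hgen : Subgroup.closure {x, y} = ⊤) (B : Subgroup A)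
    (hx : ∀ b ∈ B, φ x b ∈ B) (hy : ∀ b ∈ B, φ y b ∈ B) : ∀ g : Λ, ∀ b ∈ B, φ g b ∈ B := by
  intro g
  have hg : g ∈ Subgroup.closure {x, y} := by rw [hgen]; trivial
  induction hg using Subgroup.closure_induction with
  | mem z hz =>
    rcases hz with rfl | rfl
    · exact hx
    · exact hy
  | one => intro b hb; rw [map_one]; exact hb
  | mul a c _ _ ha hc =>
    intro b hb
    rw [map_mul, MulAut.mul_apply]
    exact ha _ (hc b hb)
  | inv a _ ha =>
    have h1 : a * a ^ (orderOf a - 1) = 1 := by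
      rw [← pow_succ', Nat.sub_add_cancel (orderOf_pos a), pow_orderOf_eq_one]
    rw [← eq_inv_of_mul_eq_one_right h1]
    have hpow : ∀ k : ℕ, ∀ b ∈ B, φ (a ^ k) b ∈ B := by
      intro k
      induction k with
      | zero => intro b hb; rw [pow_zero, map_one]; exact hb
      | succ k ih =>
        intro b hb
        rw [pow_succ, map_mul, MulAut.mul_apply]
        exact ih _ (ha b hb)
    exact hpow _

/-- powers of a quadratic element on a group of exponent `p` -/
theorem quadAct_pow_p {A : Type u} {Λ : Type v} [CommGroup A] [Group Λ] {p : ℕ}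
    (hAp : ∀ v : A, v ^ p = 1) (φ : Λ →* MulAut A) (x : Λ) (hq : QuadAct φ x) :
    φ x ^ p = 1 := by
  apply MulEquiv.ext
  intro v
  have key : ∀ k : ℕ, (φ x ^ k) v = v * (φ x v / v) ^ k := by
    intro k
    induction k with
    | zero => simp
    | succ k ih =>
      rw [pow_succ', MulAut.mul_apply, ih, map_mul, map_pow, hq v, pow_succ', ← mul_assoc,
        mul_div_cancel]
  rw [key, hAp, mul_one]; rfl

/-- the fixed points of a quadratic element commuting with the generators: irreducibility forces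
it to act trivially -/
theorem quadAct_trivial_of_comm {A : Type u} {Λ : Type v} [CommGroup A] [Group Λ]
    (φ : Λ →* MulAut A) (x y : Λ) (hx : QuadAct φ x)
    (hirr : ∀ B : Subgroup A, (∀ b ∈ B, φ x b ∈ B) → (∀ b ∈ B, φ y b ∈ B) → B = ⊥ ∨ B = ⊤)
    (hc : φ x * φ y = φ y * φ x) : φ x = 1 := by
  obtain ⟨B, hB⟩ : ∃ B : Subgroup A, ∀ v, v ∈ B ↔ φ x v = v :=
    ⟨{ carrier := {v | φ x v = v}
       one_mem' := map_one _
       mul_mem' := by
         intro u v hu hv
         show φ x (u * v) = u * v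
         rw [map_mul, hu, hv]
       inv_mem' := by
         intro u hu
         show φ x u⁻¹ = u⁻¹
         rw [map_inv, hu] }, fun v => Iff.rfl⟩
  have h1 : ∀ b ∈ B, φ x b ∈ B := by
    intro b hb
    rw [(hB b).mp hb]
    exact hb
  have h2 : ∀ b ∈ B, φ y b ∈ B := by
    intro b hb
    rw [hB]
    have h3 : (φ x * φ y) b = (φ y * φ x) b := by rw [hc]
    rw [MulAut.mul_apply, MulAut.mul_apply, (hB b).mp hb] at h3
    exact h3
  apply MulEquiv.ext
  intro v
  rcases hirr B h1 h2 with h | h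
  · have h3 : φ x v / v ∈ B := by rw [hB]; exact hx v
    rw [h, Subgroup.mem_bot] at h3
    rw [div_eq_one] at h3
    rw [h3]; rfl
  · have h3 : v ∈ B := by rw [h]; trivial
    rw [(hB v).mp h3]; rfl

/-- the irreducible case: the two quadratic generators act trivially -/
theorem quad_two_irr {A : Type u} {Λ : Type v} [CommGroup A] [Finite A] [Group Λ] [Finite Λ]
    {p : ℕ} [hp : Fact p.Prime] (hp2 : p ≠ 2)
    (hAp : ∀ v : A, v ^ p = 1) (φ : Λ →* MulAut A) (x y : Λ) (hgen : Subgroup.closure {x, y} = ⊤)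
    (hx : QuadAct φ x) (hy : QuadAct φ y)
    (hirr : ∀ B : Subgroup A, (∀ b ∈ B, φ x b ∈ B) → (∀ b ∈ B, φ y b ∈ B) → B = ⊥ ∨ B = ⊤)
    (T : Sylow 2 Λ) (hT : ∀ s ∈ T, ∀ t ∈ T, φ s * φ t = φ t * φ s) :
    φ x = 1 ∧ φ y = 1 := by
  classical
  by_contra hxy
  obtain ⟨K, hK, hchar, Ψ, hΨ⟩ := quad_embed_sl2 hAp φ x y hgen hx hy hirr hxy
  letI := hK
  haveI := hchar
  have h2ne : (2 : K) ≠ 0 := by
    intro h
    have h3 : ((2 : ℕ) : K) = 0 := by exact_mod_cast h
    rw [CharP.cast_eq_zero_iff K p] at h3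
    exact hp2 ((Nat.prime_dvd_prime_iff_eq hp.1 Nat.prime_two).mp h3)
  -- commuting transfers between `φ` and `Ψ`
  have hcomm : ∀ s t : Λ, φ s * φ t = φ t * φ s ↔ Ψ s * Ψ t = Ψ t * Ψ s := by
    intro s t
    have e1 : φ s * φ t = φ t * φ s ↔ φ (s * t * s⁻¹ * t⁻¹) = 1 := by
      rw [map_mul, map_mul, map_mul, map_inv, map_inv]
      constructor
      · intro h; rw [h]; group
      · intro h
        have : φ s * φ t = (φ s * φ t * (φ s)⁻¹ * (φ t)⁻¹) * (φ t * φ s) := by group
        rw [this, h, one_mul]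
    have e2 : Ψ s * Ψ t = Ψ t * Ψ s ↔ Ψ (s * t * s⁻¹ * t⁻¹) = 1 := by
      rw [map_mul, map_mul, map_mul, map_inv, map_inv]
      constructor
      · intro h; rw [h]; group
      · intro h
        have : Ψ s * Ψ t = (Ψ s * Ψ t * (Ψ s)⁻¹ * (Ψ t)⁻¹) * (Ψ t * Ψ s) := by group
        rw [this, h, one_mul]
    rw [e1, e2, hΨ]
  obtain ⟨π, hπ, hπs⟩ : ∃ π : Λ →* ↥Ψ.range,
      (∀ l, ((π l : ↥Ψ.range) : Matrix.SpecialLinearGroup (Fin 2) K) = Ψ l) ∧
        Function.Surjective π :=
    ⟨Ψ.rangeRestrict, fun l => rfl, Ψ.rangeRestrict_surjective⟩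
  haveI : Finite ↥Ψ.range := Finite.of_surjective π hπs
  have hPcomm : ∀ s ∈ T.mapSurjective hπs, ∀ t ∈ T.mapSurjective hπs, s * t = t * s := by
    intro s hs t ht
    have hs' : s ∈ (T : Subgroup Λ).map π := by
      rw [← Sylow.coe_mapSurjective hπs]; exact hs
    have ht' : t ∈ (T : Subgroup Λ).map π := by
      rw [← Sylow.coe_mapSurjective hπs]; exact ht
    obtain ⟨s₀, hs₀, rfl⟩ := hs'
    obtain ⟨t₀, ht₀, rfl⟩ := ht'
    apply Subtype.ext
    rw [Subgroup.coe_mul, Subgroup.coe_mul, hπ, hπ]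
    exact (hcomm s₀ t₀).mp (hT s₀ hs₀ t₀ ht₀)
  have hxp : Ψ x ^ p = 1 := by
    rw [← map_pow, hΨ, map_pow]
    exact quadAct_pow_p hAp φ x hx
  have hyp : Ψ y ^ p = 1 := by
    rw [← map_pow, hΨ, map_pow]
    exact quadAct_pow_p hAp φ y hy
  have hpodd : Odd p := hp.1.odd_of_ne_two hp2
  have hoddord : ∀ g : Λ, Ψ g ^ p = 1 → Odd (orderOf (π g)) := by
    intro g hg
    have h1 : π g ^ p = 1 := by
      apply Subtype.ext
      rw [Subgroup.coe_pow, hπ, hg]; rfl
    have h3 : orderOf (π g) ∣ p := orderOf_dvd_of_pow_eq_one h1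
    rcases (Nat.dvd_prime hp.1).mp h3 with h | h
    · rw [h]; exact odd_one
    · rw [h]; exact hpodd
  have hclos : Subgroup.closure ({π x, π y} : Set ↥Ψ.range) = ⊤ := by
    have h1 := MonoidHom.map_closure π ({x, y} : Set Λ)
    rw [hgen, Subgroup.map_top_of_surjective π hπs] at h1
    rw [h1]
    congr 1
    ext w
    simp [Set.image_pair]
  have hodd : Odd (Nat.card ↥Ψ.range) := by
    apply sl2_odd_of_abelian_sylow2 h2ne Ψ.range (T.mapSurjective hπs) hPcomm _ hclos
    intro s hs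
    rcases hs with rfl | rfl
    · exact hoddord x hxp
    · exact hoddord y hyp
  have hΨc : Ψ x * Ψ y = Ψ y * Ψ x :=
    sl2_odd_comm p hp2 Ψ.range hodd (Ψ x) (Ψ y) ⟨x, rfl⟩ ⟨y, rfl⟩ hxp hyp
  have hφc : φ x * φ y = φ y * φ x := (hcomm x y).mpr hΨc
  apply hxy
  refine ⟨quadAct_trivial_of_comm φ x y hx hirr hφc,
    quadAct_trivial_of_comm φ y x hy (fun B h1 h2 => hirr B h2 h1) hφc.symm⟩

theorem quad_two_aux (p : ℕ) [hp : Fact p.Prime] (hp2 : p ≠ 2) (Λ : Type v) [Group Λ]
    [Finite Λ] (x y : Λ) (hgen : Subgroup.closure {x, y} = ⊤) (T : Sylow 2 Λ) :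
    ∀ n : ℕ, ∀ (A : Type u) [CommGroup A] [Finite A], Nat.card A = n → (∀ v : A, v ^ p = 1) →
    ∀ (φ : Λ →* MulAut A), QuadAct φ x → QuadAct φ y →
    (∀ s ∈ T, ∀ t ∈ T, φ s * φ t = φ t * φ s) →
    ∀ g : Λ, ∃ k : ℕ, φ g ^ p ^ k = 1 := by
  classical
  intro n
  induction n using Nat.strong_induction_on with
  | _ n ih =>
  intro A _ _ hcard hAp φ hx hy hT g
  by_cases hirr : ∀ B : Subgroup A, (∀ b ∈ B, φ x b ∈ B) → (∀ b ∈ B, φ y b ∈ B) → B = ⊥ ∨ B = ⊤
  · obtain ⟨h1, h2⟩ := quad_two_irr hp2 hAp φ x y hgen hx hy hirr T hT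
    have hle : Subgroup.closure {x, y} ≤ φ.ker := by
      rw [Subgroup.closure_le]
      intro z hz
      rcases hz with rfl | rfl
      · exact MonoidHom.mem_ker.mpr h1
      · exact MonoidHom.mem_ker.mpr h2
    rw [hgen] at hle
    exact ⟨0, by rw [pow_zero, pow_one]; exact MonoidHom.mem_ker.mp (hle (Subgroup.mem_top g))⟩
  · push Not at hirr
    obtain ⟨B, hBx, hBy, hBbot, hBtop⟩ := hirr
    have hBinv := invariant_of_gen φ x y hgen B hBx hBy
    obtain ⟨φB, hφB⟩ := exists_restrict_hom φ B hBinv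
    obtain ⟨φQ, hφQ⟩ := exists_quotient_hom φ B hBinv
    have hcB : Nat.card ↥B < n := by
      rw [← hcard]
      exact lt_of_le_of_ne (Subgroup.card_le_card_group B)
        (fun h => hBtop (Subgroup.eq_top_of_card_eq B h))
    have hcQ : Nat.card (A ⧸ B) < n := by
      rw [← hcard, Subgroup.card_eq_card_quotient_mul_card_subgroup B]
      have h1 : 1 < Nat.card ↥B := (Subgroup.one_lt_card_iff_ne_bot B).mpr hBbot
      have h2 : 0 < Nat.card (A ⧸ B) := Nat.card_pos
      nlinarith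
    have hApB : ∀ v : ↥B, v ^ p = 1 := by
      intro v
      apply Subtype.ext
      rw [Subgroup.coe_pow, hAp]; rfl
    have hApQ : ∀ v : A ⧸ B, v ^ p = 1 := by
      intro q
      obtain ⟨v, rfl⟩ := QuotientGroup.mk_surjective q
      rw [← QuotientGroup.mk_pow, hAp]; rfl
    have hqB : ∀ a : Λ, QuadAct φ a → QuadAct φB a := by
      intro a hq v
      apply Subtype.ext
      rw [hφB, Subgroup.coe_div, hφB]
      exact hq v
    have hqQ : ∀ a : Λ, QuadAct φ a → QuadAct φQ a := by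
      intro a hq q
      obtain ⟨v, rfl⟩ := QuotientGroup.mk_surjective q
      rw [hφQ, ← QuotientGroup.mk_div, hφQ, hq v]
    have hTB : ∀ s ∈ T, ∀ t ∈ T, φB s * φB t = φB t * φB s := by
      intro s hs t ht
      apply MulEquiv.ext
      intro b
      apply Subtype.ext
      rw [MulAut.mul_apply, MulAut.mul_apply, hφB, hφB, hφB, hφB]
      have h3 : (φ s * φ t) (b : A) = (φ t * φ s) (b : A) := by rw [hT s hs t ht]
      exact h3
    have hTQ : ∀ s ∈ T, ∀ t ∈ T, φQ s * φQ t = φQ t * φQ s := by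
      intro s hs t ht
      apply MulEquiv.ext
      intro q
      obtain ⟨v, rfl⟩ := QuotientGroup.mk_surjective q
      rw [MulAut.mul_apply, MulAut.mul_apply, hφQ, hφQ, hφQ, hφQ]
      have h3 : (φ s * φ t) v = (φ t * φ s) v := by rw [hT s hs t ht]
      rw [MulAut.mul_apply, MulAut.mul_apply] at h3
      rw [h3]
    obtain ⟨k₁, hk₁⟩ := ih _ hcB ↥B rfl hApB φB (hqB x hx) (hqB y hy) hTB g
    obtain ⟨k₂, hk₂⟩ := ih _ hcQ (A ⧸ B) rfl hApQ φQ (hqQ x hx) (hqQ y hy) hTQ g
    refine ⟨k₁ + k₂ + 1, ?_⟩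
    have e1 : φB (g ^ p ^ (k₁ + k₂)) = 1 := by
      rw [map_pow, pow_add, pow_mul, hk₁, one_pow]
    have e2 : φQ (g ^ p ^ (k₁ + k₂)) = 1 := by
      rw [map_pow, pow_add, mul_comm, pow_mul, hk₂, one_pow]
    obtain ⟨m, hm⟩ : ∃ m, m = g ^ p ^ (k₁ + k₂) := ⟨_, rfl⟩
    rw [← hm] at e1 e2
    have hδ : ∀ v : A, φ m v / v ∈ B := by
      intro v
      have h := hφQ m v
      rw [e2] at h
      have h' : (QuotientGroup.mk v : A ⧸ B) = QuotientGroup.mk (φ m v) := h
      rw [QuotientGroup.eq] at h'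
      rw [div_eq_mul_inv, mul_comm]; exact h'
    have hfixB : ∀ b ∈ B, φ m b = b := by
      intro b hb
      have h := hφB m ⟨b, hb⟩
      rw [e1] at h
      exact h.symm
    have key : ∀ j : ℕ, ∀ v : A, φ (m ^ j) v = v * (φ m v / v) ^ j := by
      intro j
      induction j with
      | zero => intro v; simp
      | succ j ihj =>
        intro v
        rw [pow_succ', map_mul, MulAut.mul_apply, ihj, map_mul, map_pow, hfixB _ (hδ v),
          pow_succ', ← mul_assoc, mul_div_cancel]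
    have e3 : φ g ^ p ^ (k₁ + k₂ + 1) = φ (m ^ p) := by
      rw [hm, ← pow_mul, ← pow_succ, map_pow]
    rw [e3]
    apply MulEquiv.ext
    intro v
    rw [key, hAp, mul_one]; rfl

/-- A finite group generated by two elements acting quadratically on an abelian group of odd
prime exponent `p`, with a Sylow `2`-subgroup whose image is commutative, acts as a `p`-group. -/
theorem quad_two {A : Type u} {Λ : Type v} [CommGroup A] [Finite A] [Group Λ] [Finite Λ]
    {p : ℕ} [Fact p.Prime] (hp2 : p ≠ 2) (hAp : ∀ v : A, v ^ p = 1) (φ : Λ →* MulAut A)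
    (x y : Λ) (hgen : Subgroup.closure {x, y} = ⊤) (hx : QuadAct φ x) (hy : QuadAct φ y)
    (T : Sylow 2 Λ) (hT : ∀ s ∈ T, ∀ t ∈ T, φ s * φ t = φ t * φ s) (g : Λ) :
    ∃ k : ℕ, φ g ^ p ^ k = 1 :=
  quad_two_aux p hp2 Λ x y hgen T _ A rfl hAp φ hx hy hT g

end Main

end Cfsg.Agent.Lib.Helper17
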