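import Cfsg.Agent.Lib.Helper17.SL2Dickson
import Cfsg.Agent.Lib.Helper17.QuadAb2
import Cfsg.Agent.Lib.Helper17.QuadSol
import Cfsg.Agent.Lib.Lead.UniqueSubgroup
import Cfsg.Agent.S0106

set_option autoImplicit false
set_option maxHeartbeats 2000000
set_option linter.unusedVariables false
set_option linter.unusedSimpArgs false
set_option linter.style.haveILetI false

/-!
Characteristic three: a finite subgroup of a two-dimensional special linear group with two
non-commuting elements of order three involves `SL(2, 3)`.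
-/

namespace Cfsg.Agent.Lib.Helper17

universe u v

section

variable {K : Type u} [Field K]

local notation "SL₂" => Matrix.SpecialLinearGroup (Fin 2) K

/-- in odd characteristic `p`, a finite group embedded in a two-dimensional special linear group
and generated by two non-commuting elements of order `p` has non-commutative Sylow
`2`-subgroups -/
theorem sl2_sylow2_noncomm (p : ℕ) [hp : Fact p.Prime] [CharP K p] (hp2 : p ≠ 2)
    {G : Type v} [Group G] [Finite G] (ι : G →* SL₂) (hι : Function.Injective ι) (x y : G)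
    (hx : x ^ p = 1) (hy : y ^ p = 1) (hne : x * y ≠ y * x)
    (hgen : Subgroup.closure ({x, y} : Set G) = ⊤) (T : Sylow 2 G)
    (hT : ∀ s ∈ T, ∀ t ∈ T, s * t = t * s) : False := by
  classical
  have h2ne : (2 : K) ≠ 0 := by
    intro h
    have h3 : ((2 : ℕ) : K) = 0 := by exact_mod_cast h
    rw [CharP.cast_eq_zero_iff K p] at h3
    exact hp2 ((Nat.prime_dvd_prime_iff_eq hp.1 Nat.prime_two).mp h3)
  obtain ⟨π, hπ, hπs⟩ : ∃ π : G →* ↥ι.range,
      (∀ l, ((π l : ↥ι.range) : SL₂) = ι l) ∧ Function.Surjective π :=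
    ⟨ι.rangeRestrict, fun l => rfl, ι.rangeRestrict_surjective⟩
  haveI : Finite ↥ι.range := Finite.of_surjective π hπs
  have hPcomm : ∀ s ∈ T.mapSurjective hπs, ∀ t ∈ T.mapSurjective hπs, s * t = t * s := by
    intro s hs t ht
    have hs' : s ∈ (T : Subgroup G).map π := by
      rw [← Sylow.coe_mapSurjective hπs]; exact hs
    have ht' : t ∈ (T : Subgroup G).map π := by
      rw [← Sylow.coe_mapSurjective hπs]; exact ht
    obtain ⟨s₀, hs₀, rfl⟩ := hs'
    obtain ⟨t₀, ht₀, rfl⟩ := ht'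
    rw [← map_mul, ← map_mul, hT s₀ hs₀ t₀ ht₀]
  have hxp : ι x ^ p = 1 := by rw [← map_pow, hx, map_one]
  have hyp : ι y ^ p = 1 := by rw [← map_pow, hy, map_one]
  have hpodd : Odd p := hp.1.odd_of_ne_two hp2
  have hoddord : ∀ g : G, g ^ p = 1 → Odd (orderOf (π g)) := by
    intro g hg
    have h1 : π g ^ p = 1 := by rw [← map_pow, hg, map_one]
    have h3 : orderOf (π g) ∣ p := orderOf_dvd_of_pow_eq_one h1
    rcases (Nat.dvd_prime hp.1).mp h3 with h | h
    · rw [h]; exact odd_one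
    · rw [h]; exact hpodd
  have hclos : Subgroup.closure ({π x, π y} : Set ↥ι.range) = ⊤ := by
    have h1 := MonoidHom.map_closure π ({x, y} : Set G)
    rw [hgen, Subgroup.map_top_of_surjective π hπs] at h1
    rw [h1]
    congr 1
    ext w
    simp [Set.image_pair]
  have hodd : Odd (Nat.card ↥ι.range) := by
    apply sl2_odd_of_abelian_sylow2 h2ne ι.range (T.mapSurjective hπs) hPcomm _ hclos
    intro s hs
    rcases hs with rfl | rfl
    · exact hoddord x hx
    · exact hoddord y hy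
  have hc : ι x * ι y = ι y * ι x :=
    sl2_odd_comm p hp2 ι.range hodd (ι x) (ι y) ⟨x, rfl⟩ ⟨y, rfl⟩ hxp hyp
  apply hne
  apply hι
  rw [map_mul, map_mul, hc]

theorem dickson_three [CharP K 3] {G : Type v} [Group G] [Finite G] (ι : G →* SL₂)
    (hι : Function.Injective ι) (x y : G) (hx : x ^ 3 = 1) (hy : y ^ 3 = 1)
    (hne : x * y ≠ y * x) :
    Cfsg.Involves (Matrix.SpecialLinearGroup (Fin 2) (ZMod 3)) G := by
  classical
  haveI : Fact (Nat.Prime 3) := ⟨Nat.prime_three⟩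
  have h2ne : (2 : K) ≠ 0 := by
    intro h
    have h3 : ((2 : ℕ) : K) = 0 := by exact_mod_cast h
    rw [CharP.cast_eq_zero_iff K 3] at h3
    norm_num at h3
  obtain ⟨G₀, hG₀⟩ : ∃ G₀ : Subgroup G, G₀ = Subgroup.closure {x, y} := ⟨_, rfl⟩
  have hxG : x ∈ G₀ := by rw [hG₀]; exact Subgroup.subset_closure (by simp)
  have hyG : y ∈ G₀ := by rw [hG₀]; exact Subgroup.subset_closure (by simp)
  obtain ⟨x', hx'⟩ : ∃ x' : ↥G₀, x'.1 = x := ⟨⟨x, hxG⟩, rfl⟩
  obtain ⟨y', hy'⟩ : ∃ y' : ↥G₀, y'.1 = y := ⟨⟨y, hyG⟩, rfl⟩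
  have hgen : Subgroup.closure ({x', y'} : Set ↥G₀) = ⊤ := by
    subst hG₀
    have h := Subgroup.closure_closure_coe_preimage (k := ({x, y} : Set G))
    convert h using 2
    ext w
    simp [Subtype.ext_iff, hx', hy']
  obtain ⟨ι₀, hι₀⟩ : ∃ ι₀ : ↥G₀ →* SL₂, ∀ g, ι₀ g = ι g.1 := ⟨ι.comp G₀.subtype, fun g => rfl⟩
  have hι₀inj : Function.Injective ι₀ := by
    intro s t h
    rw [hι₀, hι₀] at h
    exact Subtype.ext (hι h)
  have hx3 : x' ^ 3 = 1 := Subtype.ext (by rw [Subgroup.coe_pow, hx', hx]; rfl)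
  have hy3 : y' ^ 3 = 1 := Subtype.ext (by rw [Subgroup.coe_pow, hy', hy]; rfl)
  have hne' : x' * y' ≠ y' * x' := by
    intro h
    apply hne
    have h0 := congrArg Subtype.val h
    rw [Subgroup.coe_mul, Subgroup.coe_mul, hx', hy'] at h0
    exact h0
  have hnc : ∀ T : Sylow 2 ↥G₀, ¬ (∀ s ∈ T, ∀ t ∈ T, s * t = t * s) := fun T hT =>
    sl2_sylow2_noncomm 3 (by norm_num) ι₀ hι₀inj x' y' hx3 hy3 hne' hgen T hT
  obtain ⟨T⟩ : Nonempty (Sylow 2 ↥G₀) := inferInstance
  have hnotcyc : ¬ IsCyclic ↥(T : Subgroup ↥G₀) := by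
    intro hcyc
    apply hnc T
    intro s hs t ht
    obtain ⟨g, hg⟩ := IsCyclic.exists_generator (α := ↥(T : Subgroup ↥G₀))
    obtain ⟨a, ha⟩ := Subgroup.mem_zpowers_iff.mp (hg ⟨s, hs⟩)
    obtain ⟨b, hb⟩ := Subgroup.mem_zpowers_iff.mp (hg ⟨t, ht⟩)
    have h0 : (⟨s, hs⟩ : ↥(T : Subgroup ↥G₀)) * ⟨t, ht⟩ = ⟨t, ht⟩ * ⟨s, hs⟩ := by
      rw [← ha, ← hb]
      exact (Commute.zpow_zpow_self g a b).eq
    exact congrArg Subtype.val h0
  have hU : Cfsg.Agent.Lib.Lead.UniqP 2 ↥(T : Subgroup ↥G₀) := by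
    have key : ∀ s : ↥(T : Subgroup ↥G₀), s ^ 2 = 1 → s ≠ 1 → ι₀ s.1 = negOne := by
      intro s hs hs1
      apply sl2_sq_one h2ne
      · rw [← map_mul, ← pow_two, ← Subgroup.coe_pow, hs, Subgroup.coe_one, map_one]
      · intro h
        apply hs1
        apply Subtype.ext
        apply hι₀inj
        rw [h, Subgroup.coe_one, map_one]
    intro s t hs ht hs1
    by_cases ht1 : t = 1
    · rw [ht1]; exact one_mem _
    · have e : t = s := Subtype.ext (hι₀inj (by rw [key t ht ht1, key s hs hs1]))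
      rw [e]
      exact Subgroup.mem_zpowers s
  rcases Cfsg.Agent.Lib.Lead.uniqP_cyclic_or_quaternion 2 T.2 hU with hcyc | ⟨_, n, ⟨e⟩⟩
  · exact absurd hcyc hnotcyc
  have hn : 1 ≤ n := by
    by_contra h0
    have hn0 : n = 0 := by omega
    subst hn0
    apply hnotcyc
    haveI := QuaternionGroup.quaternionGroup_one_isCyclic
    exact isCyclic_of_surjective e.symm.toMonoidHom e.symm.surjective
  rcases Cfsg.Agent.S0106.result T n hn ⟨e⟩ with hnpc | hsec
  · exfalso
    obtain ⟨P, N, hNn, hcompl⟩ := hnpc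
    haveI := hNn
    obtain ⟨k, hk⟩ := P.2.exists_card_eq
    have hidx : N.index = 2 ^ k := by
      rw [← hk]
      exact hcompl.symm.index_eq_card
    have hcop : Nat.Coprime 3 (2 ^ k) := Nat.Coprime.pow_right k (by norm_num)
    have hmemN : ∀ w : ↥G₀, w ^ 3 = 1 → w ∈ N := by
      intro w hw
      rw [← QuotientGroup.eq_one_iff (N := N)]
      have h1 : orderOf (w : ↥G₀ ⧸ N) ∣ 3 :=
        orderOf_dvd_of_pow_eq_one (by rw [← QuotientGroup.mk_pow, hw]; rfl)
      have h2 : orderOf (w : ↥G₀ ⧸ N) ∣ 2 ^ k := by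
        rw [← hidx, Subgroup.index_eq_card]
        exact orderOf_dvd_natCard _
      have h3 : orderOf (w : ↥G₀ ⧸ N) ∣ 1 := by
        rw [← Nat.Coprime.gcd_eq_one hcop]
        exact Nat.dvd_gcd h1 h2
      exact orderOf_eq_one_iff.mp (Nat.eq_one_of_dvd_one h3)
    have hNtop : N = ⊤ := by
      rw [eq_top_iff, ← hgen, Subgroup.closure_le]
      rintro w (rfl | rfl)
      · exact hmemN _ hx3
      · exact hmemN _ hy3
    have hP1 : Nat.card (P : Subgroup ↥G₀) = 1 := by
      have h0 := hcompl.card_mul_card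
      rw [hNtop, Subgroup.card_top] at h0
      have hpos : 0 < Nat.card ↥G₀ := Nat.card_pos
      exact Nat.eq_of_mul_eq_mul_left hpos (by rw [h0, mul_one])
    apply hnc P
    intro s hs t ht
    have hsub : Subsingleton ↥(P : Subgroup ↥G₀) := (Nat.card_eq_one_iff_unique.mp hP1).1
    have h0 := Subsingleton.elim (⟨s, hs⟩ : ↥(P : Subgroup ↥G₀)) ⟨t, ht⟩
    have hst : s = t := congrArg Subtype.val h0
    rw [hst]
  · have hinv : Cfsg.Involves (Matrix.SpecialLinearGroup (Fin 2) (ZMod 3)) ↥G₀ := hsec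
    obtain ⟨K₁, L₁, hn, hle, he⟩ := exists_section_of_involves_subgroup G₀ hinv
    exact ⟨K₁, L₁, hn, he⟩

end

end Cfsg.Agent.Lib.Helper17
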