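import Cfsg.Agent.Lib.Helper17.QuadAb3
import Cfsg.Agent.Lib.Helper17.SL2Dickson3
import Cfsg.Agent.Lib.Helper17.SL2Three

set_option autoImplicit false
set_option maxHeartbeats 2000000
set_option linter.unusedSimpArgs false
set_option linter.unusedVariables false
set_option linter.style.haveILetI false

/-!
Quadratic elements in groups not involving `SL(2, p)`: such an element acting on an abelian group
of odd prime exponent `p` lies in a normal subgroup acting as a `p`-group.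
-/

namespace Cfsg.Agent.Lib.Helper17

open Cfsg.Agent.Lib.Helper1 Cfsg.Agent.Lib.Helper5 Cfsg.Agent.Lib.Helper12

universe u v

section Inv

/-- reduction to irreducible modules for a group generated by two quadratic elements -/
theorem quad_reduce (p : ℕ) [hp : Fact p.Prime] (Λ : Type v) [Group Λ]
    [Finite Λ] (x y : Λ) (hgen : Subgroup.closure {x, y} = ⊤)
    (hirrT : ∀ (A : Type u) [CommGroup A] [Finite A], (∀ v : A, v ^ p = 1) →
      ∀ (φ : Λ →* MulAut A), QuadAct φ x → QuadAct φ y →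
      (∀ B : Subgroup A, (∀ b ∈ B, φ x b ∈ B) → (∀ b ∈ B, φ y b ∈ B) → B = ⊥ ∨ B = ⊤) →
      φ x = 1 ∧ φ y = 1) :
    ∀ n : ℕ, ∀ (A : Type u) [CommGroup A] [Finite A], Nat.card A = n → (∀ v : A, v ^ p = 1) →
    ∀ (φ : Λ →* MulAut A), QuadAct φ x → QuadAct φ y →
    ∀ g : Λ, ∃ k : ℕ, φ g ^ p ^ k = 1 := by
  classical
  intro n
  induction n using Nat.strong_induction_on with
  | _ n ih =>
  intro A _ _ hcard hAp φ hx hy g
  by_cases hirr : ∀ B : Subgroup A, (∀ b ∈ B, φ x b ∈ B) → (∀ b ∈ B, φ y b ∈ B) → B = ⊥ ∨ B = ⊤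
  · obtain ⟨h1, h2⟩ := hirrT A hAp φ hx hy hirr
    have hle : Subgroup.closure {x, y} ≤ φ.ker := by
      rw [Subgroup.closure_le]
      intro z hz
      rcases hz with rfl | rfl
      · exact MonoidHom.mem_ker.mpr h1
      · exact MonoidHom.mem_ker.mpr h2
    rw [hgen] at hle
    exact ⟨0, by rw [pow_zero, pow_one]; exact MonoidHom.mem_ker.mp (hle (Subgroup.mem_top g))⟩
  · push Not at hirr
    obtain ⟨B, hBx, hBy, hBbot, hBtop⟩ := hirr
    have hBinv := invariant_of_gen φ x y hgen B hBx hBy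
    obtain ⟨φB, hφB⟩ := exists_restrict_hom φ B hBinv
    obtain ⟨φQ, hφQ⟩ := exists_quotient_hom φ B hBinv
    have hcB : Nat.card ↥B < n := by
      rw [← hcard]
      exact lt_of_le_of_ne (Subgroup.card_le_card_group B)
        (fun h => hBtop (Subgroup.eq_top_of_card_eq B h))
    have hcQ : Nat.card (A ⧸ B) < n := by
      rw [← hcard, Subgroup.card_eq_card_quotient_mul_card_subgroup B]
      have h1 : 1 < Nat.card ↥B := (Subgroup.one_lt_card_iff_ne_bot B).mpr hBbot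
      have h2 : 0 < Nat.card (A ⧸ B) := Nat.card_pos
      nlinarith
    have hApB : ∀ v : ↥B, v ^ p = 1 := by
      intro v
      apply Subtype.ext
      rw [Subgroup.coe_pow, hAp]; rfl
    have hApQ : ∀ v : A ⧸ B, v ^ p = 1 := by
      intro q
      obtain ⟨v, rfl⟩ := QuotientGroup.mk_surjective q
      rw [← QuotientGroup.mk_pow, hAp]; rfl
    have hqB : ∀ a : Λ, QuadAct φ a → QuadAct φB a := by
      intro a hq v
      apply Subtype.ext
      rw [hφB, Subgroup.coe_div, hφB]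
      exact hq v
    have hqQ : ∀ a : Λ, QuadAct φ a → QuadAct φQ a := by
      intro a hq q
      obtain ⟨v, rfl⟩ := QuotientGroup.mk_surjective q
      rw [hφQ, ← QuotientGroup.mk_div, hφQ, hq v]
    obtain ⟨k₁, hk₁⟩ := ih _ hcB ↥B rfl hApB φB (hqB x hx) (hqB y hy) g
    obtain ⟨k₂, hk₂⟩ := ih _ hcQ (A ⧸ B) rfl hApQ φQ (hqQ x hx) (hqQ y hy) g
    refine ⟨k₁ + k₂ + 1, ?_⟩
    have e1 : φB (g ^ p ^ (k₁ + k₂)) = 1 := by
      rw [map_pow, pow_add, pow_mul, hk₁, one_pow]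
    have e2 : φQ (g ^ p ^ (k₁ + k₂)) = 1 := by
      rw [map_pow, pow_add, mul_comm, pow_mul, hk₂, one_pow]
    obtain ⟨m, hm⟩ : ∃ m, m = g ^ p ^ (k₁ + k₂) := ⟨_, rfl⟩
    rw [← hm] at e1 e2
    have hδ : ∀ v : A, φ m v / v ∈ B := by
      intro v
      have h := hφQ m v
      rw [e2] at h
      have h' : (QuotientGroup.mk v : A ⧸ B) = QuotientGroup.mk (φ m v) := h
      rw [QuotientGroup.eq] at h'
      rw [div_eq_mul_inv, mul_comm]; exact h'
    have hfixB : ∀ b ∈ B, φ m b = b := by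
      intro b hb
      have h := hφB m ⟨b, hb⟩
      rw [e1] at h
      exact h.symm
    have key : ∀ j : ℕ, ∀ v : A, φ (m ^ j) v = v * (φ m v / v) ^ j := by
      intro j
      induction j with
      | zero => intro v; simp
      | succ j ihj =>
        intro v
        rw [pow_succ', map_mul, MulAut.mul_apply, ihj, map_mul, map_pow, hfixB _ (hδ v),
          pow_succ', ← mul_assoc, mul_div_cancel]
    have e3 : φ g ^ p ^ (k₁ + k₂ + 1) = φ (m ^ p) := by
      rw [hm, ← pow_mul, ← pow_succ, map_pow]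
    rw [e3]
    apply MulEquiv.ext
    intro v
    rw [key, hAp, mul_one]; rfl

/-- A finite group generated by two elements acting quadratically on an abelian group of odd
prime exponent `p`, and not involving `SL(2, p)`, acts as a `p`-group. -/
theorem quad_two_involves {A : Type u} {Λ : Type v} [CommGroup A] [Finite A] [Group Λ]
    [Finite Λ] {p : ℕ} [hp : Fact p.Prime] (hp2 : p ≠ 2) (hAp : ∀ v : A, v ^ p = 1)
    (φ : Λ →* MulAut A) (x y : Λ) (hgen : Subgroup.closure {x, y} = ⊤) (hx : QuadAct φ x)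
    (hy : QuadAct φ y)
    (hno : ¬ Cfsg.Involves (Matrix.SpecialLinearGroup (Fin 2) (ZMod p)) Λ) (g : Λ) :
    ∃ k : ℕ, φ g ^ p ^ k = 1 := by
  classical
  refine quad_reduce p Λ x y hgen ?_ _ A rfl hAp φ hx hy g
  intro A' _ _ hAp' φ' hx' hy' hirr
  by_contra hxy
  apply hno
  obtain ⟨K, hK, hchar, Ψ, hΨ⟩ := quad_embed_sl2 hAp' φ' x y hgen hx' hy' hirr hxy
  letI := hK
  haveI := hchar
  have hcomm : ∀ s t : Λ, φ' s * φ' t = φ' t * φ' s ↔ Ψ s * Ψ t = Ψ t * Ψ s := by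
    intro s t
    have e1 : φ' s * φ' t = φ' t * φ' s ↔ φ' (s * t * s⁻¹ * t⁻¹) = 1 := by
      rw [map_mul, map_mul, map_mul, map_inv, map_inv]
      constructor
      · intro h; rw [h]; group
      · intro h
        have : φ' s * φ' t = (φ' s * φ' t * (φ' s)⁻¹ * (φ' t)⁻¹) * (φ' t * φ' s) := by group
        rw [this, h, one_mul]
    have e2 : Ψ s * Ψ t = Ψ t * Ψ s ↔ Ψ (s * t * s⁻¹ * t⁻¹) = 1 := by
      rw [map_mul, map_mul, map_mul, map_inv, map_inv]
      constructor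
      · intro h; rw [h]; group
      · intro h
        have : Ψ s * Ψ t = (Ψ s * Ψ t * (Ψ s)⁻¹ * (Ψ t)⁻¹) * (Ψ t * Ψ s) := by group
        rw [this, h, one_mul]
    rw [e1, e2, hΨ]
  obtain ⟨π, hπ, hπs⟩ : ∃ π : Λ →* ↥Ψ.range,
      (∀ l, ((π l : ↥Ψ.range) : Matrix.SpecialLinearGroup (Fin 2) K) = Ψ l) ∧
        Function.Surjective π :=
    ⟨Ψ.rangeRestrict, fun l => rfl, Ψ.rangeRestrict_surjective⟩
  haveI : Finite ↥Ψ.range := Finite.of_surjective π hπs
  have hxp : π x ^ p = 1 := by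
    apply Subtype.ext
    rw [Subgroup.coe_pow, hπ, ← map_pow, Subgroup.coe_one, hΨ, map_pow]
    exact quadAct_pow_p hAp' φ' x hx'
  have hyp : π y ^ p = 1 := by
    apply Subtype.ext
    rw [Subgroup.coe_pow, hπ, ← map_pow, Subgroup.coe_one, hΨ, map_pow]
    exact quadAct_pow_p hAp' φ' y hy'
  have hne : π x * π y ≠ π y * π x := by
    intro h
    have h0 := congrArg Subtype.val h
    rw [Subgroup.coe_mul, Subgroup.coe_mul, hπ, hπ] at h0
    have hφc : φ' x * φ' y = φ' y * φ' x := (hcomm x y).mpr h0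
    apply hxy
    exact ⟨quadAct_trivial_of_comm φ' x y hx' hirr hφc,
      quadAct_trivial_of_comm φ' y x hy' (fun B h1 h2 => hirr B h2 h1) hφc.symm⟩
  apply involves_of_surjective_hom π hπs
  by_cases hp3 : p = 3
  · subst hp3
    exact dickson_three Ψ.range.subtype Ψ.range.subtype_injective (π x) (π y) hxp hyp hne
  · obtain ⟨f, hf⟩ := dickson_lite p hp2 hp3 _ ↥Ψ.range Ψ.range.subtype
      Ψ.range.subtype_injective rfl (π x) (π y) hxp hyp hne
    refine involves_of_surjective f.range (MonoidHom.ofInjective hf).symm.toMonoidHom ?_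
    exact (MonoidHom.ofInjective hf).symm.surjective

theorem quad_pair_involves {A : Type u} {X : Type v} [CommGroup A] [Finite A] [Group X]
    [Finite X] {p : ℕ} [Fact p.Prime] (hp2 : p ≠ 2) (hAp : ∀ v : A, v ^ p = 1)
    (φ : X →* MulAut A)
    (hno : ¬ Cfsg.Involves (Matrix.SpecialLinearGroup (Fin 2) (ZMod p)) X)
    (c₁ c₂ : X) (h₁ : QuadAct φ c₁) (h₂ : QuadAct φ c₂) :
    ∀ g ∈ Subgroup.closure ({c₁, c₂} : Set X), ∃ k : ℕ, φ g ^ p ^ k = 1 := by
  classical
  obtain ⟨L, hL⟩ : ∃ L : Subgroup X, L = Subgroup.closure ({c₁, c₂} : Set X) := ⟨_, rfl⟩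
  rw [← hL]
  have hc₁ : c₁ ∈ L := by rw [hL]; exact Subgroup.subset_closure (by simp)
  have hc₂ : c₂ ∈ L := by rw [hL]; exact Subgroup.subset_closure (by simp)
  have hgen : Subgroup.closure ({⟨c₁, hc₁⟩, ⟨c₂, hc₂⟩} : Set ↥L) = ⊤ := by
    apply Subgroup.map_injective L.subtype_injective
    rw [MonoidHom.map_closure, ← MonoidHom.range_eq_map, Subgroup.range_subtype]
    conv_rhs => rw [hL]
    congr 1
    ext w
    simp [Set.image_pair]
  have hnoL : ¬ Cfsg.Involves (Matrix.SpecialLinearGroup (Fin 2) (ZMod p)) ↥L := by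
    intro h
    apply hno
    obtain ⟨K₁, L₁, hn, hle, he⟩ := exists_section_of_involves_subgroup L h
    exact ⟨K₁, L₁, hn, he⟩
  intro g hg
  exact quad_two_involves hp2 hAp (φ.comp L.subtype) ⟨c₁, hc₁⟩ ⟨c₂, hc₂⟩ hgen (fun v => h₁ v)
    (fun v => h₂ v) hnoL ⟨g, hg⟩

/-- A quadratic element of a group not involving `SL(2, p)`, acting on an abelian group
of odd prime exponent `p`, lies in a normal subgroup acting as a `p`-group. -/
theorem quad_involves {A : Type u} {X : Type v} [CommGroup A] [Finite A] [Group X] [Finite X]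
    {p : ℕ} [Fact p.Prime] (hp2 : p ≠ 2) (hAp : ∀ v : A, v ^ p = 1) (φ : X →* MulAut A)
    (hno : ¬ Cfsg.Involves (Matrix.SpecialLinearGroup (Fin 2) (ZMod p)) X)
    (a : X) (hq : QuadAct φ a) :
    ∃ N : Subgroup X, N.Normal ∧ a ∈ N ∧ ∀ x ∈ N, ∃ k : ℕ, φ x ^ p ^ k = 1 := by
  classical
  obtain ⟨π, hπ, hπs⟩ : ∃ π : X →* ↥φ.range,
      (∀ l, ((π l : ↥φ.range) : MulAut A) = φ l) ∧ Function.Surjective π :=
    ⟨φ.rangeRestrict, fun l => rfl, φ.rangeRestrict_surjective⟩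
  haveI : Finite ↥φ.range := Finite.of_surjective π hπs
  obtain ⟨K, hK⟩ : ∃ K : Set ↥φ.range, K = {w | ∃ h : X, w = π (h * a * h⁻¹)} := ⟨_, rfl⟩
  have hconj : ∀ g : ↥φ.range, ∀ w ∈ K, g * w * g⁻¹ ∈ K := by
    intro g w hw
    rw [hK] at hw ⊢
    obtain ⟨h, rfl⟩ := hw
    obtain ⟨g₀, rfl⟩ := hπs g
    refine ⟨g₀ * h, ?_⟩
    rw [← map_inv, ← map_mul, ← map_mul]
    congr 1
    group
  have hpair : ∀ w₁ ∈ K, ∀ w₂ ∈ K,
      IsPGroup p (Subgroup.closure ({w₁, w₂} : Set ↥φ.range)) := by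
    intro w₁ hw₁ w₂ hw₂
    rw [hK] at hw₁ hw₂
    obtain ⟨h₁, rfl⟩ := hw₁
    obtain ⟨h₂, rfl⟩ := hw₂
    have hmap : Subgroup.closure ({π (h₁ * a * h₁⁻¹), π (h₂ * a * h₂⁻¹)} : Set ↥φ.range)
        = (Subgroup.closure ({h₁ * a * h₁⁻¹, h₂ * a * h₂⁻¹} : Set X)).map π := by
      rw [MonoidHom.map_closure, Set.image_pair]
    rw [hmap]
    rintro ⟨_, g, hg, rfl⟩
    obtain ⟨k, hk⟩ := quad_pair_involves hp2 hAp φ hno _ _ (quadAct_conj φ a h₁ hq)
      (quadAct_conj φ a h₂ hq) g hg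
    refine ⟨k, ?_⟩
    apply Subtype.ext
    apply Subtype.ext
    rw [Subgroup.coe_pow, Subgroup.coe_pow, hπ, hk]
    rfl
  obtain ⟨N₀, hN₀n, hN₀p, hKN⟩ := Cfsg.Agent.S0199.baer_suzuki_set K hconj hpair
  refine ⟨N₀.comap π, hN₀n.comap π, ?_, ?_⟩
  · rw [Subgroup.mem_comap]
    apply hKN
    rw [hK]
    exact ⟨1, by simp⟩
  · intro x hx
    obtain ⟨k, hk⟩ := hN₀p ⟨π x, hx⟩
    refine ⟨k, ?_⟩
    have h1 := congrArg Subtype.val hk
    rw [Subgroup.coe_pow, Subgroup.coe_one] at h1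
    have h2 := congrArg Subtype.val h1
    rw [Subgroup.coe_pow, hπ] at h2
    exact h2

end Inv

end Cfsg.Agent.Lib.Helper17
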