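import Cfsg.Agent.Lib.Helper17.QuadInv

set_option autoImplicit false
set_option maxHeartbeats 2000000
set_option linter.unusedSimpArgs false
set_option linter.unusedVariables false
set_option linter.style.haveILetI false

/-!
Quadratic elements acting on arbitrary finite `p`-groups, for groups not involving `SL(2, p)`:
such an element lies in a normal subgroup acting as a `p`-group.
-/

namespace Cfsg.Agent.Lib.Helper17

universe u v

section QuadNA

/-- restriction of an action to an invariant subgroup -/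
theorem exists_restrict_hom_na {P : Type u} {X : Type v} [Group P] [Group X]
    (φ : X →* MulAut P) (B : Subgroup P) (hB : ∀ x : X, ∀ b ∈ B, φ x b ∈ B) :
    ∃ ψ : X →* MulAut ↥B, ∀ (x : X) (b : ↥B), ((ψ x b : ↥B) : P) = φ x (b : P) := by
  refine ⟨{
      toFun := fun l =>
      { toFun := fun w => ⟨φ l (w : P), hB l w w.2⟩
        invFun := fun w => ⟨φ l⁻¹ (w : P), hB _ w w.2⟩
        left_inv := by
          intro w
          apply Subtype.ext
          show φ l⁻¹ (φ l (w : P)) = w
          rw [map_inv, MulAut.inv_apply_self]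
        right_inv := by
          intro w
          apply Subtype.ext
          show φ l (φ l⁻¹ (w : P)) = w
          rw [map_inv, MulAut.apply_inv_self]
        map_mul' := by
          intro w w'
          apply Subtype.ext
          show φ l ((w : P) * (w' : P)) = φ l (w : P) * φ l (w' : P)
          rw [map_mul] }
      map_one' := by
        apply MulEquiv.ext
        intro w
        apply Subtype.ext
        show φ 1 (w : P) = w
        simp
      map_mul' := by
        intro l l'
        apply MulEquiv.ext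
        intro w
        apply Subtype.ext
        show φ (l * l') (w : P) = φ l (φ l' (w : P))
        simp }, fun l w => rfl⟩

/-- the induced action on the quotient by an invariant normal subgroup -/
theorem exists_quotient_hom_na {P : Type u} {X : Type v} [Group P] [Group X]
    (φ : X →* MulAut P) (B : Subgroup P) [B.Normal] (hB : ∀ x : X, ∀ b ∈ B, φ x b ∈ B) :
    ∃ ψ : X →* MulAut (P ⧸ B), ∀ (x : X) (v : P),
      ψ x (QuotientGroup.mk v) = QuotientGroup.mk (φ x v) := by
  have hle : ∀ x : X, B ≤ B.comap (φ x).toMonoidHom := fun x b hb => hB x b hb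
  obtain ⟨F, hF⟩ : ∃ F : X → ((P ⧸ B) →* (P ⧸ B)),
      ∀ x v, F x (QuotientGroup.mk v) = QuotientGroup.mk (φ x v) :=
    ⟨fun x => QuotientGroup.map B B (φ x).toMonoidHom (hle x), fun x v => rfl⟩
  have hF1 : ∀ q, F 1 q = q := by
    intro q
    obtain ⟨v, rfl⟩ := QuotientGroup.mk_surjective q
    rw [hF, map_one]; rfl
  have hFmul : ∀ x y q, F (x * y) q = F x (F y q) := by
    intro x y q
    obtain ⟨v, rfl⟩ := QuotientGroup.mk_surjective q
    rw [hF, hF, hF, map_mul]; rfl
  refine ⟨{
      toFun := fun x =>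
        { toFun := F x
          invFun := F x⁻¹
          left_inv := by intro q; rw [← hFmul, inv_mul_cancel, hF1]
          right_inv := by intro q; rw [← hFmul, mul_inv_cancel, hF1]
          map_mul' := map_mul (F x) }
      map_one' := by apply MulEquiv.ext; intro q; exact hF1 q
      map_mul' := by intro x y; apply MulEquiv.ext; intro q; exact hFmul x y q },
    fun x v => hF x v⟩

/-- the central elements of order dividing `p` -/
def omegaCenter (p : ℕ) (P : Type u) [Group P] : Subgroup P where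
  carrier := {v | v ∈ Subgroup.center P ∧ v ^ p = 1}
  one_mem' := ⟨Subgroup.one_mem _, one_pow p⟩
  mul_mem' := by
    rintro a b ⟨ha, hap⟩ ⟨hb, hbp⟩
    refine ⟨Subgroup.mul_mem _ ha hb, ?_⟩
    have hc : Commute a b := (Subgroup.mem_center_iff.mp ha b).symm
    rw [hc.mul_pow, hap, hbp, one_mul]
  inv_mem' := by
    rintro a ⟨ha, hap⟩
    exact ⟨Subgroup.inv_mem _ ha, by rw [inv_pow, hap, inv_one]⟩

theorem mem_omegaCenter (p : ℕ) (P : Type u) [Group P] (v : P) :
    v ∈ omegaCenter p P ↔ v ∈ Subgroup.center P ∧ v ^ p = 1 := Iff.rfl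

instance omegaCenter_normal (p : ℕ) (P : Type u) [Group P] : (omegaCenter p P).Normal := by
  refine ⟨fun n hn g => ?_⟩
  have h1 : g * n = n * g := Subgroup.mem_center_iff.mp hn.1 g
  have h2 : g * n * g⁻¹ = n := by rw [h1, mul_inv_cancel_right]
  rw [h2]
  exact hn

theorem quad_na (p : ℕ) [hp : Fact p.Prime] (hp2 : p ≠ 2) {X : Type v} [Group X] [Finite X]
    (hno : ¬ Cfsg.Involves (Matrix.SpecialLinearGroup (Fin 2) (ZMod p)) X) (a : X) :
    ∀ n : ℕ, ∀ (P : Type u) [Group P] [Finite P], Nat.card P = n → IsPGroup p P →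
    ∀ φ : X →* MulAut P, (∀ v : P, φ a (φ a v * v⁻¹) = φ a v * v⁻¹) →
    ∃ N : Subgroup X, N.Normal ∧ a ∈ N ∧ ∀ x ∈ N, ∃ k : ℕ, φ x ^ p ^ k = 1 := by
  classical
  intro n
  induction n using Nat.strong_induction_on with
  | _ n ih =>
  intro P _ _ hcard hP φ hq
  by_cases htriv : Subsingleton P
  · refine ⟨⊤, inferInstance, Subgroup.mem_top a, fun x _ => ⟨0, ?_⟩⟩
    apply MulEquiv.ext
    intro v
    exact Subsingleton.elim _ _
  · rw [not_subsingleton_iff_nontrivial] at htriv
    haveI := htriv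
    obtain ⟨V, hV⟩ : ∃ V : Subgroup P, V = omegaCenter p P := ⟨_, rfl⟩
    haveI hVn : V.Normal := by rw [hV]; infer_instance
    have hVmem : ∀ v : P, v ∈ V ↔ v ∈ Subgroup.center P ∧ v ^ p = 1 := by
      intro v
      rw [hV]
      exact Iff.rfl
    have hVinv : ∀ x : X, ∀ b ∈ V, φ x b ∈ V := by
      intro x b hb
      rw [hVmem] at hb ⊢
      refine ⟨?_, by rw [← map_pow, hb.2, map_one]⟩
      rw [Subgroup.mem_center_iff]
      intro g
      have h1 : (φ x).symm g * b = b * (φ x).symm g := Subgroup.mem_center_iff.mp hb.1 _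
      have h2 := congrArg (φ x) h1
      rw [map_mul, map_mul, MulEquiv.apply_symm_apply] at h2
      exact h2
    have hVne : V ≠ ⊥ := by
      haveI : Nontrivial (Subgroup.center P) := hP.center_nontrivial
      have hZp : IsPGroup p (Subgroup.center P) := hP.to_subgroup _
      obtain ⟨k, hk⟩ := hZp.exists_card_eq
      have hk0 : k ≠ 0 := by
        rintro rfl
        rw [pow_zero] at hk
        have hss : Subsingleton (Subgroup.center P) := (Nat.card_eq_one_iff_unique.mp hk).1
        exact not_subsingleton _ hss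
      have hdvd : p ∣ Nat.card (Subgroup.center P) := by rw [hk]; exact dvd_pow_self p hk0
      obtain ⟨z, hz⟩ := exists_prime_orderOf_dvd_card' p hdvd
      intro hbot
      have hzV : (z : P) ∈ V := by
        rw [hVmem]
        refine ⟨z.2, ?_⟩
        have h0 := pow_orderOf_eq_one z
        rw [hz] at h0
        have h2 := congrArg Subtype.val h0
        rw [Subgroup.coe_pow] at h2
        exact h2
      rw [hbot, Subgroup.mem_bot] at hzV
      have hz1 : z = 1 := Subtype.ext hzV
      rw [hz1, orderOf_one] at hz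
      exact hp.1.one_lt.ne hz
    letI : CommGroup ↥V :=
      { (inferInstance : Group ↥V) with
        mul_comm := fun s t => Subtype.ext
          ((Subgroup.mem_center_iff.mp ((hVmem s.1).mp s.2).1 t.1).symm) }
    obtain ⟨φ₁, hφ₁⟩ := exists_restrict_hom_na φ V hVinv
    obtain ⟨φ₂, hφ₂⟩ := exists_quotient_hom_na φ V hVinv
    have hAp : ∀ v : ↥V, v ^ p = 1 := by
      intro v
      apply Subtype.ext
      rw [Subgroup.coe_pow, ((hVmem v.1).mp v.2).2]
      rfl
    have hqa : QuadAct φ₁ a := by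
      intro v
      apply Subtype.ext
      rw [hφ₁, Subgroup.coe_div, hφ₁, div_eq_mul_inv]
      exact hq v.1
    obtain ⟨N₁, hN₁n, haN₁, hN₁⟩ := quad_involves hp2 hAp φ₁ hno a hqa
    have hcQ : Nat.card (P ⧸ V) < n := by
      rw [← hcard, Subgroup.card_eq_card_quotient_mul_card_subgroup V]
      have h1 : 1 < Nat.card ↥V := (Subgroup.one_lt_card_iff_ne_bot V).mpr hVne
      have h2 : 0 < Nat.card (P ⧸ V) := Nat.card_pos
      nlinarith
    have hPQ : IsPGroup p (P ⧸ V) := hP.to_quotient V
    have hqQ : ∀ q : P ⧸ V, φ₂ a (φ₂ a q * q⁻¹) = φ₂ a q * q⁻¹ := by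
      intro q
      obtain ⟨v, rfl⟩ := QuotientGroup.mk_surjective q
      rw [hφ₂, ← QuotientGroup.mk_inv, ← QuotientGroup.mk_mul, hφ₂, hq v]
    obtain ⟨N₂, hN₂n, haN₂, hN₂⟩ := ih _ hcQ (P ⧸ V) rfl hPQ φ₂ hqQ
    haveI := hN₁n
    haveI := hN₂n
    refine ⟨N₁ ⊓ N₂, inferInstance, ⟨haN₁, haN₂⟩, ?_⟩
    rintro x ⟨hx₁, hx₂⟩
    obtain ⟨k₁, hk₁⟩ := hN₁ x hx₁
    obtain ⟨k₂, hk₂⟩ := hN₂ x hx₂
    refine ⟨k₁ + k₂ + 1, ?_⟩
    have e1 : φ₁ (x ^ p ^ (k₁ + k₂)) = 1 := by
      rw [map_pow, pow_add, pow_mul, hk₁, one_pow]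
    have e2 : φ₂ (x ^ p ^ (k₁ + k₂)) = 1 := by
      rw [map_pow, pow_add, mul_comm, pow_mul, hk₂, one_pow]
    obtain ⟨m, hm⟩ : ∃ m, m = x ^ p ^ (k₁ + k₂) := ⟨_, rfl⟩
    rw [← hm] at e1 e2
    have hδ : ∀ v : P, v⁻¹ * φ m v ∈ V := by
      intro v
      have h := hφ₂ m v
      rw [e2] at h
      have h' : (QuotientGroup.mk v : P ⧸ V) = QuotientGroup.mk (φ m v) := h
      exact QuotientGroup.eq.mp h'
    have hfixV : ∀ b ∈ V, φ m b = b := by
      intro b hb
      have h := hφ₁ m ⟨b, hb⟩
      rw [e1] at h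
      exact h.symm
    have key : ∀ j : ℕ, ∀ v : P, φ (m ^ j) v = v * (v⁻¹ * φ m v) ^ j := by
      intro j
      induction j with
      | zero => intro v; simp
      | succ j ihj =>
        intro v
        rw [pow_succ', map_mul, MulAut.mul_apply, ihj, map_mul, map_pow, hfixV _ (hδ v),
          pow_succ', ← mul_assoc, mul_inv_cancel_left]
    have e3 : φ x ^ p ^ (k₁ + k₂ + 1) = φ (m ^ p) := by
      rw [hm, ← pow_mul, ← pow_succ, map_pow]
    rw [e3]
    apply MulEquiv.ext
    intro v
    rw [key, ((hVmem _).mp (hδ v)).2, mul_one]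
    rfl

end QuadNA

end Cfsg.Agent.Lib.Helper17
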