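import Cfsg.Agent.Lib.Helper17.CACount

set_option autoImplicit false
set_option maxHeartbeats 1000000

/-!
The counting theorem: a finite group of odd order with commutative centralizers, in which
elements commuting with a nonidentity element of order `p` have order dividing `p` and in which
conjugates of a non-`p`-element `s` commuting with `s` are `s` or its inverse, has commuting
elements of order `p`.
-/

namespace Cfsg.Agent.Lib.Helper17

theorem ca_core_odd {G : Type*} [Group G] [Finite G] (p : ℕ) [hp : Fact p.Prime]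
    (hodd : Odd (Nat.card G))
    (H1 : ∀ g h k : G, g ≠ 1 → g * h = h * g → g * k = k * g → h * k = k * h)
    (H2 : ∀ g h : G, g ≠ 1 → g ^ p = 1 → g * h = h * g → h ^ p = 1)
    (H3 : ∀ s n : G, s ^ p ≠ 1 → (n * s * n⁻¹) * s = s * (n * s * n⁻¹) →
      n * s * n⁻¹ = s ∨ n * s * n⁻¹ = s⁻¹)
    (u₁ u₂ : G) (h₁ : u₁ ^ p = 1) (h₂ : u₂ ^ p = 1) : u₁ * u₂ = u₂ * u₁ := by
  classical
  by_contra hne
  have hu₁ : u₁ ≠ 1 := by rintro rfl; exact hne (by rw [one_mul, mul_one])
  have hu₂ : u₂ ≠ 1 := by rintro rfl; exact hne (by rw [one_mul, mul_one])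
  have hconj_ne : ∀ x u : G, u ≠ 1 → x * u * x⁻¹ ≠ 1 := by
    intro x u hu1 h3
    apply hu1
    have : u = x⁻¹ * (x * u * x⁻¹) * x := by group
    rw [this, h3]; group
  have hmemC : ∀ g₀ h : G, h ∈ Subgroup.centralizer ({g₀} : Set G) ↔ g₀ * h = h * g₀ := by
    intro g₀ h
    rw [Subgroup.mem_centralizer_iff]
    simp
  -- conjugation closure of centralizers
  have hkey : ∀ g₀ : G, g₀ ≠ 1 → ∀ x u : G, g₀ * u = u * g₀ → u ≠ 1 →
      g₀ * (x * u * x⁻¹) = (x * u * x⁻¹) * g₀ → ∀ h : G, g₀ * h = h * g₀ →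
      g₀ * (x * h * x⁻¹) = (x * h * x⁻¹) * g₀ := by
    intro g₀ hg₀ x u hu hu1 hxu h hh
    have huh : u * h = h * u := H1 g₀ u h hg₀ hu hh
    have h2 : (x * u * x⁻¹) * (x * h * x⁻¹) = (x * h * x⁻¹) * (x * u * x⁻¹) := by
      have e1 : (x * u * x⁻¹) * (x * h * x⁻¹) = x * (u * h) * x⁻¹ := by group
      have e2 : (x * h * x⁻¹) * (x * u * x⁻¹) = x * (h * u) * x⁻¹ := by group
      rw [e1, e2, huh]
    exact H1 (x * u * x⁻¹) g₀ (x * h * x⁻¹) (hconj_ne x u hu1) hxu.symm h2
  have hnorm : ∀ g₀ : G, g₀ ≠ 1 → ∀ x u : G, g₀ * u = u * g₀ → u ≠ 1 →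
      g₀ * (x * u * x⁻¹) = (x * u * x⁻¹) * g₀ →
      x ∈ Subgroup.normalizer ((Subgroup.centralizer ({g₀} : Set G) : Subgroup G) : Set G) := by
    intro g₀ hg₀ x u hu hu1 hxu
    rw [Subgroup.mem_normalizer_iff]
    intro h
    rw [hmemC, hmemC]
    constructor
    · intro hh
      exact hkey g₀ hg₀ x u hu hu1 hxu h hh
    · intro hh
      have e1 : x⁻¹ * (x * u * x⁻¹) * x⁻¹⁻¹ = u := by group
      have h3 := hkey g₀ hg₀ x⁻¹ (x * u * x⁻¹) hxu (hconj_ne x u hu1) (by rw [e1]; exact hu)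
        (x * h * x⁻¹) hh
      have e2 : x⁻¹ * (x * h * x⁻¹) * x⁻¹⁻¹ = h := by group
      rw [e2] at h3
      exact h3
  -- commuting with a nonidentity element of a centralizer
  have hCA : ∀ g₀ : G, g₀ ≠ 1 → ∀ u : G, g₀ * u = u * g₀ → u ≠ 1 →
      ∀ h : G, (g₀ * h = h * g₀ ↔ u * h = h * u) := by
    intro g₀ hg₀ u hu hu1 h
    constructor
    · intro hh
      exact H1 g₀ u h hg₀ hu hh
    · intro hh
      exact H1 u g₀ h hu1 hu.symm hh
  obtain ⟨A, hAdef⟩ : ∃ A : Subgroup G, A = Subgroup.centralizer ({u₁} : Set G) := ⟨_, rfl⟩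
  have hA : ∀ h : G, h ∈ A ↔ u₁ * h = h * u₁ := by
    intro h; rw [hAdef]; exact hmemC u₁ h
  have hAp : ∀ h ∈ A, h ^ p = 1 := fun h hh => H2 u₁ h hu₁ h₁ ((hA h).mp hh)
  have hu₁A : u₁ ∈ A := (hA u₁).mpr rfl
  have hApg : IsPGroup p A := by
    rintro ⟨h, hh⟩
    refine ⟨1, Subtype.ext ?_⟩
    show h ^ p ^ 1 = 1
    rw [pow_one]; exact hAp h hh
  -- `A` is a Sylow subgroup
  obtain ⟨S, hS⟩ := hApg.exists_le_sylow
  have hSA : (S : Subgroup G) = A := by
    apply le_antisymm _ hS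
    have hnt : Nontrivial (S : Subgroup G) :=
      ⟨⟨⟨u₁, hS hu₁A⟩, 1, fun h => hu₁ (congrArg Subtype.val h)⟩⟩
    have hcn := IsPGroup.center_nontrivial S.isPGroup'
    obtain ⟨z, hz⟩ := exists_ne (1 : Subgroup.center (S : Subgroup G))
    have hz1 : ((z : (S : Subgroup G)) : G) ≠ 1 := by
      intro h
      apply hz
      apply Subtype.ext
      apply Subtype.ext
      exact h
    have hzc : ∀ w : G, w ∈ (S : Subgroup G) → ((z : (S : Subgroup G)) : G) * w =
        w * ((z : (S : Subgroup G)) : G) := by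
      intro w hw
      have h3 := Subgroup.mem_center_iff.mp z.2 ⟨w, hw⟩
      have h4 := congrArg Subtype.val h3
      exact h4.symm
    have hzu : u₁ * ((z : (S : Subgroup G)) : G) = ((z : (S : Subgroup G)) : G) * u₁ :=
      (hzc u₁ (hS hu₁A)).symm
    intro w hw
    rw [hA]
    exact (hCA u₁ hu₁ _ hzu hz1 w).mpr (hzc w hw)
  have hPA : ∀ v : G, v ^ p = 1 → v ≠ 1 → ∃ g : G, ∃ u ∈ A, u ≠ 1 ∧ g * u * g⁻¹ = v := by
    intro v hv hv1
    have hvp : IsPGroup p (Subgroup.zpowers v) := by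
      rintro ⟨w, hw⟩
      obtain ⟨k, rfl⟩ := Subgroup.mem_zpowers_iff.mp hw
      refine ⟨1, Subtype.ext ?_⟩
      show (v ^ k) ^ p ^ 1 = 1
      rw [pow_one, ← zpow_natCast, ← zpow_mul, mul_comm, zpow_mul, zpow_natCast, hv, one_zpow]
    obtain ⟨S', hS'⟩ := hvp.exists_le_sylow
    obtain ⟨g, hg⟩ := MulAction.exists_smul_eq G S S'
    have hv' : v ∈ (S' : Subgroup G) := hS' (Subgroup.mem_zpowers v)
    rw [← hg, Sylow.smul_def, Sylow.pointwise_smul_def, hSA,
      Subgroup.mem_pointwise_smul_iff_inv_smul_mem] at hv'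
    have e : (MulAut.conj g)⁻¹ • v = g⁻¹ * v * g := by
      rw [← map_inv, MulAut.smul_def, MulAut.conj_apply, inv_inv]
    rw [e] at hv'
    refine ⟨g, g⁻¹ * v * g, hv', ?_, by group⟩
    intro h
    apply hv1
    have : v = g * (g⁻¹ * v * g) * g⁻¹ := by group
    rw [this, h]; group
  obtain ⟨N, hNdef⟩ : ∃ N : Subgroup G, N = Subgroup.normalizer ((A : Subgroup G) : Set G) :=
    ⟨_, rfl⟩
  have hNA : ∀ x ∈ N, ∀ u ∈ A, x⁻¹ * u * x ∈ A := by
    intro x hx u hu
    rw [hNdef] at hx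
    have h3 := (Subgroup.mem_normalizer_iff.mp (Subgroup.inv_mem _ hx) u).mp hu
    rwa [inv_inv] at h3
  have hNA' : ∀ x ∈ N, ∀ u ∈ A, x * u * x⁻¹ ∈ A := by
    intro x hx u hu
    rw [hNdef] at hx
    exact (Subgroup.mem_normalizer_iff.mp hx u).mp hu
  have hTIA : ∀ x u : G, u ∈ A → u ≠ 1 → x * u * x⁻¹ ∈ A → x ∈ N := by
    intro x u hu hu1 hxu
    rw [hNdef, hAdef]
    exact hnorm u₁ hu₁ x u ((hA u).mp hu) hu1 ((hA _).mp hxu)
  have cA := card_conjUnion A N hNA hTIA
  have hconjA : conjUnion A = {v : G | v ^ p = 1 ∧ v ≠ 1} := by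
    ext v
    constructor
    · rintro ⟨g, u, hu, hu1, rfl⟩
      refine ⟨?_, hconj_ne g u hu1⟩
      rw [conj_pow, hAp u hu]; group
    · rintro ⟨hv, hv1⟩
      exact hPA v hv hv1
  by_cases hall : ∀ s : G, s ^ p = 1
  · -- `G` is a `p`-group
    have hG : IsPGroup p G := fun g => ⟨1, by rw [pow_one]; exact hall g⟩
    have hnt : Nontrivial G := ⟨⟨u₁, 1, hu₁⟩⟩
    have hcn := IsPGroup.center_nontrivial hG
    obtain ⟨z, hz⟩ := exists_ne (1 : Subgroup.center G)
    have hz1 : (z : G) ≠ 1 := fun h => hz (Subtype.ext h)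
    have hzc : ∀ w : G, (z : G) * w = w * (z : G) := fun w =>
      (Subgroup.mem_center_iff.mp z.2 w).symm
    exact hne (H1 (z : G) u₁ u₂ hz1 (hzc u₁) (hzc u₂))
  push Not at hall
  obtain ⟨s, hs⟩ := hall
  -- facts about centralizers of non-`p`-elements
  have hgen : ∀ s : G, s ^ p ≠ 1 →
      (Nat.card (Subgroup.centralizer ({s} : Set G)) *
          (conjUnion (Subgroup.centralizer ({s} : Set G))).ncard =
        Nat.card G * (Nat.card (Subgroup.centralizer ({s} : Set G)) - 1)) ∧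
      conjUnion (Subgroup.centralizer ({s} : Set G)) ⊆ {v : G | v ^ p ≠ 1} ∧
      3 ≤ Nat.card (Subgroup.centralizer ({s} : Set G)) ∧
      ¬ p ∣ Nat.card (Subgroup.centralizer ({s} : Set G)) := by
    intro s hs
    have hs1 : s ≠ 1 := by rintro rfl; exact hs (one_pow p)
    obtain ⟨C, hCdef⟩ : ∃ C : Subgroup G, C = Subgroup.centralizer ({s} : Set G) := ⟨_, rfl⟩
    rw [← hCdef]
    have hC : ∀ h : G, h ∈ C ↔ s * h = h * s := by
      intro h; rw [hCdef]; exact hmemC s h
    have hsC : s ∈ C := (hC s).mpr rfl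
    have hC1 : ∀ c ∈ C, c ≠ 1 → c ^ p ≠ 1 := by
      intro c hc hc1 hcp
      exact hs (H2 c s hc1 hcp ((hC c).mp hc).symm)
    have hCself : ∀ x c : G, c ∈ C → c ≠ 1 → x * c * x⁻¹ ∈ C → x ∈ C := by
      intro x c hc hc1 hxc
      have h3 := hkey s hs1 x c ((hC c).mp hc) hc1 ((hC _).mp hxc) s rfl
      rcases H3 s x hs h3.symm with h4 | h4
      · rw [hC]
        have : x * s = s * x := by
          calc x * s = (x * s * x⁻¹) * x := by group
            _ = s * x := by rw [h4]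
        exact this.symm
      · have h5 : (x * x) * s * (x * x)⁻¹ = s := by
          calc (x * x) * s * (x * x)⁻¹ = x * (x * s * x⁻¹) * x⁻¹ := by group
            _ = x * s⁻¹ * x⁻¹ := by rw [h4]
            _ = (x * s * x⁻¹)⁻¹ := by group
            _ = s := by rw [h4, inv_inv]
        have hxx : x * x ∈ C := by
          rw [hC]
          have : (x * x) * s = s * (x * x) := by
            calc (x * x) * s = ((x * x) * s * (x * x)⁻¹) * (x * x) := by group
              _ = s * (x * x) := by rw [h5]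
          exact this.symm
        have hox : Odd (orderOf x) := hodd.of_dvd_nat (orderOf_dvd_natCard x)
        obtain ⟨k, hk⟩ := hox
        have hx : x = (x * x) ^ (k + 1) := by
          rw [← pow_two, ← pow_mul]
          have : 2 * (k + 1) = orderOf x + 1 := by omega
          rw [this, pow_succ, pow_orderOf_eq_one, one_mul]
        rw [hx]; exact C.pow_mem hxx _
    have cC := card_conjUnion C C
      (fun x hx u hu => C.mul_mem (C.mul_mem (C.inv_mem hx) hu) hx) hCself
    refine ⟨cC, ?_, ?_, ?_⟩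
    · rintro v ⟨g, c, hc, hc1, rfl⟩
      show (g * c * g⁻¹) ^ p ≠ 1
      rw [conj_pow]
      intro h
      apply hC1 c hc hc1
      have : c ^ p = g⁻¹ * (g * c ^ p * g⁻¹) * g := by group
      rw [this, h]; group
    · have hodd' : Odd (Nat.card C) := hodd.of_dvd_nat (Subgroup.card_subgroup_dvd_card C)
      have hne1 : Nat.card C ≠ 1 := by
        intro h
        have := Subgroup.card_eq_one.mp h
        rw [this, Subgroup.mem_bot] at hsC
        exact hs1 hsC
      obtain ⟨k, hk⟩ := hodd'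
      omega
    · intro hdvd
      obtain ⟨c, hc⟩ := exists_prime_orderOf_dvd_card' p hdvd
      have hc1 : (c : G) ≠ 1 := by
        intro h
        have : c = 1 := Subtype.ext h
        rw [this, orderOf_one] at hc
        exact hp.1.one_lt.ne hc
      apply hC1 (c : G) c.2 hc1
      have := pow_orderOf_eq_one c
      rw [hc] at this
      exact congrArg Subtype.val this
  obtain ⟨cC, hCsub, he3, hpe⟩ := hgen s hs
  have hs1 : s ≠ 1 := by rintro rfl; exact hs (one_pow p)
  obtain ⟨C, hCdef⟩ : ∃ C : Subgroup G, C = Subgroup.centralizer ({s} : Set G) := ⟨_, rfl⟩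
  rw [← hCdef] at cC hCsub he3 hpe
  have hC : ∀ h : G, h ∈ C ↔ s * h = h * s := by
    intro h; rw [hCdef]; exact hmemC s h
  have hgpos : 0 < Nat.card G := Nat.card_pos
  -- the bound `3 K ≥ 2 g`
  have hbound : ∀ e K : ℕ, 3 ≤ e → e * K = Nat.card G * (e - 1) → 2 * Nat.card G ≤ 3 * K := by
    intro e K he hK
    obtain ⟨e', rfl⟩ : ∃ e', e = e' + 1 := ⟨e - 1, by omega⟩
    rw [Nat.add_sub_cancel] at hK
    have h3 : (e' + 1) * (2 * Nat.card G) ≤ (e' + 1) * (3 * K) := by
      have h4 : 2 * (e' + 1) ≤ 3 * e' := by omega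
      calc (e' + 1) * (2 * Nat.card G) = 2 * (e' + 1) * Nat.card G := by ring
        _ ≤ 3 * e' * Nat.card G := Nat.mul_le_mul_right _ h4
        _ = 3 * (Nat.card G * e') := by ring
        _ = 3 * ((e' + 1) * K) := by rw [hK]
        _ = (e' + 1) * (3 * K) := by ring
    exact Nat.le_of_mul_le_mul_left h3 (by omega)
  -- every non-`p`-element is conjugate into `C`
  have hRC : ∀ s' : G, s' ^ p ≠ 1 → s' ∈ conjUnion C := by
    intro s' hs'
    by_contra hs'C
    obtain ⟨cC', -, he3', -⟩ := hgen s' hs'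
    have hs'1 : s' ≠ 1 := by rintro rfl; exact hs' (one_pow p)
    have hdisj : Disjoint (conjUnion C) (conjUnion (Subgroup.centralizer ({s'} : Set G))) := by
      rw [Set.disjoint_left]
      rintro v ⟨g, c, hc, hc1, rfl⟩ ⟨g', c', hc', hc'1, hv⟩
      apply hs'C
      -- w = g'⁻¹ g conjugates c to c'
      have hw : (g'⁻¹ * g) * c * (g'⁻¹ * g)⁻¹ = c' := by
        have : (g'⁻¹ * g) * c * (g'⁻¹ * g)⁻¹ = g'⁻¹ * (g * c * g⁻¹) * g' := by group
        rw [this, ← hv]; group
      have hc's' : s' * c' = c' * s' := (hmemC s' c').mp hc'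
      -- (g'⁻¹ g)⁻¹ s' (g'⁻¹ g) commutes with c
      have h3 : c * ((g'⁻¹ * g)⁻¹ * s' * (g'⁻¹ * g)) = ((g'⁻¹ * g)⁻¹ * s' * (g'⁻¹ * g)) * c := by
        have e1 : c = (g'⁻¹ * g)⁻¹ * c' * (g'⁻¹ * g) := by rw [← hw]; group
        have e2 : (g'⁻¹ * g)⁻¹ * c' * (g'⁻¹ * g) * ((g'⁻¹ * g)⁻¹ * s' * (g'⁻¹ * g)) =
            (g'⁻¹ * g)⁻¹ * (c' * s') * (g'⁻¹ * g) := by group
        have e3 : ((g'⁻¹ * g)⁻¹ * s' * (g'⁻¹ * g)) * ((g'⁻¹ * g)⁻¹ * c' * (g'⁻¹ * g)) =
            (g'⁻¹ * g)⁻¹ * (s' * c') * (g'⁻¹ * g) := by group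
        rw [e1, e2, e3, hc's']
      have h4 : (g'⁻¹ * g)⁻¹ * s' * (g'⁻¹ * g) ∈ C := by
        rw [hC]
        exact (hCA s hs1 c ((hC c).mp hc) hc1 _).mpr h3
      refine ⟨g'⁻¹ * g, (g'⁻¹ * g)⁻¹ * s' * (g'⁻¹ * g), h4, ?_, by group⟩
      intro h
      apply hs'1
      have : s' = (g'⁻¹ * g) * ((g'⁻¹ * g)⁻¹ * s' * (g'⁻¹ * g)) * (g'⁻¹ * g)⁻¹ := by group
      rw [this, h]; group
    have h5 := Set.ncard_union_eq hdisj
    have h6 : (conjUnion C ∪ conjUnion (Subgroup.centralizer ({s'} : Set G))).ncard ≤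
        Nat.card G := Set.ncard_le_card _
    have h7 := hbound _ _ he3 cC
    have h8 := hbound _ _ he3' cC'
    omega
  have hconjC : conjUnion C = {v : G | v ^ p ≠ 1} :=
    Set.Subset.antisymm hCsub (fun v hv => hRC v hv)
  -- the partition
  have hpart : Nat.card G = 1 + (conjUnion A).ncard + (conjUnion C).ncard := by
    have hun : ({1} : Set G) ∪ (conjUnion A ∪ conjUnion C) = Set.univ := by
      rw [hconjA, hconjC]
      ext v
      simp only [Set.mem_union, Set.mem_singleton_iff, Set.mem_ofPred_eq, Set.mem_univ, iff_true]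
      by_cases h1 : v = 1
      · exact Or.inl h1
      · by_cases h2 : v ^ p = 1
        · exact Or.inr (Or.inl ⟨h2, h1⟩)
        · exact Or.inr (Or.inr h2)
    have hd1 : Disjoint (conjUnion A) (conjUnion C) := by
      rw [hconjA, hconjC, Set.disjoint_left]
      rintro v ⟨h2, -⟩ h3
      exact h3 h2
    have hd2 : Disjoint ({1} : Set G) (conjUnion A ∪ conjUnion C) := by
      rw [hconjA, hconjC, Set.disjoint_left]
      rintro v hv h3
      rw [Set.mem_singleton_iff] at hv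
      subst hv
      rcases h3 with h3 | h3
      · exact h3.2 rfl
      · exact h3 (one_pow p)
    have h3 := Set.ncard_union_eq hd2
    rw [hun, Set.ncard_univ, Set.ncard_singleton, Set.ncard_union_eq hd1] at h3
    omega
  -- the numbers
  obtain ⟨d, hd⟩ : Nat.card A ∣ Nat.card N := by
    apply Subgroup.card_dvd_of_le
    rw [hNdef]; exact Subgroup.le_normalizer
  obtain ⟨n, hn⟩ : Nat.card N ∣ Nat.card G := Subgroup.card_subgroup_dvd_card N
  have hapos : 0 < Nat.card A := Nat.card_pos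
  have hNpos : 0 < Nat.card N := Nat.card_pos
  have ha2 : 2 ≤ Nat.card A := by
    have : 1 < Nat.card A := by
      rw [Subgroup.one_lt_card_iff_ne_bot]
      intro h
      rw [h, Subgroup.mem_bot] at hu₁A
      exact hu₁ hu₁A
    omega
  have hd1 : 1 ≤ d := by
    rcases Nat.eq_zero_or_pos d with h0 | h0
    · rw [h0, mul_zero] at hd; omega
    · exact h0
  have hn1 : 1 ≤ n := by
    rcases Nat.eq_zero_or_pos n with h0 | h0
    · rw [h0, mul_zero] at hn; omega
    · exact h0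
  -- the orbit bound `|N| ≤ |A| (|A| - 1)`
  have hNle : Nat.card N ≤ Nat.card A * (Nat.card A - 1) := by
    have hfG : Fintype G := Fintype.ofFinite G
    have hfN : Fintype N := Fintype.ofFinite N
    obtain ⟨f, hf⟩ : ∃ f : N → G, f = fun x : N => (x : G) * u₁ * (x : G)⁻¹ := ⟨_, rfl⟩
    have h3 := Finset.card_le_mul_card_image (f := f) (Finset.univ : Finset N) (Nat.card A) (by
      intro v hv
      obtain ⟨x₀, -, rfl⟩ := Finset.mem_image.mp hv
      have h4 : (Finset.univ.filter (fun u : G => u ∈ A)).card = Nat.card A := by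
        rw [Nat.card_eq_fintype_card, Fintype.card_subtype]
      rw [← h4]
      apply Finset.card_le_card_of_injOn (fun x : N => (x₀ : G)⁻¹ * (x : G))
      · intro x hx
        have hx' : f x = f x₀ := (Finset.mem_filter.mp hx).2
        rw [hf] at hx'
        have hx'' : (x : G) * u₁ * (x : G)⁻¹ = (x₀ : G) * u₁ * (x₀ : G)⁻¹ := hx'
        simp only [Finset.coe_filter, Finset.mem_univ, true_and, Set.mem_ofPred_eq]
        rw [hA]
        have e1 : u₁ * ((x₀ : G)⁻¹ * (x : G)) =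
            (x₀ : G)⁻¹ * ((x₀ : G) * u₁ * (x₀ : G)⁻¹) * (x : G) := by group
        have e2 : (x₀ : G)⁻¹ * (x : G) * u₁ =
            (x₀ : G)⁻¹ * ((x : G) * u₁ * (x : G)⁻¹) * (x : G) := by group
        rw [e1, e2, hx'']
      · intro x _ y _ hxy
        have hxy' : (x₀ : G)⁻¹ * (x : G) = (x₀ : G)⁻¹ * (y : G) := hxy
        exact Subtype.ext (mul_left_cancel hxy'))
    have h5 : ((Finset.univ : Finset N).image f).card ≤ Nat.card A - 1 := by
      have h4 : (Finset.univ.filter (fun u : G => u ∈ A)).card = Nat.card A := by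
        rw [Nat.card_eq_fintype_card, Fintype.card_subtype]
      have h6 : (Finset.univ : Finset N).image f ⊆
          (Finset.univ.filter (fun u : G => u ∈ A)).erase 1 := by
        intro v hv
        obtain ⟨x, -, rfl⟩ := Finset.mem_image.mp hv
        rw [Finset.mem_erase, Finset.mem_filter, hf]
        exact ⟨hconj_ne _ u₁ hu₁, Finset.mem_univ _, hNA' x x.2 u₁ hu₁A⟩
      have h7 := Finset.card_le_card h6
      rw [Finset.card_erase_of_mem (by simp [A.one_mem]), h4] at h7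
      exact h7
    rw [Finset.card_univ, ← Nat.card_eq_fintype_card] at h3
    exact le_trans h3 (Nat.mul_le_mul_left _ h5)
  have hdle : d ≤ Nat.card A - 1 := by
    rw [hd] at hNle
    exact Nat.le_of_mul_le_mul_left hNle hapos
  -- coprimality
  have hcop : Nat.Coprime (Nat.card C) (Nat.card A) := by
    obtain ⟨r, hr⟩ := IsPGroup.iff_card.mp hApg
    rw [hr]
    apply Nat.Coprime.pow_right
    exact ((Nat.Prime.coprime_iff_not_dvd hp.1).mpr hpe).symm
  -- the equation
  have hpi : (conjUnion A).ncard = n * (Nat.card A - 1) := by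
    rw [hn] at cA
    have : Nat.card N * (conjUnion A).ncard = Nat.card N * (n * (Nat.card A - 1)) := by
      rw [cA]; ring
    exact Nat.eq_of_mul_eq_mul_left hNpos this
  have heq : Nat.card C * (1 + n * (Nat.card A - 1)) = n * Nat.card A * d := by
    rw [← hpi]
    obtain ⟨e', he'⟩ : ∃ e', Nat.card C = e' + 1 := ⟨Nat.card C - 1, by omega⟩
    rw [he', Nat.add_sub_cancel] at cC
    rw [he']
    have h3 : Nat.card G = n * Nat.card A * d := by rw [hn, hd]; ring
    rw [← h3]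
    have h4 : (e' + 1) * (1 + (conjUnion A).ncard) + (e' + 1) * (conjUnion C).ncard =
        (e' + 1) * Nat.card G := by
      rw [← mul_add, hpart]
    rw [cC] at h4
    have h5 : (e' + 1) * Nat.card G = Nat.card G * e' + Nat.card G := by ring
    omega
  have hn_one := ca_arith (Nat.card A) (Nat.card C) n d ha2 hd1 hdle hn1 hcop heq
  rw [hn_one, mul_one] at hn
  have hNtop : N = ⊤ := Subgroup.eq_top_of_card_eq N hn.symm
  obtain ⟨g', u, hu, hu1, hgu⟩ := hPA u₂ h₂ hu₂
  have h3 : g' * u * g'⁻¹ ∈ A := hNA' g' (by rw [hNtop]; trivial) u hu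
  rw [hgu] at h3
  exact hne ((hA u₂).mp h3)

end Cfsg.Agent.Lib.Helper17
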