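import Mathlib

set_option autoImplicit false

/-!
A counting theorem for finite groups of odd order with commutative centralizers: under three
hypotheses that hold in two-dimensional special linear groups over a field of characteristic `p`,
any two elements of order dividing `p` commute.
-/

namespace Cfsg.Agent.Lib.Helper17

section CountConj

variable {G : Type*} [Group G]

/-- the set of nonidentity elements conjugate into `X` -/
def conjUnion (X : Subgroup G) : Set G := {v | ∃ g : G, ∃ u ∈ X, u ≠ 1 ∧ g * u * g⁻¹ = v}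

theorem card_conjUnion [Finite G] (X N : Subgroup G)
    (hN : ∀ x ∈ N, ∀ u ∈ X, x⁻¹ * u * x ∈ X)
    (hTI : ∀ x : G, ∀ u ∈ X, u ≠ 1 → x * u * x⁻¹ ∈ X → x ∈ N) :
    Nat.card N * (conjUnion X).ncard = Nat.card G * (Nat.card X - 1) := by
  classical
  have := Fintype.ofFinite G
  obtain ⟨X', hX'⟩ : ∃ X' : Finset G, X' = Finset.univ.filter (fun u => u ∈ X ∧ u ≠ 1) := ⟨_, rfl⟩
  obtain ⟨s, hs⟩ : ∃ s : Finset (G × G), s = Finset.univ ×ˢ X' := ⟨_, rfl⟩
  obtain ⟨t, ht⟩ : ∃ t : Finset G, t = Finset.univ.filter (fun v => v ∈ conjUnion X) := ⟨_, rfl⟩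
  obtain ⟨f, hf⟩ : ∃ f : G × G → G, f = fun q => q.1 * q.2 * q.1⁻¹ := ⟨_, rfl⟩
  have hmemX' : ∀ u, u ∈ X' ↔ u ∈ X ∧ u ≠ 1 := by
    intro u; rw [hX']; simp
  have hmems : ∀ q : G × G, q ∈ s ↔ q.2 ∈ X ∧ q.2 ≠ 1 := by
    intro q; rw [hs, Finset.mem_product, hmemX']; simp
  have hmemt : ∀ v, v ∈ t ↔ v ∈ conjUnion X := by
    intro v; rw [ht]; simp
  have hmaps : ∀ q ∈ s, f q ∈ t := by
    intro q hq
    rw [hmemt, hf]
    exact ⟨q.1, q.2, ((hmems q).mp hq).1, ((hmems q).mp hq).2, rfl⟩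
  have h1 := Finset.card_eq_sum_card_fiberwise hmaps
  have hfib : ∀ v ∈ t, (s.filter (fun q => f q = v)).card = Nat.card N := by
    intro v hv
    obtain ⟨g₀, u₀, hu₀, hu₀1, rfl⟩ := (hmemt v).mp hv
    have : Fintype N := Fintype.ofFinite N
    have himg : s.filter (fun q => f q = g₀ * u₀ * g₀⁻¹) =
        (Finset.univ : Finset N).image (fun x : N => (g₀ * (x : G), (x : G)⁻¹ * u₀ * (x : G))) := by
      ext q
      rw [Finset.mem_filter, hmems, Finset.mem_image]
      constructor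
      · rintro ⟨⟨hq2, hq1⟩, hfq⟩
        rw [hf] at hfq
        have hfq' : q.1 * q.2 * q.1⁻¹ = g₀ * u₀ * g₀⁻¹ := hfq
        have e1 : (g₀⁻¹ * q.1) * q.2 * (g₀⁻¹ * q.1)⁻¹ = u₀ := by
          have : (g₀⁻¹ * q.1) * q.2 * (g₀⁻¹ * q.1)⁻¹ = g₀⁻¹ * (q.1 * q.2 * q.1⁻¹) * g₀ := by group
          rw [this, hfq']; group
        have hxN : g₀⁻¹ * q.1 ∈ N := hTI _ q.2 hq2 hq1 (by rw [e1]; exact hu₀)
        refine ⟨⟨g₀⁻¹ * q.1, hxN⟩, Finset.mem_univ _, ?_⟩
        apply Prod.ext
        · show g₀ * (g₀⁻¹ * q.1) = q.1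
          group
        · show (g₀⁻¹ * q.1)⁻¹ * u₀ * (g₀⁻¹ * q.1) = q.2
          rw [← e1]; group
      · rintro ⟨x, -, rfl⟩
        refine ⟨⟨hN x x.2 u₀ hu₀, ?_⟩, ?_⟩
        · intro h
          apply hu₀1
          have h' : (x : G)⁻¹ * u₀ * (x : G) = 1 := h
          have : u₀ = (x : G) * ((x : G)⁻¹ * u₀ * (x : G)) * (x : G)⁻¹ := by group
          rw [this, h']; group
        · rw [hf]
          show g₀ * (x : G) * ((x : G)⁻¹ * u₀ * (x : G)) * (g₀ * (x : G))⁻¹ = g₀ * u₀ * g₀⁻¹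
          group
    rw [himg, Finset.card_image_of_injective, Finset.card_univ, Nat.card_eq_fintype_card]
    intro x y hxy
    have h2 : g₀ * (x : G) = g₀ * (y : G) := congrArg Prod.fst hxy
    exact Subtype.ext (mul_left_cancel h2)
  rw [Finset.sum_congr rfl hfib, Finset.sum_const, smul_eq_mul] at h1
  have hscard : s.card = Nat.card G * (Nat.card X - 1) := by
    rw [hs, Finset.card_product, Finset.card_univ, Nat.card_eq_fintype_card]
    congr 1
    have h3 : (Finset.univ.filter (fun u : G => u ∈ X)).card = Nat.card X := by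
      rw [Nat.card_eq_fintype_card, Fintype.card_subtype]
    have h4 : X' = (Finset.univ.filter (fun u : G => u ∈ X)).erase 1 := by
      ext u
      rw [hmemX', Finset.mem_erase, Finset.mem_filter]
      simp [and_comm]
    rw [h4, Finset.card_erase_of_mem (by simp [X.one_mem]), h3]
  have htcard : t.card = (conjUnion X).ncard := by
    rw [Set.ncard_eq_toFinset_card', ht]
    congr 1
    ext v
    simp
  rw [hscard, htcard] at h1
  rw [h1, mul_comm]

end CountConj

/-- arithmetic at the end of the count -/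
theorem ca_arith (a e n d : ℕ) (ha : 2 ≤ a) (hd1 : 1 ≤ d) (hd : d ≤ a - 1) (hn : 1 ≤ n)
    (hcop : Nat.Coprime e a) (h : e * (1 + n * (a - 1)) = n * a * d) : n = 1 := by
  have h1 : a ∣ e * (1 + n * (a - 1)) := by
    rw [h]; exact ⟨n * d, by ring⟩
  have h2 : a ∣ 1 + n * (a - 1) := (Nat.Coprime.dvd_mul_left hcop.symm).mp h1
  obtain ⟨t, ht⟩ := h2
  have h3 : e * t = n * d := by
    have : a * (e * t) = a * (n * d) := by
      calc a * (e * t) = e * (a * t) := by ring
        _ = e * (1 + n * (a - 1)) := by rw [ht]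
        _ = n * a * d := h
        _ = a * (n * d) := by ring
    exact Nat.eq_of_mul_eq_mul_left (by omega) this
  have ht1 : 1 ≤ t := by
    rcases Nat.eq_zero_or_pos t with h0 | h0
    · rw [h0, mul_zero] at ht; omega
    · exact h0
  have hcop2 : Nat.Coprime t n := by
    apply Nat.Coprime.symm
    show Nat.gcd n t = 1
    have hg1 : Nat.gcd n t ∣ a * t := Dvd.dvd.mul_left (Nat.gcd_dvd_right n t) a
    have hg2 : Nat.gcd n t ∣ n * (a - 1) := Dvd.dvd.mul_right (Nat.gcd_dvd_left n t) _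
    rw [← ht] at hg1
    exact Nat.dvd_one.mp ((Nat.dvd_add_left hg2).mp hg1)
  have h4 : t ∣ d := by
    have : t ∣ n * d := Dvd.intro_left _ h3
    exact (Nat.Coprime.dvd_mul_left hcop2).mp this
  have h5 : t ≤ d := Nat.le_of_dvd (by omega) h4
  -- integer computation
  have hz : ((t : ℤ) - 1) = ((n : ℤ) - t) * ((a : ℤ) - 1) := by
    have ht' : (1 : ℤ) + n * ((a : ℤ) - 1) = a * t := by
      have := congrArg (fun k : ℕ => (k : ℤ)) ht
      simp only [Nat.cast_add, Nat.cast_mul, Nat.cast_one] at this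
      rw [Nat.cast_sub (by omega)] at this
      simpa using this
    linarith
  have ha' : (2 : ℤ) ≤ a := by exact_mod_cast ha
  have ht' : (1 : ℤ) ≤ t := by exact_mod_cast ht1
  have htd : (t : ℤ) ≤ (a : ℤ) - 1 := by
    have : t ≤ a - 1 := le_trans h5 hd
    have h6 : (t : ℤ) ≤ ((a - 1 : ℕ) : ℤ) := by exact_mod_cast this
    rw [Nat.cast_sub (by omega)] at h6
    simpa using h6
  have hnt : (n : ℤ) = t := by
    by_contra hne
    rcases lt_or_gt_of_ne hne with hlt | hgt
    · have : ((n : ℤ) - t) * ((a : ℤ) - 1) ≤ -1 * ((a : ℤ) - 1) := by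
        apply mul_le_mul_of_nonneg_right (by linarith) (by linarith)
      linarith
    · have : 1 * ((a : ℤ) - 1) ≤ ((n : ℤ) - t) * ((a : ℤ) - 1) := by
        apply mul_le_mul_of_nonneg_right (by linarith) (by linarith)
      linarith
  have ht2 : (t : ℤ) = 1 := by
    rw [hnt] at hz
    linarith
  have : (n : ℤ) = 1 := by rw [hnt, ht2]
  exact_mod_cast this

end Cfsg.Agent.Lib.Helper17
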