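import Mathlib

set_option autoImplicit false
set_option maxHeartbeats 1000000

/-!
Arithmetic for the class equation of minimal non-`p`-closed `SL2Like` groups.
-/

namespace Cfsg.Agent.Lib.Helper17

theorem ce_arith (q d n t : ℕ) (hq3 : 3 ≤ q) (hqodd : Odd q) (hd2 : 2 ≤ d) (hdq : d + 1 ≤ q)
    (hn : 2 ≤ n) (ht : 2 ≤ t) (hcop : Nat.Coprime t q)
    (h : n * q * d = t * (n * (q - 2) + 2)) : n = q + 1 ∨ q = 3 := by
  obtain ⟨q', rfl⟩ : ∃ q', q = q' + 2 := ⟨q - 2, by omega⟩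
  simp only [Nat.add_sub_cancel] at h
  have h1 : (q' + 2) ∣ t * (n * q' + 2) := ⟨n * d, by rw [← h]; ring⟩
  have h2 : (q' + 2) ∣ n * q' + 2 := (Nat.Coprime.dvd_mul_left hcop.symm).mp h1
  have h3 : (q' + 2) ∣ 2 * (n - 1) := by
    have e : n * (q' + 2) = (n * q' + 2) + 2 * (n - 1) := by
      obtain ⟨n', rfl⟩ : ∃ n', n = n' + 1 := ⟨n - 1, by omega⟩
      simp only [Nat.add_sub_cancel]
      ring
    have h4 : (q' + 2) ∣ (n * q' + 2) + 2 * (n - 1) := by rw [← e]; exact Dvd.intro_left n rfl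
    exact (Nat.dvd_add_right h2).mp h4
  have hcop2 : Nat.Coprime (q' + 2) 2 := Nat.coprime_two_right.mpr hqodd
  have h4 : (q' + 2) ∣ n - 1 := (Nat.Coprime.dvd_mul_left hcop2).mp h3
  obtain ⟨k, hk⟩ := h4
  have hk1 : 1 ≤ k := by
    rcases Nat.eq_zero_or_pos k with h0 | h0
    · rw [h0] at hk; omega
    · exact h0
  have hn' : n = 1 + (q' + 2) * k := by omega
  subst hn'
  have h5 : (1 + (q' + 2) * k) * d = t * (1 + k * q') := by
    have h6 : (q' + 2) * ((1 + (q' + 2) * k) * d) = (q' + 2) * (t * (1 + k * q')) := by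
      have e : t * ((1 + (q' + 2) * k) * q' + 2) = (q' + 2) * (t * (1 + k * q')) := by ring
      rw [← e, ← h]; ring
    exact Nat.eq_of_mul_eq_mul_left (by omega) h6
  have h6 : (1 + k * q') ∣ 2 * k * d := by
    have e : (1 + (q' + 2) * k) * d = (1 + k * q') * d + 2 * k * d := by ring
    rw [e] at h5
    have h7 : (1 + k * q') ∣ (1 + k * q') * d + 2 * k * d := ⟨t, by rw [h5]; ring⟩
    exact (Nat.dvd_add_right (Dvd.intro _ rfl)).mp h7
  have hcop3 : Nat.Coprime (1 + k * q') k := by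
    rw [Nat.coprime_add_mul_left_left]
    exact Nat.coprime_one_left k
  have h7 : (1 + k * q') ∣ 2 * d := by
    have h8 : (1 + k * q') ∣ k * (2 * d) := by
      rw [show k * (2 * d) = 2 * k * d by ring]; exact h6
    exact (Nat.Coprime.dvd_mul_left hcop3).mp h8
  have h8 : 1 + k * q' ≤ 2 * d := Nat.le_of_dvd (by omega) h7
  rcases Nat.lt_or_ge k 2 with hk2 | hk2
  · left
    have hk' : k = 1 := by omega
    subst hk'
    ring
  rcases Nat.lt_or_ge k 3 with hk3 | hk3
  · exfalso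
    have hk' : k = 2 := by omega
    subst hk'
    have hodd2 : Nat.Coprime (1 + 2 * q') 2 := by
      rw [Nat.coprime_two_right]
      exact ⟨q', by ring⟩
    have h9 : (1 + 2 * q') ∣ d := (Nat.Coprime.dvd_mul_left hodd2).mp h7
    have h10 := Nat.le_of_dvd (by omega) h9
    omega
  · right
    have h9 : 3 * q' ≤ k * q' := Nat.mul_le_mul_right _ hk3
    omega

end Cfsg.Agent.Lib.Helper17
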