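import Cfsg.Agent.Lib.Helper17.CECount

set_option autoImplicit false
set_option maxHeartbeats 1000000
set_option linter.unusedVariables false
set_option linter.unusedSimpArgs false
set_option linter.style.haveILetI false

/-!
A class equation argument for finite groups that look like subgroups of a two-dimensional
special linear group in odd characteristic `p`: a central involution `z`, commutative
centralizers of non-central elements, and at most two conjugates of a semisimple element in its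
centralizer.  For such a group, not `p`-closed but with all proper subgroups `p`-closed, the
normalizer of a Sylow `p`-subgroup has index one more than the order of the Sylow subgroup
(unless that order is three).
-/

namespace Cfsg.Agent.Lib.Helper17

/-- the hypotheses on a finite group that hold for finite subgroups of even order of a
two-dimensional special linear group in odd characteristic `p` -/
structure SL2Like {G : Type*} [Group G] (p : ℕ) (z : G) : Prop where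
  hz1 : z ≠ 1
  hz2 : z * z = 1
  hzc : ∀ g : G, g * z = z * g
  H1 : ∀ g h k : G, g ≠ 1 → g ≠ z → g * h = h * g → g * k = k * g → h * k = k * h
  H2 : ∀ g h : G, g ≠ 1 → g ≠ z → (g ^ p = 1 ∨ g ^ p = z) → g * h = h * g →
    (h ^ p = 1 ∨ h ^ p = z)
  H3 : ∀ s n : G, s ^ p ≠ 1 → s ^ p ≠ z → (n * s * n⁻¹) * s = s * (n * s * n⁻¹) →
    n * s * n⁻¹ = s ∨ n * s * n⁻¹ = s⁻¹

section

variable {G : Type*} [Group G] {p : ℕ} {z : G}

theorem SL2Like.z_pow (hL : SL2Like (G := G) p z) (hodd : Odd p) : z ^ p = z := by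
  obtain ⟨j, hj⟩ := hodd
  rw [hj, pow_succ, pow_mul, pow_two, hL.hz2, one_pow, one_mul]

theorem mem_cent_iff (g₀ h : G) :
    h ∈ Subgroup.centralizer ({g₀} : Set G) ↔ g₀ * h = h * g₀ := by
  rw [Subgroup.mem_centralizer_iff]
  simp

theorem SL2Like.conj_eq_z (hL : SL2Like (G := G) p z) (x v : G) :
    x * v * x⁻¹ = z ↔ v = z := by
  rw [mul_inv_eq_iff_eq_mul, ← hL.hzc x]
  exact mul_left_cancel_iff

theorem SL2Like.z_mem (hL : SL2Like (G := G) p z) (g₀ : G) :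
    z ∈ Subgroup.centralizer ({g₀} : Set G) := (mem_cent_iff g₀ z).mpr (hL.hzc g₀)

/-- conjugation closure of centralizers -/
theorem SL2Like.conj_comm (hL : SL2Like (G := G) p z) (g₀ : G) (hg1 : g₀ ≠ 1) (hgz : g₀ ≠ z)
    (x v : G) (hv : g₀ * v = v * g₀) (hv1 : v ≠ 1) (hvz : v ≠ z)
    (hxv : g₀ * (x * v * x⁻¹) = (x * v * x⁻¹) * g₀) (h : G) (hh : g₀ * h = h * g₀) :
    g₀ * (x * h * x⁻¹) = (x * h * x⁻¹) * g₀ := by
  have hvh : v * h = h * v := hL.H1 g₀ v h hg1 hgz hv hh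
  have h2 : (x * v * x⁻¹) * (x * h * x⁻¹) = (x * h * x⁻¹) * (x * v * x⁻¹) := by
    have e1 : (x * v * x⁻¹) * (x * h * x⁻¹) = x * (v * h) * x⁻¹ := by group
    have e2 : (x * h * x⁻¹) * (x * v * x⁻¹) = x * (h * v) * x⁻¹ := by group
    rw [e1, e2, hvh]
  have hw1 : x * v * x⁻¹ ≠ 1 := fun h => hv1 (conj_eq_one_iff.mp h)
  have hwz : x * v * x⁻¹ ≠ z := fun h => hvz ((hL.conj_eq_z x v).mp h)
  exact hL.H1 (x * v * x⁻¹) g₀ (x * h * x⁻¹) hw1 hwz hxv.symm h2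

/-- the trivial intersection property of centralizers -/
theorem SL2Like.mem_normalizer (hL : SL2Like (G := G) p z) (g₀ : G) (hg1 : g₀ ≠ 1)
    (hgz : g₀ ≠ z) (x v : G) (hv : g₀ * v = v * g₀) (hv1 : v ≠ 1) (hvz : v ≠ z)
    (hxv : g₀ * (x * v * x⁻¹) = (x * v * x⁻¹) * g₀) :
    x ∈ Subgroup.normalizer ((Subgroup.centralizer ({g₀} : Set G) : Subgroup G) : Set G) := by
  rw [Subgroup.mem_normalizer_iff]
  intro h
  rw [mem_cent_iff, mem_cent_iff]
  constructor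
  · exact hL.conj_comm g₀ hg1 hgz x v hv hv1 hvz hxv h
  · intro hh
    have e1 : x⁻¹ * (x * v * x⁻¹) * x⁻¹⁻¹ = v := by group
    have hw1 : x * v * x⁻¹ ≠ 1 := fun h => hv1 (conj_eq_one_iff.mp h)
    have hwz : x * v * x⁻¹ ≠ z := fun h => hvz ((hL.conj_eq_z x v).mp h)
    have h3 := hL.conj_comm g₀ hg1 hgz x⁻¹ (x * v * x⁻¹) hxv hw1 hwz (by rw [e1]; exact hv)
      (x * h * x⁻¹) hh
    have e2 : x⁻¹ * (x * h * x⁻¹) * x⁻¹⁻¹ = h := by group
    rw [e2] at h3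
    exact h3

/-- the number of conjugates of non-central elements of a centralizer -/
theorem SL2Like.card_conj [Finite G] (hL : SL2Like (G := G) p z) (g₀ : G) (hg1 : g₀ ≠ 1)
    (hgz : g₀ ≠ z) :
    Nat.card (Subgroup.normalizer
        ((Subgroup.centralizer ({g₀} : Set G) : Subgroup G) : Set G)) *
      (conjUnion2 (Subgroup.centralizer ({g₀} : Set G)) z).ncard =
    Nat.card G * (Nat.card (Subgroup.centralizer ({g₀} : Set G)) - 2) := by
  apply card_conjUnion2 _ _ z hL.hz1 (hL.z_mem g₀) hL.hzc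
  · intro x hx u hu
    have h3 := (Subgroup.mem_normalizer_iff.mp (Subgroup.inv_mem _ hx) u).mp hu
    rwa [inv_inv] at h3
  · intro x u hu hu1 huz hxu
    exact hL.mem_normalizer g₀ hg1 hgz x u ((mem_cent_iff g₀ u).mp hu) hu1 huz
      ((mem_cent_iff _ _).mp hxu)

/-- conjugates of elements of the centralizer of a singular element are singular -/
theorem SL2Like.sing_of_mem (hL : SL2Like (G := G) p z) (g₀ : G) (hg1 : g₀ ≠ 1) (hgz : g₀ ≠ z)
    (hg : g₀ ^ p = 1 ∨ g₀ ^ p = z) (w : G)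
    (hw : w ∈ conjUnion2 (Subgroup.centralizer ({g₀} : Set G)) z) : w ^ p = 1 ∨ w ^ p = z := by
  obtain ⟨x, v, hv, hv1, hvz, rfl⟩ := hw
  rw [conj_pow]
  rcases hL.H2 g₀ v hg1 hgz hg ((mem_cent_iff g₀ v).mp hv) with h | h
  · left; rw [h]; group
  · right; rw [h]; exact (hL.conj_eq_z x z).mpr rfl

/-- conjugates of non-central elements of the centralizer of a semisimple element are
semisimple -/
theorem SL2Like.semi_of_mem (hL : SL2Like (G := G) p z) (s : G) (hs1 : s ^ p ≠ 1)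
    (hsz : s ^ p ≠ z) (w : G)
    (hw : w ∈ conjUnion2 (Subgroup.centralizer ({s} : Set G)) z) : w ^ p ≠ 1 ∧ w ^ p ≠ z := by
  obtain ⟨x, v, hv, hv1, hvz, rfl⟩ := hw
  rw [conj_pow]
  have hvs : s * v = v * s := (mem_cent_iff s v).mp hv
  have hkey : ¬ (v ^ p = 1 ∨ v ^ p = z) := by
    intro h
    rcases hL.H2 v s hv1 hvz h hvs.symm with h' | h'
    · exact hs1 h'
    · exact hsz h'
  push Not at hkey
  exact ⟨fun h => hkey.1 (conj_eq_one_iff.mp h), fun h => hkey.2 ((hL.conj_eq_z x _).mp h)⟩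

/-- the conjugates of two semisimple centralizers are disjoint unless the elements are
conjugate into each other's centralizer -/
theorem SL2Like.disjoint_semi (hL : SL2Like (G := G) p z) (s₁ s₂ : G)
    (h21 : s₂ ≠ 1) (h2z : s₂ ≠ z)
    (hnot : s₂ ∉ conjUnion2 (Subgroup.centralizer ({s₁} : Set G)) z) (w : G)
    (hw₁ : w ∈ conjUnion2 (Subgroup.centralizer ({s₁} : Set G)) z)
    (hw₂ : w ∈ conjUnion2 (Subgroup.centralizer ({s₂} : Set G)) z) : False := by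
  obtain ⟨x, v₁, hv₁, hv₁1, hv₁z, rfl⟩ := hw₁
  obtain ⟨y, v₂, hv₂, hv₂1, hv₂z, hxy⟩ := hw₂
  apply hnot
  rw [mem_cent_iff] at hv₁ hv₂
  -- `c = y⁻¹ x` conjugates `v₁` to `v₂`
  have hc : (y⁻¹ * x) * v₁ * (y⁻¹ * x)⁻¹ = v₂ := by
    have : (y⁻¹ * x) * v₁ * (y⁻¹ * x)⁻¹ = y⁻¹ * (x * v₁ * x⁻¹) * y := by group
    rw [this, ← hxy]; group
  have h1 : ((y⁻¹ * x)⁻¹ * s₂ * (y⁻¹ * x)) * v₁ = v₁ * ((y⁻¹ * x)⁻¹ * s₂ * (y⁻¹ * x)) := by
    have e1 : ((y⁻¹ * x)⁻¹ * s₂ * (y⁻¹ * x)) * v₁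
        = (y⁻¹ * x)⁻¹ * (s₂ * ((y⁻¹ * x) * v₁ * (y⁻¹ * x)⁻¹)) * (y⁻¹ * x) := by group
    have e2 : v₁ * ((y⁻¹ * x)⁻¹ * s₂ * (y⁻¹ * x))
        = (y⁻¹ * x)⁻¹ * (((y⁻¹ * x) * v₁ * (y⁻¹ * x)⁻¹) * s₂) * (y⁻¹ * x) := by group
    rw [e1, e2, hc, hv₂]
  have h2 : s₁ * ((y⁻¹ * x)⁻¹ * s₂ * (y⁻¹ * x)) = ((y⁻¹ * x)⁻¹ * s₂ * (y⁻¹ * x)) * s₁ :=
    hL.H1 v₁ s₁ _ hv₁1 hv₁z hv₁.symm h1.symm
  refine ⟨y⁻¹ * x, (y⁻¹ * x)⁻¹ * s₂ * (y⁻¹ * x), (mem_cent_iff _ _).mpr h2, ?_, ?_, by group⟩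
  · intro h
    apply h21
    have : s₂ = (y⁻¹ * x) * ((y⁻¹ * x)⁻¹ * s₂ * (y⁻¹ * x)) * (y⁻¹ * x)⁻¹ := by group
    rw [this, h]; group
  · intro h
    apply h2z
    have : s₂ = (y⁻¹ * x) * ((y⁻¹ * x)⁻¹ * s₂ * (y⁻¹ * x)) * (y⁻¹ * x)⁻¹ := by group
    rw [this, h]
    exact (hL.conj_eq_z _ z).mpr rfl

end

end Cfsg.Agent.Lib.Helper17
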