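import Cfsg.Agent.Lib.Helper17.CACount

set_option autoImplicit false
set_option maxHeartbeats 1000000

/-!
Counting conjugates of the non-central elements of a subgroup that is a trivial-intersection
set modulo a central subgroup of order two.
-/

namespace Cfsg.Agent.Lib.Helper17

section CountConj2

variable {G : Type*} [Group G]

/-- the set of elements conjugate to an element of `X` other than `1` and `z` -/
def conjUnion2 (X : Subgroup G) (z : G) : Set G :=
  {v | ∃ g : G, ∃ u ∈ X, u ≠ 1 ∧ u ≠ z ∧ g * u * g⁻¹ = v}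

theorem card_conjUnion2 [Finite G] (X N : Subgroup G) (z : G) (hz1 : z ≠ 1) (hzX : z ∈ X)
    (hzc : ∀ g : G, g * z = z * g)
    (hN : ∀ x ∈ N, ∀ u ∈ X, x⁻¹ * u * x ∈ X)
    (hTI : ∀ x : G, ∀ u ∈ X, u ≠ 1 → u ≠ z → x * u * x⁻¹ ∈ X → x ∈ N) :
    Nat.card N * (conjUnion2 X z).ncard = Nat.card G * (Nat.card X - 2) := by
  classical
  have := Fintype.ofFinite G
  obtain ⟨X', hX'⟩ : ∃ X' : Finset G,
      X' = Finset.univ.filter (fun u => u ∈ X ∧ u ≠ 1 ∧ u ≠ z) := ⟨_, rfl⟩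
  obtain ⟨s, hs⟩ : ∃ s : Finset (G × G), s = Finset.univ ×ˢ X' := ⟨_, rfl⟩
  obtain ⟨t, ht⟩ : ∃ t : Finset G, t = Finset.univ.filter (fun v => v ∈ conjUnion2 X z) :=
    ⟨_, rfl⟩
  obtain ⟨f, hf⟩ : ∃ f : G × G → G, f = fun q => q.1 * q.2 * q.1⁻¹ := ⟨_, rfl⟩
  have hmemX' : ∀ u, u ∈ X' ↔ u ∈ X ∧ u ≠ 1 ∧ u ≠ z := by
    intro u; rw [hX']; simp
  have hmems : ∀ q : G × G, q ∈ s ↔ q.2 ∈ X ∧ q.2 ≠ 1 ∧ q.2 ≠ z := by
    intro q; rw [hs, Finset.mem_product, hmemX']; simp
  have hmemt : ∀ v, v ∈ t ↔ v ∈ conjUnion2 X z := by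
    intro v; rw [ht]; simp
  have hmaps : ∀ q ∈ s, f q ∈ t := by
    intro q hq
    rw [hmemt, hf]
    exact ⟨q.1, q.2, ((hmems q).mp hq).1, ((hmems q).mp hq).2.1, ((hmems q).mp hq).2.2, rfl⟩
  have h1 := Finset.card_eq_sum_card_fiberwise hmaps
  have hfib : ∀ v ∈ t, (s.filter (fun q => f q = v)).card = Nat.card N := by
    intro v hv
    obtain ⟨g₀, u₀, hu₀, hu₀1, hu₀z, rfl⟩ := (hmemt v).mp hv
    have : Fintype N := Fintype.ofFinite N
    have himg : s.filter (fun q => f q = g₀ * u₀ * g₀⁻¹) =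
        (Finset.univ : Finset N).image (fun x : N => (g₀ * (x : G), (x : G)⁻¹ * u₀ * (x : G))) := by
      ext q
      rw [Finset.mem_filter, hmems, Finset.mem_image]
      constructor
      · rintro ⟨⟨hq2, hq1, hqz⟩, hfq⟩
        rw [hf] at hfq
        have hfq' : q.1 * q.2 * q.1⁻¹ = g₀ * u₀ * g₀⁻¹ := hfq
        have e1 : (g₀⁻¹ * q.1) * q.2 * (g₀⁻¹ * q.1)⁻¹ = u₀ := by
          have : (g₀⁻¹ * q.1) * q.2 * (g₀⁻¹ * q.1)⁻¹ = g₀⁻¹ * (q.1 * q.2 * q.1⁻¹) * g₀ := by group
          rw [this, hfq']; group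
        have hxN : g₀⁻¹ * q.1 ∈ N := hTI _ q.2 hq2 hq1 hqz (by rw [e1]; exact hu₀)
        refine ⟨⟨g₀⁻¹ * q.1, hxN⟩, Finset.mem_univ _, ?_⟩
        apply Prod.ext
        · show g₀ * (g₀⁻¹ * q.1) = q.1
          group
        · show (g₀⁻¹ * q.1)⁻¹ * u₀ * (g₀⁻¹ * q.1) = q.2
          rw [← e1]; group
      · rintro ⟨x, -, rfl⟩
        refine ⟨⟨hN x x.2 u₀ hu₀, ?_, ?_⟩, ?_⟩
        · intro h
          apply hu₀1
          have h' : (x : G)⁻¹ * u₀ * (x : G) = 1 := h
          have : u₀ = (x : G) * ((x : G)⁻¹ * u₀ * (x : G)) * (x : G)⁻¹ := by group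
          rw [this, h']; group
        · intro h
          apply hu₀z
          have h' : (x : G)⁻¹ * u₀ * (x : G) = z := h
          have : u₀ = (x : G) * ((x : G)⁻¹ * u₀ * (x : G)) * (x : G)⁻¹ := by group
          rw [this, h', hzc, mul_assoc, mul_inv_cancel, mul_one]
        · rw [hf]
          show g₀ * (x : G) * ((x : G)⁻¹ * u₀ * (x : G)) * (g₀ * (x : G))⁻¹ = g₀ * u₀ * g₀⁻¹
          group
    rw [himg, Finset.card_image_of_injective, Finset.card_univ, Nat.card_eq_fintype_card]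
    intro x y hxy
    have h2 : g₀ * (x : G) = g₀ * (y : G) := congrArg Prod.fst hxy
    exact Subtype.ext (mul_left_cancel h2)
  rw [Finset.sum_congr rfl hfib, Finset.sum_const, smul_eq_mul] at h1
  have hscard : s.card = Nat.card G * (Nat.card X - 2) := by
    rw [hs, Finset.card_product, Finset.card_univ, Nat.card_eq_fintype_card]
    congr 1
    have h3 : (Finset.univ.filter (fun u : G => u ∈ X)).card = Nat.card X := by
      rw [Nat.card_eq_fintype_card, Fintype.card_subtype]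
    have h4 : X' = ((Finset.univ.filter (fun u : G => u ∈ X)).erase 1).erase z := by
      ext u
      rw [hmemX', Finset.mem_erase, Finset.mem_erase, Finset.mem_filter]
      simp only [Finset.mem_univ, true_and]
      tauto
    rw [h4, Finset.card_erase_of_mem, Finset.card_erase_of_mem (by simp [X.one_mem]), h3]
    · omega
    · rw [Finset.mem_erase, Finset.mem_filter]
      exact ⟨hz1, Finset.mem_univ _, hzX⟩
  have htcard : t.card = (conjUnion2 X z).ncard := by
    rw [Set.ncard_eq_toFinset_card', ht]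
    congr 1
    ext v
    simp
  rw [hscard, htcard] at h1
  rw [h1, mul_comm]

end CountConj2

end Cfsg.Agent.Lib.Helper17
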