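import Cfsg.Agent.Lib.Helper17.CETorus
import Cfsg.Agent.Lib.Helper17.CEArith

set_option autoImplicit false
set_option maxHeartbeats 2000000
set_option linter.unusedVariables false
set_option linter.unusedSimpArgs false
set_option linter.style.haveILetI false

/-!
The class equation for minimal non-`p`-closed `SL2Like` groups.
-/

namespace Cfsg.Agent.Lib.Helper17

theorem exists_notMem_of_ncard_lt {α : Type*} [Finite α] (S : Set α)
    (h : S.ncard < Nat.card α) : ∃ g, g ∉ S := by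
  by_contra hcon
  push Not at hcon
  have h1 : S = Set.univ := Set.eq_univ_of_forall hcon
  rw [h1, Set.ncard_univ] at h
  exact lt_irrefl _ h

theorem ncard_union_disj {α : Type*} [Finite α] (S T : Set α) (h : ∀ w ∈ T, w ∉ S) :
    (S ∪ T).ncard = S.ncard + T.ncard := by
  apply Set.ncard_union_eq _ (Set.toFinite _) (Set.toFinite _)
  rw [Set.disjoint_left]
  intro w hw hw'
  exact h w hw' hw

section

variable {G : Type*} [Group G] {p : ℕ} {z : G}

/-- centralizers of non-central elements have even order at least four -/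
theorem SL2Like.card_cent [Finite G] (hL : SL2Like (G := G) p z) (s : G) (hs1 : s ≠ 1)
    (hsz : s ≠ z) :
    ∃ d : ℕ, 2 ≤ d ∧ Nat.card (Subgroup.centralizer ({s} : Set G)) = 2 * d := by
  obtain ⟨T, hT⟩ : ∃ T : Subgroup G, T = Subgroup.centralizer ({s} : Set G) := ⟨_, rfl⟩
  rw [← hT]
  have hsT : s ∈ T := by rw [hT]; exact (mem_cent_iff s s).mpr rfl
  have hzT : z ∈ T := by rw [hT]; exact hL.z_mem s
  have hz_ord : orderOf (⟨z, hzT⟩ : T) = 2 := by
    apply orderOf_eq_prime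
    · apply Subtype.ext
      rw [Subgroup.coe_pow, pow_two]
      exact hL.hz2
    · intro h
      exact hL.hz1 (congrArg Subtype.val h)
  have h2 : 2 ∣ Nat.card T := by rw [← hz_ord]; exact orderOf_dvd_natCard _
  obtain ⟨d, hd⟩ := h2
  refine ⟨d, ?_, hd⟩
  have h3 : 3 ≤ Nat.card T := by
    have hsub : ({1, z, s} : Set G) ⊆ (T : Set G) := by
      intro x hx
      rcases hx with rfl | rfl | rfl
      · exact T.one_mem
      · exact hzT
      · exact hsT
    have hc : ({1, z, s} : Set G).ncard = 3 := by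
      rw [Set.ncard_insert_of_notMem, Set.ncard_pair hsz.symm]
      intro h
      rcases h with h | h
      · exact hL.hz1 h.symm
      · exact hs1 h.symm
    have h4 := Set.ncard_le_ncard hsub (Set.toFinite _)
    rw [hc] at h4
    have h5 : Nat.card T = (T : Set G).ncard := Nat.card_coe_set_eq (T : Set G)
    rw [h5]
    exact h4
  omega

/-- the normalizer of the centralizer of an element of order `p` is not too large -/
theorem SL2Like.card_normalizer_le [Finite G] (hL : SL2Like (G := G) p z) (hodd : Odd p)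
    (u₁ : G) (hu₁ : u₁ ≠ 1) (h₁ : u₁ ^ p = 1) :
    2 * Nat.card (Subgroup.normalizer
        ((Subgroup.centralizer ({u₁} : Set G) : Subgroup G) : Set G)) ≤
      Nat.card (Subgroup.centralizer ({u₁} : Set G)) *
        (Nat.card (Subgroup.centralizer ({u₁} : Set G)) - 2) := by
  classical
  have := Fintype.ofFinite G
  have hzp := hL.z_pow hodd
  obtain ⟨C, hC⟩ : ∃ C : Subgroup G, C = Subgroup.centralizer ({u₁} : Set G) := ⟨_, rfl⟩
  obtain ⟨N, hN⟩ : ∃ N : Subgroup G, N = Subgroup.normalizer ((C : Subgroup G) : Set G) :=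
    ⟨_, rfl⟩
  rw [← hC, ← hN]
  have hmC : ∀ h, h ∈ C ↔ u₁ * h = h * u₁ := by intro h; rw [hC]; exact mem_cent_iff u₁ h
  have hu₁C : u₁ ∈ C := (hmC u₁).mpr rfl
  have hzC : z ∈ C := (hmC z).mpr (hL.hzc u₁)
  obtain ⟨Cf, hCf⟩ : ∃ Cf : Finset G, Cf = Finset.univ.filter (fun v => v ∈ C) := ⟨_, rfl⟩
  obtain ⟨Nf, hNf⟩ : ∃ Nf : Finset G, Nf = Finset.univ.filter (fun v => v ∈ N) := ⟨_, rfl⟩
  obtain ⟨Y, hY⟩ : ∃ Y : Finset G,
      Y = Finset.univ.filter (fun v => v ∈ C ∧ v ^ p = 1 ∧ v ≠ 1) := ⟨_, rfl⟩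
  have hCfcard : Cf.card = Nat.card C := by
    rw [hCf, Nat.card_eq_fintype_card, Fintype.card_subtype]
  have hNfcard : Nf.card = Nat.card N := by
    rw [hNf, Nat.card_eq_fintype_card, Fintype.card_subtype]
  have hmCf : ∀ v, v ∈ Cf ↔ v ∈ C := by intro v; rw [hCf]; simp
  have hmNf : ∀ v, v ∈ Nf ↔ v ∈ N := by intro v; rw [hNf]; simp
  have hmY : ∀ v, v ∈ Y ↔ v ∈ C ∧ v ^ p = 1 ∧ v ≠ 1 := by intro v; rw [hY]; simp
  obtain ⟨f, hf⟩ : ∃ f : G → G, f = fun n => n * u₁ * n⁻¹ := ⟨_, rfl⟩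
  have hfY : ∀ n ∈ Nf, f n ∈ Y := by
    intro n hn
    rw [hmNf, hN] at hn
    rw [hmY, hf]
    refine ⟨(Subgroup.mem_normalizer_iff.mp hn u₁).mp hu₁C, ?_, ?_⟩
    · show (n * u₁ * n⁻¹) ^ p = 1
      rw [conj_pow, h₁]; group
    · exact fun h => hu₁ (conj_eq_one_iff.mp h)
  have hfib : ∀ y ∈ Nf.image f, (Nf.filter (fun x => f x = y)).card ≤ Cf.card := by
    intro y hy
    obtain ⟨n₀, hn₀, rfl⟩ := Finset.mem_image.mp hy
    apply Finset.card_le_card_of_injOn (fun n => n₀⁻¹ * n)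
    · intro n hn
      have hn' := (Finset.mem_filter.mp hn).2
      rw [hf] at hn'
      have hn'' : n * u₁ * n⁻¹ = n₀ * u₁ * n₀⁻¹ := hn'
      show n₀⁻¹ * n ∈ Cf
      rw [hmCf, hmC]
      have e1 : u₁ * (n₀⁻¹ * n) = n₀⁻¹ * (n₀ * u₁ * n₀⁻¹) * n := by group
      rw [e1, ← hn'']; group
    · intro n _ n' _ h
      exact mul_left_cancel h
  have h1 := Finset.card_le_mul_card_image Nf Cf.card hfib
  have h2 : (Nf.image f).card ≤ Y.card := by
    apply Finset.card_le_card
    intro y hy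
    obtain ⟨n, hn, rfl⟩ := Finset.mem_image.mp hy
    exact hfY n hn
  -- `Y` and `z Y` are disjoint subsets of `C \ {1, z}`
  have hYz : ∀ v ∈ Y, v ≠ z := by
    intro v hv h
    rw [hmY] at hv
    rw [h, hzp] at hv
    exact hL.hz1 hv.2.1
  have h3 : 2 * Y.card + 2 ≤ Cf.card := by
    have hsub : Y ∪ Y.image (fun v => z * v) ⊆ (Cf.erase 1).erase z := by
      intro v hv
      rw [Finset.mem_erase, Finset.mem_erase, hmCf]
      rcases Finset.mem_union.mp hv with hv | hv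
      · exact ⟨hYz v hv, ((hmY v).mp hv).2.2, ((hmY v).mp hv).1⟩
      · obtain ⟨v', hv', rfl⟩ := Finset.mem_image.mp hv
        have hv'' := (hmY v').mp hv'
        refine ⟨?_, ?_, C.mul_mem hzC hv''.1⟩
        · intro h
          exact hv''.2.2 (mul_left_cancel (a := z) (by rw [h, mul_one]))
        · intro h
          apply hYz v' hv'
          have : v' = z * (z * v') := by rw [← mul_assoc, hL.hz2, one_mul]
          rw [this, h, mul_one]
    have hdisj : Disjoint Y (Y.image (fun v => z * v)) := by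
      rw [Finset.disjoint_left]
      intro v hv hv2
      obtain ⟨v', hv', rfl⟩ := Finset.mem_image.mp hv2
      have hv'' := (hmY v').mp hv'
      have h4 := ((hmY _).mp hv).2.1
      have hc : Commute z v' := (hL.hzc v').symm
      rw [hc.mul_pow, hzp, hv''.2.1, mul_one] at h4
      exact hL.hz1 h4
    have h4 := Finset.card_le_card hsub
    rw [Finset.card_union_of_disjoint hdisj,
      Finset.card_image_of_injective _ (fun a b h => mul_left_cancel h)] at h4
    have h5 : ((Cf.erase 1).erase z).card = Cf.card - 2 := by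
      rw [Finset.card_erase_of_mem, Finset.card_erase_of_mem]
      · omega
      · rw [hmCf]; exact C.one_mem
      · rw [Finset.mem_erase, hmCf]; exact ⟨hL.hz1, hzC⟩
    rw [h5] at h4
    have h6 : 2 ≤ Cf.card := by
      have h7 : ({1, z} : Finset G) ⊆ Cf := by
        intro v hv
        rw [hmCf]
        rcases Finset.mem_insert.mp hv with rfl | hv
        · exact C.one_mem
        · rw [Finset.mem_singleton] at hv; rw [hv]; exact hzC
      have h8 := Finset.card_le_card h7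
      rw [Finset.card_pair hL.hz1.symm] at h8
      exact h8
    omega
  rw [← hCfcard, ← hNfcard]
  have h4 : Nf.card ≤ Cf.card * Y.card := le_trans h1 (Nat.mul_le_mul_left _ h2)
  have h5 : 2 * Y.card ≤ Cf.card - 2 := by omega
  calc 2 * Nf.card ≤ 2 * (Cf.card * Y.card) := Nat.mul_le_mul_left _ h4
    _ = Cf.card * (2 * Y.card) := by ring
    _ ≤ Cf.card * (Cf.card - 2) := Nat.mul_le_mul_left _ h5


/-- The class equation: in a minimal non-`p`-closed `SL2Like` group, the normalizer of the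
centralizer `C` of an element of order `p` (where `C` has order `2q`) has index `q + 1`,
unless `q = 3`. -/
theorem ce_core [Finite G] [hp : Fact p.Prime] (hp2 : p ≠ 2) (hL : SL2Like (G := G) p z)
    (u₁ u₂ : G) (h₁ : u₁ ^ p = 1) (h₂ : u₂ ^ p = 1) (hne : u₁ * u₂ ≠ u₂ * u₁)
    (hmin : ∀ R : Subgroup G, R ≠ ⊤ → ∀ v w : G, v ∈ R → w ∈ R → v ^ p = 1 → w ^ p = 1 →
      v * w = w * v)
    (a : ℕ) (hC : Nat.card (Subgroup.centralizer ({u₁} : Set G)) = 2 * p ^ a)
    (hT : Nat.card (Subgroup.normalizer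
        ((Subgroup.centralizer ({u₁} : Set G) : Subgroup G) : Set G)) = 2 * p ^ a ∨
      ∃ m : G, m ^ p ≠ 1 ∧ m ^ p ≠ z ∧ Nat.card (Subgroup.normalizer
        ((Subgroup.centralizer ({u₁} : Set G) : Subgroup G) : Set G)) =
          p ^ a * Nat.card (Subgroup.centralizer ({m} : Set G))) :
    2 * Nat.card G = Nat.card (Subgroup.normalizer
        ((Subgroup.centralizer ({u₁} : Set G) : Subgroup G) : Set G)) * (2 * p ^ a + 2) ∨
      p ^ a = 3 := by
  classical
  have hodd : Odd p := hp.1.odd_of_ne_two hp2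
  have hzp := hL.z_pow hodd
  have hu₁1 : u₁ ≠ 1 := by rintro rfl; exact hne (by rw [one_mul, mul_one])
  have hu₂1 : u₂ ≠ 1 := by rintro rfl; exact hne (by rw [one_mul, mul_one])
  have hUz : ∀ u : G, u ^ p = 1 → u ≠ z := by
    rintro u hu rfl
    rw [hzp] at hu
    exact hL.hz1 hu
  have hu₁z := hUz u₁ h₁
  have hbound := hL.card_normalizer_le hodd u₁ hu₁1 h₁
  have hcount := hL.card_conj u₁ hu₁1 hu₁z
  obtain ⟨N₁, hN₁⟩ : ∃ N₁ : Subgroup G, N₁ = Subgroup.normalizer
      ((Subgroup.centralizer ({u₁} : Set G) : Subgroup G) : Set G) := ⟨_, rfl⟩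
  rw [← hN₁] at hT hbound hcount ⊢
  obtain ⟨U, hU⟩ : ∃ U : Set G, U = conjUnion2 (Subgroup.centralizer ({u₁} : Set G)) z :=
    ⟨_, rfl⟩
  rw [← hU, hC] at hcount
  rw [hC] at hbound
  have hu₁C : u₁ ∈ Subgroup.centralizer ({u₁} : Set G) := (mem_cent_iff u₁ u₁).mpr rfl
  have ha : a ≠ 0 := by
    rintro rfl
    have ho : orderOf (⟨u₁, hu₁C⟩ : Subgroup.centralizer ({u₁} : Set G)) = p :=
      orderOf_eq_prime (Subtype.ext (by rw [Subgroup.coe_pow, h₁]; rfl))
        (fun h => hu₁1 (congrArg Subtype.val h))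
    have hd : p ∣ Nat.card (Subgroup.centralizer ({u₁} : Set G)) := by
      rw [← ho]; exact orderOf_dvd_natCard _
    rw [hC, pow_zero, mul_one] at hd
    have h3 := Nat.le_of_dvd (by norm_num) hd
    have h4 := hp.1.two_le
    omega
  obtain ⟨q, hq⟩ : ∃ q, q = p ^ a := ⟨_, rfl⟩
  rw [← hq] at hT hbound hcount ⊢
  have hq3 : 3 ≤ q := by
    rw [hq]
    have h4 := hp.1.two_le
    calc 3 ≤ p := by omega
      _ = p ^ 1 := (pow_one p).symm
      _ ≤ p ^ a := Nat.pow_le_pow_right hp.1.pos (Nat.one_le_iff_ne_zero.mpr ha)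
  have hqodd : Odd q := by rw [hq]; exact hodd.pow
  obtain ⟨Q, rfl⟩ : ∃ Q, q = Q + 2 := ⟨q - 2, by omega⟩
  have hQ1 : 1 ≤ Q := by omega
  have e2q : 2 * (Q + 2) - 2 = 2 * Q + 2 := by omega
  rw [e2q] at hcount hbound
  -- index
  obtain ⟨n, hn⟩ := Subgroup.card_subgroup_dvd_card N₁
  have hνpos : 0 < Nat.card N₁ := Nat.card_pos
  have hn2 : 2 ≤ n := by
    by_contra hcon
    have hn1 : n = 1 := by
      rcases Nat.lt_or_ge n 1 with h | h
      · have h0 : n = 0 := by omega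
        rw [h0, mul_zero] at hn
        have : 0 < Nat.card G := Nat.card_pos
        omega
      · omega
    rw [hn1, mul_one] at hn
    have htop : N₁ = ⊤ := Subgroup.eq_top_of_card_eq N₁ hn.symm
    obtain ⟨g, v, hv, hv1, hvz, hgv⟩ :=
      hL.sing_conj hodd u₁ hu₁1 h₁ u₂ hu₂1 (hUz u₂ h₂) (Or.inl h₂)
    have hg : g ∈ N₁ := by rw [htop]; trivial
    rw [hN₁] at hg
    have h3 : g * v * g⁻¹ ∈ Subgroup.centralizer ({u₁} : Set G) :=
      (Subgroup.mem_normalizer_iff.mp hg v).mp hv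
    rw [hgv, mem_cent_iff] at h3
    exact hne h3
  have hUcard : U.ncard = n * (2 * Q + 2) := by
    rw [hn, mul_assoc] at hcount
    exact Nat.eq_of_mul_eq_mul_left hνpos hcount
  obtain ⟨Z₂, hZ₂⟩ : ∃ Z₂ : Set G, Z₂ = {1, z} := ⟨_, rfl⟩
  have hZ₂card : Z₂.ncard = 2 := by rw [hZ₂]; exact Set.ncard_pair hL.hz1.symm
  have hUsing : ∀ w ∈ U, w ^ p = 1 ∨ w ^ p = z := by
    intro w hw
    rw [hU] at hw
    exact hL.sing_of_mem u₁ hu₁1 hu₁z (Or.inl h₁) w hw
  have hUne : ∀ w ∈ U, w ≠ 1 ∧ w ≠ z := by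
    intro w hw
    rw [hU] at hw
    obtain ⟨x, v, hv, hv1, hvz, rfl⟩ := hw
    exact ⟨fun h => hv1 (conj_eq_one_iff.mp h), fun h => hvz ((hL.conj_eq_z x v).mp h)⟩
  have hS₁card : (Z₂ ∪ U).ncard = 2 + n * (2 * Q + 2) := by
    rw [ncard_union_disj, hZ₂card, hUcard]
    intro w hwU hw
    rw [hZ₂] at hw
    rcases hw with rfl | rfl
    · exact (hUne _ hwU).1 rfl
    · exact (hUne _ hwU).2 rfl
  have hsemi_of_not : ∀ s : G, s ∉ Z₂ ∪ U → s ^ p ≠ 1 ∧ s ^ p ≠ z := by
    intro s hs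
    have hs1 : s ≠ 1 := by
      rintro rfl
      exact hs (Or.inl (by rw [hZ₂]; simp))
    have hsz : s ≠ z := by
      rintro rfl
      exact hs (Or.inl (by rw [hZ₂]; simp))
    by_contra hcon
    apply hs
    right
    rw [hU]
    apply hL.sing_conj hodd u₁ hu₁1 h₁ s hs1 hsz
    by_contra h3
    push Not at h3
    exact hcon h3
  have hne_of_semi : ∀ s : G, s ^ p ≠ 1 → s ^ p ≠ z → s ≠ 1 ∧ s ≠ z := by
    intro s hs1 hsz
    exact ⟨by rintro rfl; exact hs1 (one_pow p), by rintro rfl; exact hsz hzp⟩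
  -- torus data for a semisimple element
  have htorus : ∀ s : G, s ^ p ≠ 1 → s ^ p ≠ z →
      ∃ d : ℕ, 2 ≤ d ∧ Nat.card (Subgroup.centralizer ({s} : Set G)) = 2 * d ∧
        2 * d * (conjUnion2 (Subgroup.centralizer ({s} : Set G)) z).ncard
          = Nat.card G * (d - 1) := by
    intro s hs1 hsz
    obtain ⟨hs1', hsz'⟩ := hne_of_semi s hs1 hsz
    obtain ⟨d, hd2, hd⟩ := hL.card_cent s hs1' hsz'
    refine ⟨d, hd2, hd, ?_⟩
    have hN := hL.card_normalizer_semi hodd u₁ u₂ h₁ h₂ hne hmin s hs1 hsz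
    have hc := hL.card_conj s hs1' hsz'
    rw [hN, hd] at hc
    have e : 2 * d - 2 = 2 * (d - 1) := by omega
    rw [e] at hc
    have h3 : 2 * (2 * d * (conjUnion2 (Subgroup.centralizer ({s} : Set G)) z).ncard)
        = 2 * (Nat.card G * (d - 1)) := by
      calc 2 * (2 * d * (conjUnion2 (Subgroup.centralizer ({s} : Set G)) z).ncard)
          = 2 * (2 * d) * (conjUnion2 (Subgroup.centralizer ({s} : Set G)) z).ncard := by ring
        _ = Nat.card G * (2 * (d - 1)) := hc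
        _ = 2 * (Nat.card G * (d - 1)) := by ring
    exact Nat.eq_of_mul_eq_mul_left (by norm_num) h3
  -- elements of a semisimple conjugate union avoid `Z₂ ∪ U`
  have havoid : ∀ s : G, s ^ p ≠ 1 → s ^ p ≠ z →
      ∀ w ∈ conjUnion2 (Subgroup.centralizer ({s} : Set G)) z, w ∉ Z₂ ∪ U := by
    intro s hs1 hsz w hw hwZU
    obtain ⟨hw1, hwz⟩ := hL.semi_of_mem s hs1 hsz w hw
    rcases hwZU with h | h
    · rw [hZ₂] at h
      rcases h with rfl | rfl
      · exact hw1 (one_pow p)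
      · exact hwz hzp
    · rcases hUsing w h with h' | h'
      · exact hw1 h'
      · exact hwz h'
  have hcardG : ∀ S : Set G, S.ncard ≤ Nat.card G := fun S => Set.ncard_le_card S
  rcases hT with hνA | ⟨m, hm1, hmz, hνB⟩
  · -- the normalizer is `C₁`
    right
    have hγ : Nat.card G = 2 * (Q + 2) * n := by rw [hn, hνA]
    have hlt : (Z₂ ∪ U).ncard < Nat.card G := by
      rw [hS₁card, hγ]
      have : 2 * (Q + 2) * n = n * (2 * Q + 2) + 2 * n := by ring
      omega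
    obtain ⟨s, hs⟩ := exists_notMem_of_ncard_lt _ hlt
    obtain ⟨hs1, hsz⟩ := hsemi_of_not s hs
    obtain ⟨d, hd2, hd, hE⟩ := htorus s hs1 hsz
    have hS₂ := ncard_union_disj (Z₂ ∪ U) _ (havoid s hs1 hsz)
    have hle := hcardG ((Z₂ ∪ U) ∪ conjUnion2 (Subgroup.centralizer ({s} : Set G)) z)
    rw [hS₂, hS₁card, hγ] at hle
    rw [hγ] at hE
    obtain ⟨X, hX⟩ : ∃ X, X = (conjUnion2 (Subgroup.centralizer ({s} : Set G)) z).ncard :=
      ⟨_, rfl⟩
    rw [← hX] at hle hE
    obtain ⟨d', rfl⟩ : ∃ d', d = d' + 2 := ⟨d - 2, by omega⟩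
    have e1 : d' + 2 - 1 = d' + 1 := by omega
    rw [e1] at hE
    -- `X ≤ 2n - 2`
    have hX2 : X + 2 ≤ 2 * n := by
      have : 2 * (Q + 2) * n = n * (2 * Q + 2) + 2 * n := by ring
      omega
    by_contra hcon
    have hQ2 : 2 ≤ Q := by omega
    have h5 : 2 * (d' + 2) * X < 2 * (d' + 2) * (2 * n) := by
      apply Nat.mul_lt_mul_of_pos_left (by omega) (by omega)
    have h6 : 2 * (d' + 2) * (2 * n) ≤ 2 * (Q + 2) * n * (d' + 1) := by
      have h7 : 8 * n * (d' + 1) ≤ 2 * (Q + 2) * n * (d' + 1) := by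
        apply Nat.mul_le_mul_right
        apply Nat.mul_le_mul_right
        omega
      have h8 : 2 * (d' + 2) * (2 * n) ≤ 8 * n * (d' + 1) := by
        have : d' + 2 ≤ 2 * (d' + 1) := by omega
        calc 2 * (d' + 2) * (2 * n) = 4 * n * (d' + 2) := by ring
          _ ≤ 4 * n * (2 * (d' + 1)) := Nat.mul_le_mul_left _ this
          _ = 8 * n * (d' + 1) := by ring
      exact le_trans h8 h7
    rw [hE] at h5
    exact absurd h6 (not_le.mpr h5)
  · -- the normalizer is larger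
    obtain ⟨d, hd2, hd, hE₁⟩ := htorus m hm1 hmz
    rw [hd] at hνB
    have hγ : Nat.card G = (Q + 2) * (2 * d) * n := by rw [hn, hνB]
    have hdq : d + 1 ≤ Q + 2 := by
      rw [hνB] at hbound
      have h3 : (Q + 2) * (4 * d) ≤ (Q + 2) * (2 * (2 * Q + 2)) := by
        calc (Q + 2) * (4 * d) = 2 * ((Q + 2) * (2 * d)) := by ring
          _ ≤ 2 * (Q + 2) * (2 * Q + 2) := hbound
          _ = (Q + 2) * (2 * (2 * Q + 2)) := by ring
      have h4 := Nat.le_of_mul_le_mul_left h3 (by omega)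
      omega
    obtain ⟨X₁, hX₁⟩ : ∃ X₁, X₁ = (conjUnion2 (Subgroup.centralizer ({m} : Set G)) z).ncard :=
      ⟨_, rfl⟩
    rw [← hX₁, hγ] at hE₁
    obtain ⟨d', rfl⟩ : ∃ d', d = d' + 2 := ⟨d - 2, by omega⟩
    have e1 : d' + 2 - 1 = d' + 1 := by omega
    rw [e1] at hE₁
    have hX₁' : X₁ = (Q + 2) * n * (d' + 1) := by
      have h3 : 2 * (d' + 2) * X₁ = 2 * (d' + 2) * ((Q + 2) * n * (d' + 1)) := by
        rw [hE₁]; ring
      exact Nat.eq_of_mul_eq_mul_left (by omega) h3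
    have hS₂ := ncard_union_disj (Z₂ ∪ U) _ (havoid m hm1 hmz)
    rw [hS₁card, ← hX₁, hX₁'] at hS₂
    have hlt : ((Z₂ ∪ U) ∪ conjUnion2 (Subgroup.centralizer ({m} : Set G)) z).ncard
        < Nat.card G := by
      rw [hS₂, hγ]
      have h3 : (Q + 2) * (2 * (d' + 2)) * n
          = (2 + n * (2 * Q + 2) + (Q + 2) * n * (d' + 1)) + ((Q + 2) * n * (d' + 1)
            + (n - 1) * 2) := by
        obtain ⟨n', rfl⟩ : ∃ n', n = n' + 1 := ⟨n - 1, by omega⟩
        simp only [Nat.add_sub_cancel]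
        ring
      have h4 : 0 < (Q + 2) * n * (d' + 1) := by positivity
      omega
    obtain ⟨s₂, hs₂⟩ := exists_notMem_of_ncard_lt _ hlt
    have hs₂ZU : s₂ ∉ Z₂ ∪ U := fun h => hs₂ (Or.inl h)
    have hs₂m : s₂ ∉ conjUnion2 (Subgroup.centralizer ({m} : Set G)) z := fun h => hs₂ (Or.inr h)
    obtain ⟨hs1, hsz⟩ := hsemi_of_not s₂ hs₂ZU
    obtain ⟨hs1', hsz'⟩ := hne_of_semi s₂ hs1 hsz
    obtain ⟨t, ht2, ht, hE₂⟩ := htorus s₂ hs1 hsz
    obtain ⟨X₂, hX₂⟩ : ∃ X₂, X₂ = (conjUnion2 (Subgroup.centralizer ({s₂} : Set G)) z).ncard :=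
      ⟨_, rfl⟩
    rw [← hX₂, hγ] at hE₂
    have hdisj₂ : ∀ w ∈ conjUnion2 (Subgroup.centralizer ({s₂} : Set G)) z,
        w ∉ (Z₂ ∪ U) ∪ conjUnion2 (Subgroup.centralizer ({m} : Set G)) z := by
      intro w hw hw'
      rcases hw' with h | h
      · exact havoid s₂ hs1 hsz w hw h
      · exact hL.disjoint_semi m s₂ hs1' hsz' hs₂m w h hw
    have hS₃ := ncard_union_disj _ _ hdisj₂
    rw [hS₂, ← hX₂] at hS₃
    have hle₃ := hcardG (((Z₂ ∪ U) ∪ conjUnion2 (Subgroup.centralizer ({m} : Set G)) z) ∪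
      conjUnion2 (Subgroup.centralizer ({s₂} : Set G)) z)
    rw [hS₃, hγ] at hle₃
    -- `4 X₂ ≥ |G|`
    obtain ⟨t', rfl⟩ : ∃ t', t = t' + 2 := ⟨t - 2, by omega⟩
    have e2 : t' + 2 - 1 = t' + 1 := by omega
    rw [e2] at hE₂
    have hX₂big : (Q + 2) * (2 * (d' + 2)) * n ≤ 4 * X₂ := by
      have h3 : (t' + 2) * ((Q + 2) * (2 * (d' + 2)) * n) ≤ (t' + 2) * (4 * X₂) := by
        calc (t' + 2) * ((Q + 2) * (2 * (d' + 2)) * n)
            ≤ (2 * (t' + 1)) * ((Q + 2) * (2 * (d' + 2)) * n) :=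
              Nat.mul_le_mul_right _ (by omega)
          _ = 2 * ((Q + 2) * (2 * (d' + 2)) * n * (t' + 1)) := by ring
          _ = 2 * (2 * (t' + 2) * X₂) := by rw [hE₂]
          _ = (t' + 2) * (4 * X₂) := by ring
      exact Nat.le_of_mul_le_mul_left h3 (by omega)
    -- equality in the count
    have heq : 2 + n * (2 * Q + 2) + (Q + 2) * n * (d' + 1) + X₂
        = (Q + 2) * (2 * (d' + 2)) * n := by
      by_contra hcon
      have hlt₃ : (((Z₂ ∪ U) ∪ conjUnion2 (Subgroup.centralizer ({m} : Set G)) z) ∪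
          conjUnion2 (Subgroup.centralizer ({s₂} : Set G)) z).ncard < Nat.card G := by
        rw [hS₃, hγ]
        omega
      obtain ⟨s₃, hs₃⟩ := exists_notMem_of_ncard_lt _ hlt₃
      have hs₃ZU : s₃ ∉ Z₂ ∪ U := fun h => hs₃ (Or.inl (Or.inl h))
      have hs₃m : s₃ ∉ conjUnion2 (Subgroup.centralizer ({m} : Set G)) z :=
        fun h => hs₃ (Or.inl (Or.inr h))
      have hs₃s : s₃ ∉ conjUnion2 (Subgroup.centralizer ({s₂} : Set G)) z :=
        fun h => hs₃ (Or.inr h)
      obtain ⟨h31, h3z⟩ := hsemi_of_not s₃ hs₃ZU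
      obtain ⟨h31', h3z'⟩ := hne_of_semi s₃ h31 h3z
      obtain ⟨e, he2, he, hE₃⟩ := htorus s₃ h31 h3z
      obtain ⟨X₃, hX₃⟩ : ∃ X₃,
          X₃ = (conjUnion2 (Subgroup.centralizer ({s₃} : Set G)) z).ncard := ⟨_, rfl⟩
      rw [← hX₃, hγ] at hE₃
      have hdisj₃ : ∀ w ∈ conjUnion2 (Subgroup.centralizer ({s₃} : Set G)) z,
          w ∉ ((Z₂ ∪ U) ∪ conjUnion2 (Subgroup.centralizer ({m} : Set G)) z) ∪
            conjUnion2 (Subgroup.centralizer ({s₂} : Set G)) z := by
        intro w hw hw'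
        rcases hw' with (h | h) | h
        · exact havoid s₃ h31 h3z w hw h
        · exact hL.disjoint_semi m s₃ h31' h3z' hs₃m w h hw
        · exact hL.disjoint_semi s₂ s₃ h31' h3z' hs₃s w h hw
      have hS₄ := ncard_union_disj _ _ hdisj₃
      rw [hS₃, ← hX₃] at hS₄
      have hle₄ := hcardG ((((Z₂ ∪ U) ∪ conjUnion2 (Subgroup.centralizer ({m} : Set G)) z) ∪
        conjUnion2 (Subgroup.centralizer ({s₂} : Set G)) z) ∪
          conjUnion2 (Subgroup.centralizer ({s₃} : Set G)) z)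
      rw [hS₄, hγ] at hle₄
      obtain ⟨e', rfl⟩ : ∃ e', e = e' + 2 := ⟨e - 2, by omega⟩
      have e3 : e' + 2 - 1 = e' + 1 := by omega
      rw [e3] at hE₃
      have hX₃big : (Q + 2) * (2 * (d' + 2)) * n ≤ 4 * X₃ := by
        have h3 : (e' + 2) * ((Q + 2) * (2 * (d' + 2)) * n) ≤ (e' + 2) * (4 * X₃) := by
          calc (e' + 2) * ((Q + 2) * (2 * (d' + 2)) * n)
              ≤ (2 * (e' + 1)) * ((Q + 2) * (2 * (d' + 2)) * n) :=
                Nat.mul_le_mul_right _ (by omega)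
            _ = 2 * ((Q + 2) * (2 * (d' + 2)) * n * (e' + 1)) := by ring
            _ = 2 * (2 * (e' + 2) * X₃) := by rw [hE₃]
            _ = (e' + 2) * (4 * X₃) := by ring
        exact Nat.le_of_mul_le_mul_left h3 (by omega)
      -- contradiction
      have h5 : (Q + 2) * (2 * (d' + 2)) * n
          = 2 * ((Q + 2) * n * (d' + 1)) + 2 * (Q + 2) * n := by ring
      have h6 : 2 * (Q + 2) * n = n * (2 * Q + 2) + 2 * n := by ring
      have h7 : 2 * n ≤ n * (2 * Q + 2) := by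
        calc 2 * n = n * 2 := by ring
          _ ≤ n * (2 * Q + 2) := Nat.mul_le_mul_left _ (by omega)
      omega
    -- the arithmetic
    have hcop : Nat.Coprime (t' + 2) (Q + 2) := by
      have hpt : ¬ p ∣ Nat.card (Subgroup.centralizer ({s₂} : Set G)) := by
        intro hdvd
        obtain ⟨v, hv⟩ := exists_prime_orderOf_dvd_card' p hdvd
        have hvp : (v : G) ^ p = 1 := by
          have h3 : v ^ p = 1 := by rw [← hv]; exact pow_orderOf_eq_one v
          exact congrArg Subtype.val h3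
        have hv1 : (v : G) ≠ 1 := by
          intro h
          have h3 : v = 1 := Subtype.ext h
          rw [h3, orderOf_one] at hv
          exact hp.1.one_lt.ne hv
        have h4 := hL.semi_of_mem s₂ hs1 hsz (v : G)
          ⟨1, (v : G), v.2, hv1, hUz _ hvp, by group⟩
        exact h4.1 hvp
      rw [ht] at hpt
      have h3 : Nat.Coprime (t' + 2) p := by
        rw [Nat.coprime_comm, hp.1.coprime_iff_not_dvd]
        intro h
        exact hpt (Dvd.dvd.mul_left h 2)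
      rw [hq]
      exact Nat.Coprime.pow_right a h3
    have harith : n * (Q + 2) * (d' + 2) = (t' + 2) * (n * (Q + 2 - 2) + 2) := by
      rw [Nat.add_sub_cancel]
      have h3 : (t' + 2) * X₂ = (Q + 2) * (d' + 2) * n * (t' + 1) := by
        have h4 : 2 * ((t' + 2) * X₂) = 2 * ((Q + 2) * (d' + 2) * n * (t' + 1)) := by
          calc 2 * ((t' + 2) * X₂) = 2 * (t' + 2) * X₂ := by ring
            _ = (Q + 2) * (2 * (d' + 2)) * n * (t' + 1) := hE₂
            _ = 2 * ((Q + 2) * (d' + 2) * n * (t' + 1)) := by ring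
        exact Nat.eq_of_mul_eq_mul_left (by norm_num) h4
      zify at heq h3 ⊢
      have hX : (X₂ : ℤ) = (Q + 2) * (2 * (d' + 2)) * n - 2 - n * (2 * Q + 2)
          - (Q + 2) * n * (d' + 1) := by linarith
      rw [hX] at h3
      linarith
    rcases ce_arith (Q + 2) (d' + 2) n (t' + 2) hq3 hqodd hd2 hdq hn2 ht2 hcop harith with h | h
    · left
      rw [hn, h]
      ring
    · right
      exact h

end

end Cfsg.Agent.Lib.Helper17
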