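import Cfsg.Agent.Lib.Helper17.CECore

set_option autoImplicit false
set_option maxHeartbeats 1000000
set_option linter.unusedVariables false
set_option linter.unusedSimpArgs false
set_option linter.style.haveILetI false

/-!
Sylow and transfer arguments for the class equation of `SL2Like` groups.
-/

namespace Cfsg.Agent.Lib.Helper17

open scoped Pointwise

section

variable {G : Type*} [Group G] {p : ℕ} {z : G}

theorem SL2Like.z_pow_pow (hL : SL2Like (G := G) p z) (hodd : Odd p) (k : ℕ) : z ^ p ^ k = z := by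
  induction k with
  | zero => rw [pow_zero, pow_one]
  | succ k ih => rw [pow_succ, pow_mul, ih, hL.z_pow hodd]

/-- every singular element is conjugate into the centralizer of a given element of order `p` -/
theorem SL2Like.sing_conj [Finite G] [hp : Fact p.Prime] (hL : SL2Like (G := G) p z)
    (hodd : Odd p) (u₁ : G) (hu₁ : u₁ ≠ 1) (h₁ : u₁ ^ p = 1) (w : G) (hw1 : w ≠ 1) (hwz : w ≠ z)
    (hw : w ^ p = 1 ∨ w ^ p = z) :
    w ∈ conjUnion2 (Subgroup.centralizer ({u₁} : Set G)) z := by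
  have hzp := hL.z_pow hodd
  have hUz : ∀ u : G, u ^ p = 1 → u ≠ z := by
    rintro u hu rfl
    rw [hzp] at hu
    exact hL.hz1 hu
  have key : ∀ v : G, v ^ p = 1 → v ≠ 1 →
      v ∈ conjUnion2 (Subgroup.centralizer ({u₁} : Set G)) z := by
    intro v hv hv1
    have hpg : ∀ u : G, u ^ p = 1 → IsPGroup p (Subgroup.zpowers u) := by
      intro u hu
      rintro ⟨w, hw⟩
      obtain ⟨k, rfl⟩ := Subgroup.mem_zpowers_iff.mp hw
      refine ⟨1, Subtype.ext ?_⟩
      show (u ^ k) ^ p ^ 1 = 1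
      rw [pow_one, ← zpow_natCast, ← zpow_mul, mul_comm, zpow_mul, zpow_natCast, hu, one_zpow]
    obtain ⟨S, hS⟩ := (hpg u₁ h₁).exists_le_sylow
    have hu₁S : u₁ ∈ (S : Subgroup G) := hS (Subgroup.mem_zpowers u₁)
    have hSC : ∀ h ∈ (S : Subgroup G), u₁ * h = h * u₁ := by
      have hnt : Nontrivial (S : Subgroup G) :=
        ⟨⟨⟨u₁, hu₁S⟩, 1, fun h => hu₁ (congrArg Subtype.val h)⟩⟩
      have hcn := IsPGroup.center_nontrivial S.isPGroup'
      obtain ⟨c, hc⟩ := exists_ne (1 : Subgroup.center (S : Subgroup G))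
      have hc1 : ((c : (S : Subgroup G)) : G) ≠ 1 := by
        intro h
        apply hc
        apply Subtype.ext
        apply Subtype.ext
        exact h
      have hcc : ∀ w : G, w ∈ (S : Subgroup G) → ((c : (S : Subgroup G)) : G) * w =
          w * ((c : (S : Subgroup G)) : G) := by
        intro w hw
        have h3 := Subgroup.mem_center_iff.mp c.2 ⟨w, hw⟩
        have h4 := congrArg Subtype.val h3
        exact h4.symm
      have hcz : ((c : (S : Subgroup G)) : G) ≠ z := by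
        intro h
        obtain ⟨k, hk⟩ := S.isPGroup' (c : (S : Subgroup G))
        have hk' : ((c : (S : Subgroup G)) : G) ^ p ^ k = 1 := by
          have h5 := congrArg Subtype.val hk
          rw [Subgroup.coe_pow, Subgroup.coe_one] at h5
          exact h5
        rw [h, hL.z_pow_pow hodd] at hk'
        exact hL.hz1 hk'
      intro h hh
      exact hL.H1 _ u₁ h hc1 hcz (hcc u₁ hu₁S) (hcc h hh)
    obtain ⟨S', hS'⟩ := (hpg v hv).exists_le_sylow
    obtain ⟨g, hg⟩ := MulAction.exists_smul_eq G S S'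
    have hv' : v ∈ (S' : Subgroup G) := hS' (Subgroup.mem_zpowers v)
    rw [← hg, Sylow.smul_def, Sylow.pointwise_smul_def,
      Subgroup.mem_pointwise_smul_iff_inv_smul_mem] at hv'
    have e : (MulAut.conj g)⁻¹ • v = g⁻¹ * v * g := by
      rw [← map_inv, MulAut.smul_def, MulAut.conj_apply, inv_inv]
    rw [e] at hv'
    refine ⟨g, g⁻¹ * v * g, (mem_cent_iff _ _).mpr (hSC _ hv'), ?_, ?_, by group⟩
    · intro h
      apply hv1
      have : v = g * (g⁻¹ * v * g) * g⁻¹ := by group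
      rw [this, h]; group
    · apply hUz
      have : g⁻¹ * v * g = g⁻¹ * v * g⁻¹⁻¹ := by rw [inv_inv]
      rw [this, conj_pow, hv]; group
  rcases hw with hw | hw
  · exact key w hw hw1
  · have hzw : (z * w) ^ p = 1 := by
      have hc : Commute z w := (hL.hzc w).symm
      rw [hc.mul_pow, hzp, hw, hL.hz2]
    have hzw1 : z * w ≠ 1 := by
      intro h
      apply hwz
      have : w = z * (z * w) := by rw [← mul_assoc, hL.hz2, one_mul]
      rw [this, h, mul_one]
    obtain ⟨g, v, hv, hv1, hvz, hgv⟩ := key (z * w) hzw hzw1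
    refine ⟨g, z * v, Subgroup.mul_mem _ (hL.z_mem u₁) hv, ?_, ?_, ?_⟩
    · intro h
      apply hvz
      have : v = z * (z * v) := by rw [← mul_assoc, hL.hz2, one_mul]
      rw [this, h, mul_one]
    · intro h
      apply hv1
      exact mul_left_cancel (a := z) (by rw [h, mul_one])
    · have : g * (z * v) * g⁻¹ = z * (g * v * g⁻¹) := by
        rw [← mul_assoc g z v, hL.hzc g, mul_assoc z, mul_assoc z]
      rw [this, hgv, ← mul_assoc, hL.hz2, one_mul]


/-- a nontrivial element of prime power order outside the center, in a subgroup that is not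
contained in `{1, z}` -/
theorem exists_prime_pow_elem [Finite G] (T : Subgroup G) (z : G) (hzT : z ∈ T)
    (hz1 : z ≠ 1) (hz2 : z * z = 1) (s : G) (hsT : s ∈ T) (hs1 : s ≠ 1) (hsz : s ≠ z) :
    ∃ r : ℕ, r.Prime ∧ ∃ s' ∈ T, s' ≠ 1 ∧ s' ≠ z ∧ ∃ k : ℕ, s' ^ r ^ k = 1 := by
  have hTpos : 0 < Nat.card T := Nat.card_pos
  obtain ⟨k, m, hm, hkm⟩ := Nat.exists_eq_two_pow_mul_odd (n := Nat.card T) hTpos.ne'
  by_cases hm1 : m = 1
  · refine ⟨2, Nat.prime_two, s, hsT, hs1, hsz, k, ?_⟩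
    have h1 : (⟨s, hsT⟩ : T) ^ Nat.card T = 1 := pow_card_eq_one'
    rw [hkm, hm1, mul_one] at h1
    exact congrArg Subtype.val h1
  · have hr : m.minFac.Prime := Nat.minFac_prime hm1
    have hrm : m.minFac ∣ m := Nat.minFac_dvd m
    have hr2 : m.minFac ≠ 2 := by
      intro h
      rw [h] at hrm
      exact (Nat.not_even_iff_odd.mpr hm) (even_iff_two_dvd.mpr hrm)
    have hrT : m.minFac ∣ Nat.card T := by rw [hkm]; exact Dvd.dvd.mul_left hrm _
    haveI : Fact m.minFac.Prime := ⟨hr⟩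
    obtain ⟨v, hv⟩ := exists_prime_orderOf_dvd_card' m.minFac hrT
    refine ⟨m.minFac, hr, (v : G), v.2, ?_, ?_, 1, ?_⟩
    · intro h
      have : v = 1 := Subtype.ext h
      rw [this, orderOf_one] at hv
      exact hr.one_lt.ne hv
    · intro h
      have h2 : v ^ 2 = 1 := by
        apply Subtype.ext
        rw [Subgroup.coe_pow, h, pow_two, hz2]; rfl
      have h3 : orderOf v ∣ 2 := orderOf_dvd_of_pow_eq_one h2
      rw [hv] at h3
      rcases (Nat.dvd_prime Nat.prime_two).mp h3 with h4 | h4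
      · exact hr.one_lt.ne' h4
      · exact hr2 h4
    · rw [pow_one]
      have h2 : v ^ m.minFac = 1 := by rw [← hv]; exact pow_orderOf_eq_one v
      exact congrArg Subtype.val h2

/-- the centralizer of a semisimple element is not self-normalizing in a minimal group -/
theorem SL2Like.normalizer_not_le [Finite G] [hp : Fact p.Prime] (hL : SL2Like (G := G) p z)
    (hodd : Odd p) (u₁ u₂ : G) (h₁ : u₁ ^ p = 1) (h₂ : u₂ ^ p = 1) (hne : u₁ * u₂ ≠ u₂ * u₁)
    (hmin : ∀ R : Subgroup G, R ≠ ⊤ → ∀ v w : G, v ∈ R → w ∈ R → v ^ p = 1 → w ^ p = 1 →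
      v * w = w * v)
    (s : G) (hs1 : s ^ p ≠ 1) (hsz : s ^ p ≠ z) :
    ¬ (Subgroup.normalizer ((Subgroup.centralizer ({s} : Set G) : Subgroup G) : Set G) ≤
      Subgroup.centralizer ({s} : Set G)) := by
  classical
  intro hNT
  have hzp := hL.z_pow hodd
  have hs_ne1 : s ≠ 1 := by rintro rfl; exact hs1 (one_pow p)
  have hs_nez : s ≠ z := by rintro rfl; exact hsz hzp
  obtain ⟨T, hT⟩ : ∃ T : Subgroup G, T = Subgroup.centralizer ({s} : Set G) := ⟨_, rfl⟩
  rw [← hT] at hNT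
  have hmT : ∀ h, h ∈ T ↔ s * h = h * s := by intro h; rw [hT]; exact mem_cent_iff s h
  have hsT : s ∈ T := (hmT s).mpr rfl
  have hzT : z ∈ T := (hmT z).mpr (hL.hzc s)
  have hTc : ∀ h ∈ T, ∀ k ∈ T, h * k = k * h := fun h hh k hk =>
    hL.H1 s h k hs_ne1 hs_nez ((hmT h).mp hh) ((hmT k).mp hk)
  have hTsemi : ∀ v ∈ T, v ≠ 1 → v ≠ z → v ^ p ≠ 1 ∧ v ^ p ≠ z := by
    intro v hv hv1 hvz
    exact hL.semi_of_mem s hs1 hsz v ⟨1, v, by rw [← hT]; exact hv, hv1, hvz, by group⟩
  have hTI : ∀ x v : G, v ∈ T → v ≠ 1 → v ≠ z → x * v * x⁻¹ ∈ T → x ∈ T := by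
    intro x v hv hv1 hvz hxv
    apply hNT
    rw [hT]
    exact hL.mem_normalizer s hs_ne1 hs_nez x v ((hmT v).mp hv) hv1 hvz ((hmT _).mp hxv)
  obtain ⟨r, hr, s', hs'T, hs'1, hs'z, k, hs'k⟩ :=
    exists_prime_pow_elem T z hzT hL.hz1 hL.hz2 s hsT hs_ne1 hs_nez
  haveI : Fact r.Prime := ⟨hr⟩
  -- `r ≠ p`
  have hrp : r ≠ p := by
    rintro rfl
    have hall : ∀ k : ℕ, ∀ v ∈ T, v ^ r ^ k = 1 → v = 1 ∨ v = z := by
      intro k
      induction k with
      | zero => intro v _ hv; left; rw [pow_zero, pow_one] at hv; exact hv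
      | succ k ih =>
        intro v hv hvk
        rw [pow_succ', pow_mul] at hvk
        by_contra hcon
        push Not at hcon
        have h5 := hTsemi v hv hcon.1 hcon.2
        rcases ih (v ^ r) (T.pow_mem hv r) hvk with h6 | h6
        · exact h5.1 h6
        · exact h5.2 h6
    rcases hall k s' hs'T hs'k with h | h
    · exact hs'1 h
    · exact hs'z h
  -- a Sylow subgroup containing `s'`
  have hpg : IsPGroup r (Subgroup.zpowers s') := by
    rintro ⟨w, hw⟩
    obtain ⟨j, rfl⟩ := Subgroup.mem_zpowers_iff.mp hw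
    refine ⟨k, Subtype.ext ?_⟩
    show (s' ^ j) ^ r ^ k = 1
    rw [← zpow_natCast, ← zpow_mul, mul_comm, zpow_mul, zpow_natCast, hs'k, one_zpow]
  obtain ⟨Q, hQ⟩ := hpg.exists_le_sylow
  have hs'Q : s' ∈ (Q : Subgroup G) := hQ (Subgroup.mem_zpowers s')
  -- `Q ≤ T`
  have hQT : (Q : Subgroup G) ≤ T := by
    by_contra hcon
    have hlt : T.subgroupOf (Q : Subgroup G) < ⊤ := by
      rw [lt_top_iff_ne_top]
      intro h
      apply hcon
      intro x hx
      have : (⟨x, hx⟩ : (Q : Subgroup G)) ∈ T.subgroupOf (Q : Subgroup G) := by rw [h]; trivial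
      exact Subgroup.mem_subgroupOf.mp this
    haveI : Group.IsNilpotent (Q : Subgroup G) := IsPGroup.isNilpotent Q.isPGroup'
    have hnc := Group.normalizerCondition_of_isNilpotent (G := (Q : Subgroup G)) _ hlt
    obtain ⟨x, hxN, hxT⟩ := SetLike.exists_of_lt hnc
    apply hxT
    rw [Subgroup.mem_subgroupOf]
    have h3 := (Subgroup.mem_normalizer_iff.mp hxN ⟨s', hs'Q⟩).mp
      (Subgroup.mem_subgroupOf.mpr hs'T)
    rw [Subgroup.mem_subgroupOf] at h3
    have h4 : (x : G) * s' * (x : G)⁻¹ ∈ T := h3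
    exact hTI (x : G) s' hs'T hs'1 hs'z h4
  have hNC : Subgroup.normalizer ((Q : Subgroup G) : Set G) ≤
      Subgroup.centralizer ((Q : Subgroup G) : Set G) := by
    intro x hx
    have h3 : x * s' * x⁻¹ ∈ (Q : Subgroup G) := (Subgroup.mem_normalizer_iff.mp hx s').mp hs'Q
    have hxT : x ∈ T := hTI x s' hs'T hs'1 hs'z (hQT h3)
    rw [Subgroup.mem_centralizer_iff]
    intro h hh
    exact hTc h (hQT hh) x hxT
  have hcompl := MonoidHom.ker_transferSylow_isComplement' Q hNC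
  have hcard := hcompl.card_mul_card
  have hKne : (MonoidHom.transferSylow Q hNC).ker ≠ ⊤ := by
    intro h
    rw [h, Subgroup.card_top] at hcard
    have hG : 0 < Nat.card G := Nat.card_pos
    have hQ1 : Nat.card (Q : Subgroup G) = 1 := by
      have : Nat.card G * Nat.card (Q : Subgroup G) = Nat.card G * 1 := by rw [hcard, mul_one]
      exact Nat.eq_of_mul_eq_mul_left hG this
    have h5 : (⟨s', hs'Q⟩ : (Q : Subgroup G)) = 1 := by
      haveI : Subsingleton (Q : Subgroup G) := (Nat.card_eq_one_iff_unique.mp hQ1).1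
      exact Subsingleton.elim _ _
    exact hs'1 (congrArg Subtype.val h5)
  have hUK : ∀ u : G, u ^ p = 1 → u ∈ (MonoidHom.transferSylow Q hNC).ker := by
    intro u hu
    rw [MonoidHom.mem_ker]
    have h5 : (MonoidHom.transferSylow Q hNC u) ^ p = 1 := by rw [← map_pow, hu, map_one]
    obtain ⟨j, hj⟩ := Q.isPGroup' (MonoidHom.transferSylow Q hNC u)
    have h6 : orderOf (MonoidHom.transferSylow Q hNC u) ∣ p := orderOf_dvd_of_pow_eq_one h5
    have h7 : orderOf (MonoidHom.transferSylow Q hNC u) ∣ r ^ j := orderOf_dvd_of_pow_eq_one hj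
    have hcop : Nat.Coprime p (r ^ j) :=
      Nat.Coprime.pow_right j ((Nat.coprime_primes hp.1 hr).mpr (Ne.symm hrp))
    exact orderOf_eq_one_iff.mp (Nat.eq_one_of_dvd_coprimes hcop h6 h7)
  exact hne (hmin _ hKne u₁ u₂ (hUK u₁ h₁) (hUK u₂ h₂) h₁ h₂)

/-- the normalizer of the centralizer of a semisimple element has twice its order -/
theorem SL2Like.card_normalizer_semi [Finite G] [hp : Fact p.Prime] (hL : SL2Like (G := G) p z)
    (hodd : Odd p) (u₁ u₂ : G) (h₁ : u₁ ^ p = 1) (h₂ : u₂ ^ p = 1) (hne : u₁ * u₂ ≠ u₂ * u₁)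
    (hmin : ∀ R : Subgroup G, R ≠ ⊤ → ∀ v w : G, v ∈ R → w ∈ R → v ^ p = 1 → w ^ p = 1 →
      v * w = w * v)
    (s : G) (hs1 : s ^ p ≠ 1) (hsz : s ^ p ≠ z) :
    Nat.card (Subgroup.normalizer ((Subgroup.centralizer ({s} : Set G) : Subgroup G) : Set G)) =
      2 * Nat.card (Subgroup.centralizer ({s} : Set G)) := by
  classical
  have hnot := hL.normalizer_not_le hodd u₁ u₂ h₁ h₂ hne hmin s hs1 hsz
  obtain ⟨T, hT⟩ : ∃ T : Subgroup G, T = Subgroup.centralizer ({s} : Set G) := ⟨_, rfl⟩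
  rw [← hT] at hnot ⊢
  obtain ⟨NT, hNT⟩ : ∃ NT : Subgroup G, NT = Subgroup.normalizer ((T : Subgroup G) : Set G) :=
    ⟨_, rfl⟩
  rw [← hNT] at hnot ⊢
  have hmT : ∀ h, h ∈ T ↔ s * h = h * s := by intro h; rw [hT]; exact mem_cent_iff s h
  have hsT : s ∈ T := (hmT s).mpr rfl
  have hle : T ≤ NT := by rw [hNT]; exact Subgroup.le_normalizer
  obtain ⟨n₀, hn₀N, hn₀T⟩ := SetLike.not_le_iff_exists.mp hnot
  have hconj : ∀ n ∈ NT, n * s * n⁻¹ = s ∨ n * s * n⁻¹ = s⁻¹ := by
    intro n hn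
    rw [hNT] at hn
    have h3 : n * s * n⁻¹ ∈ T := (Subgroup.mem_normalizer_iff.mp hn s).mp hsT
    exact hL.H3 s n hs1 hsz ((hmT _).mp h3).symm
  have hmemT : ∀ n : G, n * s * n⁻¹ = s → n ∈ T := by
    intro n hn
    rw [hmT]
    have : n * s = (n * s * n⁻¹) * n := by group
    rw [this, hn]
  have hn₀ : n₀ * s * n₀⁻¹ = s⁻¹ := by
    rcases hconj n₀ hn₀N with h | h
    · exact absurd (hmemT n₀ h) hn₀T
    · exact h
  have hn₀' : n₀⁻¹ * s * n₀ = s⁻¹ := by
    have : s = n₀⁻¹ * (n₀ * s * n₀⁻¹) * n₀ := by group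
    have h3 : s = n₀⁻¹ * s⁻¹ * n₀ := by rw [← hn₀]; exact this
    have h4 : s⁻¹ = (n₀⁻¹ * s⁻¹ * n₀)⁻¹ := by rw [← h3]
    rw [h4]; group
  have hidx : (T.subgroupOf NT).index = 2 := by
    rw [Subgroup.index_eq_two_iff]
    refine ⟨⟨n₀⁻¹, NT.inv_mem hn₀N⟩, ?_⟩
    intro b
    rw [Subgroup.mem_subgroupOf, Subgroup.mem_subgroupOf]
    by_cases hb : (b : G) ∈ T
    · right
      refine ⟨hb, ?_⟩
      intro h
      apply hn₀T
      have h5 : (b : G) * n₀⁻¹ ∈ T := h
      have h6 : n₀⁻¹ ∈ T := by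
        have := T.mul_mem (T.inv_mem hb) h5
        rwa [inv_mul_cancel_left] at this
      have := T.inv_mem h6
      rwa [inv_inv] at this
    · left
      refine ⟨?_, hb⟩
      have h5 : (b : G) * s * (b : G)⁻¹ = s⁻¹ := by
        rcases hconj b b.2 with h | h
        · exact absurd (hmemT _ h) hb
        · exact h
      show (b : G) * n₀⁻¹ ∈ T
      apply hmemT
      have e : ((b : G) * n₀⁻¹) * s * ((b : G) * n₀⁻¹)⁻¹ = (b : G) * (n₀⁻¹ * s * n₀) * (b : G)⁻¹ := by
        group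
      rw [e, hn₀']
      have e2 : (b : G) * s⁻¹ * (b : G)⁻¹ = ((b : G) * s * (b : G)⁻¹)⁻¹ := by group
      rw [e2, h5, inv_inv]
  have hcard := (T.subgroupOf NT).card_mul_index
  rw [hidx, Nat.card_congr (Subgroup.subgroupOfEquivOfLe hle).toEquiv] at hcard
  rw [← hcard, mul_comm]

end

end Cfsg.Agent.Lib.Helper17
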