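import Mathlib

set_option autoImplicit false

namespace Cfsg.Agent.Lib.Helper17

theorem cam_comm_iff {Q : Type*} [Group Q] (a b : Q) :
    a⁻¹ * b * a * b⁻¹ = 1 ↔ a * b = b * a := by
  constructor
  · intro h
    calc a * b = a * (a⁻¹ * b * a * b⁻¹) * b := by rw [h, mul_one]
      _ = b * a := by group
  · intro h
    calc a⁻¹ * b * a * b⁻¹ = a⁻¹ * (b * a) * b⁻¹ := by group
      _ = a⁻¹ * (a * b) * b⁻¹ := by rw [h]
      _ = 1 := by group

theorem cam_card_mul_relIndex {G : Type*} [Group G] {H K : Subgroup G} (h : H ≤ K) :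
    Nat.card H * H.relIndex K = Nat.card K := by
  rw [← Subgroup.relIndex_bot_left, Subgroup.relIndex_mul_relIndex _ _ _ bot_le h,
    Subgroup.relIndex_bot_left]

theorem cam_card_comap {G : Type*} [Group G] [Finite G] (N : Subgroup G) [N.Normal]
    (H : Subgroup (G ⧸ N)) :
    Nat.card (H.comap (QuotientGroup.mk' N)) = Nat.card N * Nat.card H := by
  have h1 : (H.comap (QuotientGroup.mk' N)).index = H.index :=
    Subgroup.index_comap_of_surjective H (QuotientGroup.mk'_surjective N)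
  have h2 := Subgroup.card_mul_index (H.comap (QuotientGroup.mk' N))
  have h3 := Subgroup.card_mul_index H
  have h4 := Subgroup.card_eq_card_quotient_mul_card_subgroup N
  have hpos : 0 < H.index := Nat.pos_of_ne_zero Subgroup.index_ne_zero_of_finite
  rw [h1] at h2
  have h5 : Nat.card (H.comap (QuotientGroup.mk' N)) * H.index =
      (Nat.card N * Nat.card H) * H.index := by
    rw [h2, h4, ← h3]
    ring
  exact Nat.eq_of_mul_eq_mul_right hpos h5

theorem cam_mem_comap {G : Type*} [Group G] (N : Subgroup G) [N.Normal] (u c : G) :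
    c ∈ (Subgroup.centralizer ({(QuotientGroup.mk u : G ⧸ N)} : Set (G ⧸ N))).comap
      (QuotientGroup.mk' N) ↔ u⁻¹ * c * u * c⁻¹ ∈ N := by
  rw [Subgroup.mem_comap, Subgroup.mem_centralizer_iff]
  constructor
  · intro h
    have h1 := h _ (Set.mem_singleton _)
    rw [← QuotientGroup.eq_one_iff, QuotientGroup.mk_mul, QuotientGroup.mk_mul,
      QuotientGroup.mk_mul, QuotientGroup.mk_inv, QuotientGroup.mk_inv]
    exact (cam_comm_iff _ _).mpr h1
  · intro h t ht
    rw [Set.mem_singleton_iff] at ht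
    rw [ht]
    rw [← QuotientGroup.eq_one_iff, QuotientGroup.mk_mul, QuotientGroup.mk_mul,
      QuotientGroup.mk_mul, QuotientGroup.mk_inv, QuotientGroup.mk_inv] at h
    exact (cam_comm_iff _ _).mp h

theorem cam_inj {G : Type*} [Group G] (X T : Subgroup G) (u : G)
    (hXT : ∀ d ∈ X, u⁻¹ * d * u * d⁻¹ ∈ T) :
    ∃ f : ↥X → ↥T × ↥(Subgroup.centralizer ({u} : Set G) ⊓ X),
      Function.Injective f ∧ ∀ d : ↥X, ((f d).1 : G) = u⁻¹ * (d : G) * u * (d : G)⁻¹ := by
  classical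
  obtain ⟨y, hydef⟩ : ∃ y : G → G, ∀ k : G,
      y k = if h : ∃ d ∈ X, u⁻¹ * d * u * d⁻¹ = k then h.choose else 1 := ⟨_, fun _ => rfl⟩
  have hy : ∀ d ∈ X, y (u⁻¹ * d * u * d⁻¹) ∈ X ∧
      u⁻¹ * y (u⁻¹ * d * u * d⁻¹) * u * (y (u⁻¹ * d * u * d⁻¹))⁻¹ = u⁻¹ * d * u * d⁻¹ := by
    intro d hd
    have h : ∃ e ∈ X, u⁻¹ * e * u * e⁻¹ = u⁻¹ * d * u * d⁻¹ := ⟨d, hd, rfl⟩
    have hyd : y (u⁻¹ * d * u * d⁻¹) = h.choose := by
      rw [hydef]
      exact dif_pos h
    rw [hyd]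
    exact h.choose_spec
  have hmem : ∀ d ∈ X, (y (u⁻¹ * d * u * d⁻¹))⁻¹ * d ∈
      Subgroup.centralizer ({u} : Set G) ⊓ X := by
    intro d hd
    obtain ⟨h1, h2⟩ := hy d hd
    refine Subgroup.mem_inf.mpr ⟨?_, X.mul_mem (X.inv_mem h1) hd⟩
    rw [Subgroup.mem_centralizer_iff]
    intro t ht
    rw [Set.mem_singleton_iff] at ht
    rw [ht]
    obtain ⟨e, he⟩ : ∃ e : G, e = y (u⁻¹ * d * u * d⁻¹) := ⟨_, rfl⟩
    rw [← he] at h2 ⊢
    have h3 : e * u * e⁻¹ = d * u * d⁻¹ := by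
      calc e * u * e⁻¹ = u * (u⁻¹ * e * u * e⁻¹) := by group
        _ = u * (u⁻¹ * d * u * d⁻¹) := by rw [h2]
        _ = d * u * d⁻¹ := by group
    calc u * (e⁻¹ * d) = e⁻¹ * (e * u * e⁻¹) * d := by group
      _ = e⁻¹ * (d * u * d⁻¹) * d := by rw [h3]
      _ = e⁻¹ * d * u := by group
  refine ⟨fun d => (⟨u⁻¹ * (d : G) * u * (d : G)⁻¹, hXT d d.2⟩,
    ⟨(y (u⁻¹ * (d : G) * u * (d : G)⁻¹))⁻¹ * (d : G), hmem d d.2⟩), ?_, fun d => rfl⟩
  intro d d' h
  have h1 : u⁻¹ * (d : G) * u * (d : G)⁻¹ = u⁻¹ * (d' : G) * u * (d' : G)⁻¹ :=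
    congrArg (fun p : ↥T × ↥(Subgroup.centralizer ({u} : Set G) ⊓ X) => ((p.1 : ↥T) : G)) h
  have h2 : (y (u⁻¹ * (d : G) * u * (d : G)⁻¹))⁻¹ * (d : G) =
      (y (u⁻¹ * (d' : G) * u * (d' : G)⁻¹))⁻¹ * (d' : G) :=
    congrArg (fun p : ↥T × ↥(Subgroup.centralizer ({u} : Set G) ⊓ X) =>
      ((p.2 : ↥(Subgroup.centralizer ({u} : Set G) ⊓ X)) : G)) h
  rw [h1] at h2
  exact Subtype.ext (mul_left_cancel h2)

theorem cam_conj_eq {G : Type*} [Group G] (u x z n : G) (hx : x * u * x⁻¹ = u * n)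
    (hz : u * z = z * u) : u⁻¹ * (x * z) * u * (x * z)⁻¹ = n := by
  calc u⁻¹ * (x * z) * u * (x * z)⁻¹
      = u⁻¹ * (x * (z * u) * z⁻¹ * x⁻¹) := by group
    _ = u⁻¹ * (x * (u * z) * z⁻¹ * x⁻¹) := by rw [hz]
    _ = u⁻¹ * (x * u * x⁻¹) := by group
    _ = u⁻¹ * (u * n) := by rw [hx]
    _ = n := by group

/-- In a Camina pair, the centralizer of an element outside `N` has the same order as the
centralizer of its image in the quotient. -/
theorem cam_card {G : Type*} [Group G] [Finite G] (N : Subgroup G) [N.Normal]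
    (hcam : ∀ g : G, g ∉ N → ∀ n ∈ N, ∃ x : G, x * g * x⁻¹ = g * n) (u : G) (hu : u ∉ N) :
    Nat.card (Subgroup.centralizer ({u} : Set G)) =
      Nat.card (Subgroup.centralizer ({(QuotientGroup.mk u : G ⧸ N)} : Set (G ⧸ N))) := by
  classical
  obtain ⟨H, hH⟩ : ∃ H : Subgroup (G ⧸ N),
      H = Subgroup.centralizer ({(QuotientGroup.mk u : G ⧸ N)} : Set (G ⧸ N)) := ⟨_, rfl⟩
  obtain ⟨Ct, hCt⟩ : ∃ Ct : Subgroup G, Ct = H.comap (QuotientGroup.mk' N) := ⟨_, rfl⟩
  have hCt_mem : ∀ c : G, c ∈ Ct ↔ u⁻¹ * c * u * c⁻¹ ∈ N := by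
    intro c
    rw [hCt, hH]
    exact cam_mem_comap N u c
  have hC_le : Subgroup.centralizer ({u} : Set G) ≤ Ct := by
    intro c hc
    rw [hCt_mem]
    have h1 : u * c = c * u := (Subgroup.mem_centralizer_iff.mp hc) u (Set.mem_singleton u)
    have h2 : u⁻¹ * c * u * c⁻¹ = 1 := (cam_comm_iff u c).mpr h1
    rw [h2]
    exact N.one_mem
  obtain ⟨f, hf, -⟩ := cam_inj Ct N u (fun d hd => (hCt_mem d).mp hd)
  have hle : Nat.card Ct ≤ Nat.card N * Nat.card (Subgroup.centralizer ({u} : Set G)) := by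
    have h1 := Nat.card_le_card_of_injective f hf
    rw [Nat.card_prod] at h1
    have h2 : Nat.card ↥(Subgroup.centralizer ({u} : Set G) ⊓ Ct) ≤
        Nat.card (Subgroup.centralizer ({u} : Set G)) := Subgroup.card_le_of_le inf_le_left
    exact h1.trans (Nat.mul_le_mul_left _ h2)
  have hge : Nat.card N * Nat.card (Subgroup.centralizer ({u} : Set G)) ≤ Nat.card Ct := by
    choose x hx using fun n : ↥N => hcam u hu n.1 n.2
    have hzc : ∀ z : ↥(Subgroup.centralizer ({u} : Set G)), u * (z : G) = (z : G) * u :=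
      fun z => (Subgroup.mem_centralizer_iff.mp z.2) u (Set.mem_singleton u)
    have e1 : ∀ (n : ↥N) (z : ↥(Subgroup.centralizer ({u} : Set G))),
        u⁻¹ * (x n * (z : G)) * u * (x n * (z : G))⁻¹ = (n : G) :=
      fun n z => cam_conj_eq u (x n) (z : G) (n : G) (hx n) (hzc z)
    have hmem : ∀ (n : ↥N) (z : ↥(Subgroup.centralizer ({u} : Set G))),
        x n * (z : G) ∈ Ct := by
      intro n z
      rw [hCt_mem, e1 n z]
      exact n.2
    have hinj : Function.Injective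
        (fun p : ↥N × ↥(Subgroup.centralizer ({u} : Set G)) =>
          (⟨x p.1 * (p.2 : G), hmem p.1 p.2⟩ : ↥Ct)) := by
      rintro ⟨n, z⟩ ⟨n', z'⟩ h
      have h0 : x n * (z : G) = x n' * (z' : G) := congrArg Subtype.val h
      have h2 : (n : G) = (n' : G) := by
        rw [← e1 n z, ← e1 n' z', h0]
      have h3 : n = n' := Subtype.ext h2
      subst h3
      have h4 : (z : G) = (z' : G) := mul_left_cancel h0
      rw [Subtype.ext h4]
    have h1 := Nat.card_le_card_of_injective _ hinj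
    rw [Nat.card_prod] at h1
    exact h1
  have hcomap := cam_card_comap N H
  rw [← hCt] at hcomap
  have h5 : Nat.card N * Nat.card (Subgroup.centralizer ({u} : Set G)) =
      Nat.card N * Nat.card H := by
    rw [← hcomap]
    exact le_antisymm hge hle
  rw [← hH]
  exact Nat.eq_of_mul_eq_mul_left Nat.card_pos h5

/-- In a Camina pair with a supplement `G1` of `N`: centralizers of elements of `G1` outside `N`
lie in `G1`, and `G1` is transitive on `u (N ∩ G1)` by conjugation. -/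
theorem cam_supp {G : Type*} [Group G] [Finite G] (N : Subgroup G) [N.Normal]
    (hcam : ∀ g : G, g ∉ N → ∀ n ∈ N, ∃ x : G, x * g * x⁻¹ = g * n)
    (G1 : Subgroup G) (hsup : G1 ⊔ N = ⊤) :
    (∀ u ∈ G1, u ∉ N → Subgroup.centralizer ({u} : Set G) ≤ G1) ∧
    (∀ u ∈ G1, u ∉ N → ∀ m ∈ N, m ∈ G1 → ∃ c ∈ G1, c * u * c⁻¹ = u * m) := by
  classical
  have core : ∀ u ∈ G1, u ∉ N → Subgroup.centralizer ({u} : Set G) ≤ G1 ∧
      ∀ m ∈ N, m ∈ G1 → ∃ c ∈ G1, c * u * c⁻¹ = u * m := by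
    intro u hu1 huN
    obtain ⟨H, hH⟩ : ∃ H : Subgroup (G ⧸ N),
        H = Subgroup.centralizer ({(QuotientGroup.mk u : G ⧸ N)} : Set (G ⧸ N)) := ⟨_, rfl⟩
    obtain ⟨Ct, hCt⟩ : ∃ Ct : Subgroup G, Ct = H.comap (QuotientGroup.mk' N) := ⟨_, rfl⟩
    have hCt_mem : ∀ c : G, c ∈ Ct ↔ u⁻¹ * c * u * c⁻¹ ∈ N := by
      intro c
      rw [hCt, hH]
      exact cam_mem_comap N u c
    have hN_le : N ≤ Ct := by
      intro n hn
      rw [hCt_mem]
      have h1 : u⁻¹ * n * u ∈ N := by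
        have h0 := (inferInstance : N.Normal).conj_mem n hn u⁻¹
        rw [inv_inv] at h0
        exact h0
      exact N.mul_mem h1 (N.inv_mem hn)
    have hcardCt : Nat.card Ct = Nat.card N * Nat.card (Subgroup.centralizer ({u} : Set G)) := by
      rw [hCt, cam_card_comap N H, hH, ← cam_card N hcam u huN]
    obtain ⟨D, hD⟩ : ∃ D : Subgroup G, D = Ct ⊓ G1 := ⟨_, rfl⟩
    obtain ⟨K, hK⟩ : ∃ K : Subgroup G, K = N ⊓ G1 := ⟨_, rfl⟩
    have hDN : D ⊔ N = Ct := by
      apply le_antisymm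
      · rw [hD]
        exact sup_le inf_le_left hN_le
      · intro c hc
        have hc' : c ∈ G1 ⊔ N := by
          rw [hsup]
          exact Subgroup.mem_top c
        obtain ⟨g, hg, n, hn, rfl⟩ := Subgroup.mem_sup_of_normal_right.mp hc'
        have hgC : g ∈ Ct := by
          have h0 := Ct.mul_mem hc (Ct.inv_mem (hN_le hn))
          rw [mul_inv_cancel_right] at h0
          exact h0
        exact Subgroup.mul_mem_sup (by rw [hD]; exact ⟨hgC, hg⟩) hn
    have hND : N ⊓ D = K := by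
      rw [hD, hK, ← inf_assoc, inf_eq_left.mpr hN_le]
    have hKD : K ≤ D := by
      rw [← hND]
      exact inf_le_right
    have hrel : N.relIndex Ct = K.relIndex D := by
      rw [← hDN, Subgroup.relIndex_sup_right, ← hND, Subgroup.inf_relIndex_right]
    have hc1 : Nat.card N * N.relIndex Ct = Nat.card Ct := cam_card_mul_relIndex hN_le
    have hc2 : Nat.card K * K.relIndex D = Nat.card D := cam_card_mul_relIndex hKD
    have hj : N.relIndex Ct = Nat.card (Subgroup.centralizer ({u} : Set G)) := by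
      rw [hcardCt] at hc1
      exact Nat.eq_of_mul_eq_mul_left Nat.card_pos hc1
    have hcardD : Nat.card D = Nat.card K * Nat.card (Subgroup.centralizer ({u} : Set G)) := by
      rw [← hc2, ← hrel, hj]
    have hDK : ∀ d ∈ D, u⁻¹ * d * u * d⁻¹ ∈ K := by
      intro d hd
      rw [hD] at hd
      rw [hK]
      exact ⟨(hCt_mem d).mp hd.1,
        G1.mul_mem (G1.mul_mem (G1.mul_mem (G1.inv_mem hu1) hd.2) hu1) (G1.inv_mem hd.2)⟩
    obtain ⟨f, hf, hf1⟩ := cam_inj D K u hDK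
    have hle1 : Nat.card D ≤ Nat.card K * Nat.card ↥(Subgroup.centralizer ({u} : Set G) ⊓ D) := by
      have h1 := Nat.card_le_card_of_injective f hf
      rw [Nat.card_prod] at h1
      exact h1
    have hle2 : Nat.card (Subgroup.centralizer ({u} : Set G)) ≤
        Nat.card ↥(Subgroup.centralizer ({u} : Set G) ⊓ D) := by
      rw [hcardD] at hle1
      exact Nat.le_of_mul_le_mul_left hle1 Nat.card_pos
    have heq : Subgroup.centralizer ({u} : Set G) ⊓ D = Subgroup.centralizer ({u} : Set G) :=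
      Subgroup.eq_of_le_of_card_ge inf_le_left hle2
    have hCD : Subgroup.centralizer ({u} : Set G) ≤ D := by
      rw [← heq]
      exact inf_le_right
    have hDG1 : D ≤ G1 := by
      rw [hD]
      exact inf_le_right
    refine ⟨hCD.trans hDG1, ?_⟩
    intro m hmN hmG1
    have hbij : Function.Bijective f := by
      apply hf.bijective_of_nat_card_le
      rw [Nat.card_prod, hcardD]
      exact Nat.mul_le_mul_left _ (Subgroup.card_le_of_le inf_le_left)
    obtain ⟨d, hd⟩ := hbij.2 (⟨m, by rw [hK]; exact ⟨hmN, hmG1⟩⟩, 1)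
    have h1 := hf1 d
    rw [hd] at h1
    refine ⟨(d : G), hDG1 d.2, ?_⟩
    have h2 : (m : G) = u⁻¹ * (d : G) * u * (d : G)⁻¹ := h1
    rw [h2]
    group
  exact ⟨fun u hu1 huN => (core u hu1 huN).1, fun u hu1 huN => (core u hu1 huN).2⟩

end Cfsg.Agent.Lib.Helper17
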