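import Cfsg.Agent.Lib.Helper18.Basic
import Cfsg.Agent.Lib.Helper17.PReduced

set_option autoImplicit false

namespace Cfsg.Agent.Lib.Helper17

open Cfsg
open scoped commutatorElement

section

variable {G : Type*} [Group G] {p : ℕ}

/-- coprime action on an abelian `p`-group: `[v, x] ∈ W` as soon as `[x^i, [v, x]] ∈ W` for all `i` -/
theorem comm_mem_of_coprime {V W : Subgroup G} (hVc : ∀ a ∈ V, ∀ b ∈ V, a * b = b * a)
    (hVp : IsPGroup p V) {x v : G} {m : ℕ} (hm : m.Coprime p) (hxm : x ^ m = 1)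
    (hxV : ∀ a ∈ V, x * a * x⁻¹ ∈ V) (hv : v ∈ V)
    (hW : ∀ i : ℕ, x ^ i * (v * x * v⁻¹ * x⁻¹) * (x ^ i)⁻¹ * (v * x * v⁻¹ * x⁻¹)⁻¹ ∈ W) :
    v * x * v⁻¹ * x⁻¹ ∈ W := by
  have ha : ∀ i : ℕ, x ^ i * v * (x ^ i)⁻¹ ∈ V := by
    intro i
    induction i with
    | zero => simpa using hv
    | succ n ih =>
      have h1 := hxV _ ih
      have h2 : x ^ (n + 1) * v * (x ^ (n + 1))⁻¹ = x * (x ^ n * v * (x ^ n)⁻¹) * x⁻¹ := by
        rw [pow_succ']; group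
      rw [h2]; exact h1
  have huV : v * x * v⁻¹ * x⁻¹ ∈ V := by
    have h1 : v * x * v⁻¹ * x⁻¹ = v * (x * v⁻¹ * x⁻¹) := by group
    rw [h1]
    exact V.mul_mem hv (hxV _ (V.inv_mem hv))
  have hconj : ∀ i : ℕ, x ^ i * (v * x * v⁻¹ * x⁻¹) * (x ^ i)⁻¹ =
      (x ^ i * v * (x ^ i)⁻¹) * (x ^ (i + 1) * v * (x ^ (i + 1))⁻¹)⁻¹ := by
    intro i
    rw [pow_succ]; group
  generalize hu : v * x * v⁻¹ * x⁻¹ = u at hW huV hconj ⊢
  have key : ∀ n : ℕ, v * (x ^ n * v * (x ^ n)⁻¹)⁻¹ * (u ^ n)⁻¹ ∈ W := by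
    intro n
    induction n with
    | zero => simp
    | succ n ih =>
      have h1 := hW n
      rw [hconj n] at h1
      have hanV : x ^ n * v * (x ^ n)⁻¹ ∈ V := ha n
      have han1V : x ^ (n + 1) * v * (x ^ (n + 1))⁻¹ ∈ V := ha (n + 1)
      generalize x ^ n * v * (x ^ n)⁻¹ = an at h1 hanV ih ⊢
      generalize x ^ (n + 1) * v * (x ^ (n + 1))⁻¹ = an1 at h1 han1V ⊢
      have hunV : (u ^ n)⁻¹ ∈ V := V.inv_mem (V.pow_mem huV n)
      have c1 : (u ^ n)⁻¹ * an = an * (u ^ n)⁻¹ := hVc _ hunV _ hanV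
      have c2 : (u ^ n)⁻¹ * (an1⁻¹ * u⁻¹) = (an1⁻¹ * u⁻¹) * (u ^ n)⁻¹ :=
        hVc _ hunV _ (V.mul_mem (V.inv_mem han1V) (V.inv_mem huV))
      have h2 : v * an1⁻¹ * (u ^ (n + 1))⁻¹ = (v * an⁻¹ * (u ^ n)⁻¹) * (an * an1⁻¹ * u⁻¹) := by
        calc v * an1⁻¹ * (u ^ (n + 1))⁻¹ = v * ((an1⁻¹ * u⁻¹) * (u ^ n)⁻¹) := by
              rw [pow_succ]; group
          _ = v * ((u ^ n)⁻¹ * (an1⁻¹ * u⁻¹)) := by rw [c2]
          _ = v * an⁻¹ * (an * (u ^ n)⁻¹) * (an1⁻¹ * u⁻¹) := by group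
          _ = v * an⁻¹ * ((u ^ n)⁻¹ * an) * (an1⁻¹ * u⁻¹) := by rw [c1]
          _ = _ := by group
      rw [h2]
      exact W.mul_mem ih h1
  have h3 := key m
  rw [hxm] at h3
  have h4 : u ^ m ∈ W := by
    have h5 : v * (1 * v * (1 : G)⁻¹)⁻¹ * (u ^ m)⁻¹ = (u ^ m)⁻¹ := by group
    rw [h5] at h3
    simpa using W.inv_mem h3
  obtain ⟨k, hk⟩ := Helper18.exists_pow_eq_one_of_mem hVp huV
  have h5 : orderOf u ∣ p ^ k := orderOf_dvd_of_pow_eq_one hk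
  have h6 : m.Coprime (orderOf u) := Nat.Coprime.coprime_dvd_right h5 (Nat.Coprime.pow_right k hm)
  obtain ⟨j, hj⟩ := exists_pow_eq_self_of_coprime h6
  rw [← hj]
  exact W.pow_mem h4 j

/-- `[V, O^p(K)] ≤ K` for a normal abelian `p`-subgroup `V` and a subnormal subgroup `K` -/
theorem commutator_pResOf_le_of_isSubnormal {V : Subgroup G} [hVn : V.Normal]
    (hVc : ∀ a ∈ V, ∀ b ∈ V, a * b = b * a) (hVp : IsPGroup p V) {K : Subgroup G}
    (hK : K.IsSubnormal) : ⁅V, Helper18.pResOf p K⁆ ≤ K := by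
  induction hK with
  | top => exact le_top
  | step H K h_le hSubn hN ih =>
    have hKH : K ≤ Subgroup.normalizer (H : Set G) :=
      (Subgroup.normal_subgroupOf_iff_le_normalizer h_le).mp hN
    let T : Subgroup G :=
      { carrier := {r | r ∈ H ∧ ∀ v ∈ V, v * r * v⁻¹ * r⁻¹ ∈ H}
        one_mem' := ⟨H.one_mem, fun v _ => by simp⟩
        mul_mem' := by
          rintro a b ⟨ha, ha'⟩ ⟨hb, hb'⟩
          refine ⟨H.mul_mem ha hb, fun v hv => ?_⟩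
          have h1 : v * (a * b) * v⁻¹ * (a * b)⁻¹ =
              (v * a * v⁻¹ * a⁻¹) * (a * (v * b * v⁻¹ * b⁻¹) * a⁻¹) := by group
          rw [h1]
          exact H.mul_mem (ha' v hv) (H.mul_mem (H.mul_mem ha (hb' v hv)) (H.inv_mem ha))
        inv_mem' := by
          rintro a ⟨ha, ha'⟩
          refine ⟨H.inv_mem ha, fun v hv => ?_⟩
          have h1 : v * a⁻¹ * v⁻¹ * a⁻¹⁻¹ = a⁻¹ * (v * a * v⁻¹ * a⁻¹)⁻¹ * a := by group
          rw [h1]
          exact H.mul_mem (H.mul_mem (H.inv_mem ha) (H.inv_mem (ha' v hv))) ha }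
    have hT : Helper18.pResOf p H ≤ T := by
      unfold Helper18.pResOf
      refine (Subgroup.closure_le T).mpr ?_
      rintro x ⟨hxH, hxc⟩
      refine ⟨hxH, fun v hv => ?_⟩
      have hu : v * x * v⁻¹ * x⁻¹ ∈ K := by
        apply ih
        have h0 : v * x * v⁻¹ * x⁻¹ = ⁅v, x⁆ := by rw [commutatorElement_def]
        rw [h0]
        exact Subgroup.commutator_mem_commutator hv
          (Helper18.pResOf_mono p h_le (Helper18.mem_pResOf hxH hxc))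
      apply comm_mem_of_coprime hVc hVp hxc (pow_orderOf_eq_one x)
        (fun a ha => hVn.conj_mem a ha x) hv
      intro i
      have h1 : (v * x * v⁻¹ * x⁻¹) * (x ^ i)⁻¹ * (v * x * v⁻¹ * x⁻¹)⁻¹ ∈ H :=
        (Subgroup.mem_normalizer_iff.mp (hKH hu) _).mp (H.inv_mem (H.pow_mem hxH i))
      have h2 : x ^ i * (v * x * v⁻¹ * x⁻¹) * (x ^ i)⁻¹ * (v * x * v⁻¹ * x⁻¹)⁻¹ =
          x ^ i * ((v * x * v⁻¹ * x⁻¹) * (x ^ i)⁻¹ * (v * x * v⁻¹ * x⁻¹)⁻¹) := by group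
      rw [h2]; exact H.mul_mem (H.pow_mem hxH i) h1
    rw [Subgroup.commutator_le]
    intro v hv r hr
    have h3 := (hT hr).2 v hv
    rwa [commutatorElement_def]

/-- `O_p(K) ≤ O_p(G)` for subnormal `K` -/
theorem pCoreOf_le_pCore_of_isSubnormal {K : Subgroup G} (hK : K.IsSubnormal) :
    pCoreOf p K ≤ pCore p G := by
  induction hK with
  | top => rw [Helper18.pCoreOf_top]
  | step H K h_le hSubn hN ih =>
    have hKH : K ≤ Subgroup.normalizer (H : Set G) :=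
      (Subgroup.normal_subgroupOf_iff_le_normalizer h_le).mp hN
    exact (Helper18.pCoreOf_le_pCoreOf_of_normal h_le hKH).trans ih

/-- if `O_p(G/N) = 1`, `K` is subnormal and `D ≤ K` is normalized by `K` and a `p`-group modulo `N`,
then `D ≤ N` -/
theorem le_of_subnormal_of_pCore_quot_eq_bot (N : Subgroup G) [N.Normal]
    (h : pCore p (G ⧸ N) = ⊥) {K : Subgroup G} (hK : K.IsSubnormal) (D : Subgroup G) (hDK : D ≤ K)
    (hKD : K ≤ Subgroup.normalizer (D : Set G)) (hDp : ∀ d ∈ D, ∃ k : ℕ, d ^ (p ^ k) ∈ N) :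
    D ≤ N := by
  have h2 : IsPGroup p (D.map (QuotientGroup.mk' N)) := by
    rintro ⟨y, hy⟩
    obtain ⟨d, hd, rfl⟩ := hy
    obtain ⟨k, hk⟩ := hDp d hd
    refine ⟨k, ?_⟩
    apply Subtype.ext
    show (QuotientGroup.mk' N d) ^ (p ^ k) = 1
    rw [← map_pow]
    exact (QuotientGroup.eq_one_iff _).mpr hk
  have h3 : D.map (QuotientGroup.mk' N) ≤ pCoreOf p (K.map (QuotientGroup.mk' N)) :=
    Helper18.le_pCoreOf (Subgroup.map_mono hDK)
      ((Subgroup.map_mono hKD).trans (Subgroup.le_normalizer_map _)) h2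
  have h4 := h3.trans (pCoreOf_le_pCore_of_isSubnormal (hK.map (QuotientGroup.mk'_surjective N)))
  rw [h] at h4
  intro d hd
  have h5 := h4 (Subgroup.mem_map_of_mem _ hd)
  rw [Subgroup.mem_bot] at h5
  exact (QuotientGroup.eq_one_iff d).mp h5

end

end Cfsg.Agent.Lib.Helper17
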