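import Mathlib
import Cfsg.Agent.Lib.Helper1.ThompsonCore
import Cfsg.Agent.Lib.Helper17.ThA3
import Cfsg.Agent.Lib.Helper17.ThA4

set_option autoImplicit false
set_option linter.style.haveILetI false

/-!
The core of Thompson's normal `p`-complement theorem for the abelian-version Thompson subgroup,
for `p` odd or in the absence of sections isomorphic to the symmetric group of degree four
(the reduction is adapted from `Lib/Helper1/ThompsonCore.lean`; the final step uses Thompson's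
replacement theorem and, for `p = 2`, the lemma `two_final`).
-/

namespace Cfsg.Agent.Lib.Helper17

open Cfsg
open Cfsg.Agent.Lib.Helper1
open scoped commutatorElement

universe u

variable {G : Type u} [Group G]

/-- A `p'`-element normalising an abelian `p`-group and centralising its elements of order
dividing `p` centralises it. -/
theorem centralizes_of_omega_abelian [Finite G] {p : ℕ} [Fact p.Prime] (Z : Subgroup G)
    (hZp : IsPGroup p Z) (hZc : ∀ a ∈ Z, ∀ b ∈ Z, a * b = b * a) (g : G)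
    (hgN : g ∈ Subgroup.normalizer (Z : Set G)) (hc : (orderOf g).Coprime p)
    (hΩ : ∀ a ∈ Z, a ^ p = 1 → a * g = g * a) : ∀ a ∈ Z, a * g = g * a := by
  have key : ∀ k : ℕ, ∀ a ∈ Z, a ^ (p ^ k) = 1 → a * g = g * a := by
    intro k
    induction k with
    | zero =>
      intro a _ ha
      rw [pow_zero, pow_one] at ha
      rw [ha, one_mul, mul_one]
    | succ k ih =>
      intro a ha hak
      have hb : (a ^ p) ^ (p ^ k) = 1 := by
        rw [← pow_mul, ← pow_succ']
        exact hak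
      have hbg : Commute (a ^ p) g := ih (a ^ p) (Z.pow_mem ha p) hb
      obtain ⟨c, hcdef⟩ : ∃ c, c = g * a * g⁻¹ * a⁻¹ := ⟨_, rfl⟩
      have hgag : g * a * g⁻¹ ∈ Z := ((Subgroup.mem_normalizer_iff.mp hgN) a).mp ha
      have hcZ : c ∈ Z := hcdef ▸ Z.mul_mem hgag (Z.inv_mem ha)
      have hcp : c ^ p = 1 := by
        have h1 : Commute (g * a * g⁻¹) a⁻¹ := hZc _ hgag _ (Z.inv_mem ha)
        rw [hcdef, h1.mul_pow, conj_pow, inv_pow]
        have h2 : g * a ^ p * g⁻¹ = a ^ p := by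
          rw [← hbg.eq, mul_inv_cancel_right]
        rw [h2, mul_inv_cancel]
      have hcg : Commute g c := (hΩ c hcZ hcp).symm
      have hca : c * a = g * a * g⁻¹ := by
        rw [hcdef]
        group
      have hpow : ∀ n : ℕ, g ^ n * a * (g ^ n)⁻¹ = c ^ n * a := by
        intro n
        induction n with
        | zero => simp
        | succ n ihn =>
          have hgc : g * c ^ n = c ^ n * g := (hcg.pow_right n).eq
          calc g ^ (n + 1) * a * (g ^ (n + 1))⁻¹ = g * (g ^ n * a * (g ^ n)⁻¹) * g⁻¹ := by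
                rw [pow_succ']
                group
            _ = g * (c ^ n * a) * g⁻¹ := by rw [ihn]
            _ = (g * c ^ n) * a * g⁻¹ := by group
            _ = (c ^ n * g) * a * g⁻¹ := by rw [hgc]
            _ = c ^ n * (g * a * g⁻¹) := by group
            _ = c ^ n * (c * a) := by rw [hca]
            _ = c ^ (n + 1) * a := by
              rw [pow_succ]
              group
      have h1 := hpow (orderOf g)
      rw [pow_orderOf_eq_one, one_mul, inv_one, mul_one] at h1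
      have hcn : c ^ orderOf g = 1 := by
        have : c ^ orderOf g * a = 1 * a := by rw [one_mul, ← h1]
        exact mul_right_cancel this
      have hc1 : c = 1 := by
        rw [← orderOf_eq_one_iff]
        have d1 : orderOf c ∣ orderOf g := orderOf_dvd_of_pow_eq_one hcn
        have d2 : orderOf c ∣ p := orderOf_dvd_of_pow_eq_one hcp
        have d3 := Nat.dvd_gcd d1 d2
        rw [Nat.Coprime] at hc
        rw [hc] at d3
        exact Nat.dvd_one.mp d3
      rw [hc1] at hca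
      rw [one_mul] at hca
      calc a * g = (g * a * g⁻¹) * g := by rw [← hca]
        _ = g * a := by group
  intro a ha
  obtain ⟨k, hk⟩ := hZp ⟨a, ha⟩
  exact key k a ha (congrArg Subtype.val hk)

set_option maxHeartbeats 1600000 in
theorem thompson_coreA [Finite G] {p : ℕ} [Fact p.Prime]
    (hS4 : p ≠ 2 ∨ ¬ Cfsg.Involves (Equiv.Perm (Fin 4)) G)
    (ih : ∀ L : Subgroup G, Nat.card L < Nat.card G → ThStmtA p L)
    (ihq : ∀ (N : Subgroup G) [N.Normal], N ≠ ⊥ → ThStmtA p (G ⧸ N))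
    (P : Sylow p G) (hyp : ThHypA p (P : Subgroup G)) (H : Subgroup G) [H.Normal]
    (hHp : IsPGroup p H) (hH1 : H ≠ ⊥)
    (hstar : ∀ K : Subgroup G, IsPGroup p K → Nat.card H < Nat.card K →
      (P : Subgroup G) ≤ Subgroup.normalizer (K : Set G) →
      FrobS p (Subgroup.normalizer (K : Set G))) :
    FrobCond p G := by
  have hp : p.Prime := Fact.out
  by_contra hcon
  have hHP : H ≤ (P : Subgroup G) := normal_pgroup_le_sylow inferInstance hHp P
  -- normal `p`-subgroups lie in `H`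
  have hss : ∀ S₁ : Subgroup G, S₁.Normal → IsPGroup p S₁ → S₁ ≤ H := by
    intro S₁ hS₁n hS₁p
    by_contra hnot
    haveI := hS₁n
    have hlt : H < S₁ ⊔ H := by
      refine lt_of_le_of_ne le_sup_right ?_
      intro h
      exact hnot (h ▸ le_sup_left)
    have hpg : IsPGroup p (S₁ ⊔ H : Subgroup G) := IsPGroup.to_sup_of_normal_right hS₁p hHp
    have h1 := hstar (S₁ ⊔ H) hpg (card_lt_of_lt hlt)
      (by rw [Subgroup.normalizer_eq_top]; exact le_top)
    rw [Subgroup.normalizer_eq_top, frobS_top_iff] at h1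
    exact hcon h1
  -- normal `p'`-subgroups are trivial
  have hO : ∀ O : Subgroup G, O.Normal → (Nat.card O).Coprime p → O = ⊥ := by
    intro O hOn hOc
    by_contra hne
    haveI := hOn
    apply hcon
    apply frobCond_of_quotient O hOc
    apply ihq O hne (P.mapSurjective (QuotientGroup.mk'_surjective O))
    rw [Sylow.coe_mapSurjective]
    exact hyp.quotient O hOc P.isPGroup'
  have hPH : (P : Subgroup G) ≠ H := by
    intro h
    have h1 : Subgroup.normalizer ((thompsonSubgroupAOf (P : Subgroup G) : Subgroup G) : Set G)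
        = ⊤ := by
      rw [eq_top_iff]
      refine le_trans ?_ (normalizer_le_normalizer_thompsonSubgroupAOf (P : Subgroup G))
      rw [h, Subgroup.normalizer_eq_top]
    have h2 := hyp.1
    rw [h1, frobS_top_iff] at h2
    exact hcon h2
  -- the quotient by `H`
  obtain ⟨π, hπdef⟩ : ∃ π : G →* G ⧸ H, π = QuotientGroup.mk' H := ⟨_, rfl⟩
  have hπs : Function.Surjective π := hπdef ▸ QuotientGroup.mk'_surjective H
  have hπker : ∀ g : G, π g = 1 ↔ g ∈ H := by
    intro g
    rw [hπdef]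
    exact QuotientGroup.eq_one_iff g
  have hcomap_ge : ∀ Xb : Subgroup (G ⧸ H), H ≤ Xb.comap π := by
    intro Xb h hh
    rw [Subgroup.mem_comap, (hπker h).mpr hh]
    exact Xb.one_mem
  have hcomap_bot : (⊥ : Subgroup (G ⧸ H)).comap π = H := by
    ext g
    rw [Subgroup.mem_comap, Subgroup.mem_bot, hπker]
  obtain ⟨Pb, hPbdef⟩ : ∃ Pb : Sylow p (G ⧸ H),
      (Pb : Subgroup (G ⧸ H)) = (P : Subgroup G).map π :=
    ⟨P.mapSurjective hπs, Sylow.coe_mapSurjective hπs P⟩
  have hcomapPb : (Pb : Subgroup (G ⧸ H)).comap π = P := by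
    rw [hPbdef, hπdef, QuotientGroup.comap_map_mk', sup_eq_right.mpr hHP]
  have hkey : ∀ Kb : Subgroup (G ⧸ H), Kb ≤ (Pb : Subgroup (G ⧸ H)) → Kb ≠ ⊥ →
      (Pb : Subgroup (G ⧸ H)) ≤ Subgroup.normalizer (Kb : Set (G ⧸ H)) →
      FrobS p (Subgroup.normalizer (Kb : Set (G ⧸ H))) := by
    intro Kb hKbP hKb1 hPbN
    obtain ⟨K, hKdef⟩ : ∃ K : Subgroup G, K = Kb.comap π := ⟨_, rfl⟩
    have hKP : K ≤ (P : Subgroup G) := by
      rw [hKdef, ← hcomapPb]
      exact Subgroup.comap_mono hKbP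
    have hHK : H ≤ K := hKdef ▸ hcomap_ge Kb
    have hKH : K ≠ H := by
      intro h
      apply hKb1
      rw [← Subgroup.map_comap_eq_self_of_surjective hπs Kb, ← hKdef, h, eq_bot_iff]
      rintro _ ⟨h, hh, rfl⟩
      exact Subgroup.mem_bot.mpr ((hπker h).mpr hh)
    have hlt : Nat.card H < Nat.card K := card_lt_of_lt (lt_of_le_of_ne hHK (Ne.symm hKH))
    have hNK : Subgroup.normalizer (K : Set G) =
        (Subgroup.normalizer (Kb : Set (G ⧸ H))).comap π := by
      rw [hKdef]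
      exact (Subgroup.comap_normalizer_eq_of_surjective Kb hπs).symm
    have hPN : (P : Subgroup G) ≤ Subgroup.normalizer (K : Set G) := by
      rw [hNK, ← hcomapPb]
      exact Subgroup.comap_mono hPbN
    have h1 := hstar K (P.isPGroup'.to_le hKP) hlt hPN
    have h2 := h1.map π
    rw [hNK, Subgroup.map_comap_eq_self_of_surjective hπs] at h2
    exact h2
  have hPb1 : (Pb : Subgroup (G ⧸ H)) ≠ ⊥ := by
    intro h
    apply hPH
    rw [← hcomapPb, h, hcomap_bot]
  have hPbp : IsPGroup p (Pb : Subgroup (G ⧸ H)) := Pb.isPGroup'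
  have hJb1 : thompsonSubgroupAOf (Pb : Subgroup (G ⧸ H)) ≠ ⊥ := thompsonSubgroupAOf_ne_bot hPb1
  have hZb1 : (Pb : Subgroup (G ⧸ H)) ⊓
      Subgroup.centralizer ((Pb : Subgroup (G ⧸ H)) : Set (G ⧸ H)) ≠ ⊥ := by
    haveI : Nontrivial (Pb : Subgroup (G ⧸ H)) := (Subgroup.nontrivial_iff_ne_bot _).mpr hPb1
    have h1 := hPbp.bot_lt_center
    obtain ⟨z, hz, hz1⟩ := SetLike.exists_of_lt h1
    intro h
    apply hz1
    have h2 : (z : G ⧸ H) ∈ (Pb : Subgroup (G ⧸ H)) ⊓
        Subgroup.centralizer ((Pb : Subgroup (G ⧸ H)) : Set (G ⧸ H)) := by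
      refine Subgroup.mem_inf.mpr ⟨z.2, ?_⟩
      rw [Subgroup.mem_centralizer_iff]
      intro y hy
      have := Subgroup.mem_center_iff.mp hz ⟨y, hy⟩
      exact congrArg Subtype.val this
    rw [h, Subgroup.mem_bot] at h2
    rw [Subgroup.mem_bot]
    exact Subtype.ext h2
  have hypb : ThHypA p (Pb : Subgroup (G ⧸ H)) := by
    constructor
    · apply hkey _ (thompsonSubgroupAOf_le _) hJb1
      exact (Subgroup.le_normalizer).trans (normalizer_le_normalizer_thompsonSubgroupAOf _)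
    · refine (hkey _ inf_le_left hZb1 ?_).mono (Subgroup.centralizer_le_normalizer _)
      intro g hg
      apply mem_normalizer_of_conj_mem
      intro x hx
      obtain ⟨hx1, hx2⟩ := Subgroup.mem_inf.mp hx
      refine Subgroup.mem_inf.mpr
        ⟨Subgroup.mul_mem _ (Subgroup.mul_mem _ hg hx1) (Subgroup.inv_mem _ hg), ?_⟩
      rw [Subgroup.mem_centralizer_iff] at hx2 ⊢
      intro y hy
      have h1 := hx2 g hg
      have h2 : g * x * g⁻¹ = x := by rw [h1, mul_inv_cancel_right]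
      rw [h2]
      exact hx2 y hy
  have hFb : FrobCond p (G ⧸ H) := ihq H hH1 Pb hypb
  obtain ⟨Kb, hKbn, hKbc, k, hKbi⟩ := frobCond_iff_npc.mp hFb
  haveI := hKbn
  obtain ⟨K, hKdef⟩ : ∃ K : Subgroup G, K = Kb.comap π := ⟨_, rfl⟩
  haveI hKn : K.Normal := hKdef ▸ hKbn.comap π
  have hHK : H ≤ K := hKdef ▸ hcomap_ge Kb
  have hKmem : ∀ x, x ∈ K ↔ π x ∈ Kb := by
    intro x
    rw [hKdef, Subgroup.mem_comap]
  have hKidx : K.index = p ^ k := by
    rw [hKdef, Subgroup.index_comap_of_surjective _ hπs]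
    exact hKbi
  obtain ⟨m, hmdef⟩ : ∃ m : ℕ, m = Nat.card Kb := ⟨_, rfl⟩
  have hm : m.Coprime p := hmdef ▸ hKbc
  have hKm : ∀ x ∈ K, x ^ m ∈ H := by
    intro x hx
    rw [← hπker, map_pow]
    rw [hKmem] at hx
    have : (⟨π x, hx⟩ : Kb) ^ m = 1 := by
      rw [hmdef]
      exact pow_card_eq_one'
    exact congrArg Subtype.val this
  have hpK : ∀ x ∈ K, (∃ j, x ^ p ^ j = 1) → x ∈ H := by
    rintro x hx ⟨j, hj⟩
    apply mem_of_pow_mem_of_coprime (hKm x hx)
    have h1 : orderOf x ∣ p ^ j := orderOf_dvd_of_pow_eq_one hj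
    exact Nat.Coprime.coprime_dvd_left h1 (Nat.Coprime.pow_left j hm.symm)
  have hpKs : ∀ S : Subgroup G, S ≤ K → IsPGroup p S → S ≤ H := by
    intro S hSK hSp x hx
    obtain ⟨j, hj⟩ := hSp ⟨x, hx⟩
    exact hpK x (hSK hx) ⟨j, congrArg Subtype.val hj⟩
  have hp'K : ∀ g : G, (orderOf g).Coprime p → g ∈ K := by
    intro g hg
    apply mem_of_pow_mem_of_coprime (n := p ^ k) _ (Nat.Coprime.pow_right k hg)
    rw [← hKidx]
    exact Subgroup.pow_index_mem K g
  have hKP : K ⊔ (P : Subgroup G) = ⊤ := by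
    rw [← Subgroup.index_eq_one]
    have h1 : (K ⊔ (P : Subgroup G)).index ∣ p ^ k :=
      hKidx ▸ Subgroup.index_dvd_of_le le_sup_left
    have h2 : (K ⊔ (P : Subgroup G)).index ∣ (P : Subgroup G).index :=
      Subgroup.index_dvd_of_le le_sup_right
    obtain ⟨j, -, hj⟩ := (Nat.dvd_prime_pow hp).mp h1
    rcases Nat.eq_zero_or_pos j with h0 | hpos
    · rw [hj, h0, pow_zero]
    · exfalso
      apply P.not_dvd_index
      refine dvd_trans ?_ h2
      rw [hj]
      exact dvd_pow_self p hpos.ne'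
  -- `C_G(H) ≤ H`
  have hCH : Subgroup.centralizer (H : Set G) ≤ H := by
    obtain ⟨C₁, hC₁def⟩ : ∃ C₁ : Subgroup G, C₁ = Subgroup.centralizer (H : Set G) ⊓ K :=
      ⟨_, rfl⟩
    haveI hCn : (Subgroup.centralizer (H : Set G)).Normal := inferInstance
    haveI hC₁n : C₁.Normal := hC₁def ▸ inferInstance
    have hC₁C : C₁ ≤ Subgroup.centralizer (H : Set G) := hC₁def ▸ inf_le_left
    have hC₁K : C₁ ≤ K := hC₁def ▸ inf_le_right
    obtain ⟨Q⟩ : Nonempty (Sylow p C₁) := inferInstance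
    have hQc : (Q : Subgroup C₁) ≤ Subgroup.center C₁ := by
      intro y hy
      obtain ⟨j, hj⟩ := Q.isPGroup' ⟨y, hy⟩
      have hj' : (y : G) ^ p ^ j = 1 := by
        have := congrArg (fun t : (Q : Subgroup C₁) => ((t : C₁) : G)) hj
        simpa using this
      have hyH : (y : G) ∈ H := hpK _ (hC₁K y.2) ⟨j, hj'⟩
      rw [Subgroup.mem_center_iff]
      intro z
      apply Subtype.ext
      have hz : (z : G) ∈ Subgroup.centralizer (H : Set G) := hC₁C z.2
      exact ((Subgroup.mem_centralizer_iff.mp hz) y hyH).symm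
    obtain ⟨M, hMn, hMnd, -, hMmem⟩ :=
      Cfsg.Agent.Lib.Helper14.exists_normal_compl_of_central_sylow' Q hQc
    have hM' : ∀ g : G, g ∈ M.map C₁.subtype ↔ g ∈ C₁ ∧ (orderOf g).Coprime p := by
      intro g
      constructor
      · rintro ⟨y, hy, rfl⟩
        refine ⟨y.2, ?_⟩
        have := (hMmem y).mp hy
        rwa [← Subgroup.orderOf_coe] at this
      · rintro ⟨hg, hc⟩
        refine ⟨⟨g, hg⟩, (hMmem _).mpr ?_, rfl⟩
        rw [← Subgroup.orderOf_coe]
        exact hc
    have hM'n : (M.map C₁.subtype).Normal := by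
      constructor
      intro x hx g
      rw [hM'] at hx ⊢
      refine ⟨hC₁n.conj_mem x hx.1 g, ?_⟩
      have : orderOf (g * x * g⁻¹) = orderOf x := (MulAut.conj g).orderOf_eq x
      rw [this]
      exact hx.2
    have hM'c : (Nat.card (M.map C₁.subtype)).Coprime p := by
      rw [Subgroup.card_map_of_injective C₁.subtype_injective]
      exact ((Nat.Prime.coprime_iff_not_dvd hp).mpr hMnd).symm
    have hM'1 := hO _ hM'n hM'c
    have hC₁p : ∀ g ∈ C₁, (orderOf g).Coprime p → g = 1 := by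
      intro g hg hc
      have : g ∈ M.map C₁.subtype := (hM' g).mpr ⟨hg, hc⟩
      rw [hM'1, Subgroup.mem_bot] at this
      exact this
    have hCp : IsPGroup p (Subgroup.centralizer (H : Set G)) := by
      apply isPGroup_of_forall_coprime_eq_one
      intro g hg hc
      exact hC₁p g (hC₁def ▸ Subgroup.mem_inf.mpr ⟨hg, hp'K g hc⟩) hc
    exact hss _ hCn hCp
  have htool : ∀ L : Subgroup G, (P : Subgroup G) ≤ L → L ≠ ⊤ →
      ∀ g ∈ L, (orderOf g).Coprime p → g = 1 := by
    intro L hPL hL g hg hc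
    have hlt : Nat.card L < Nat.card G := by
      apply lt_of_le_of_ne (Subgroup.card_le_card_group L)
      intro h
      exact hL ((Subgroup.card_eq_iff_eq_top L).mp h)
    have hidx : ¬ p ∣ (P : Subgroup G).relIndex L := by
      intro h
      apply P.not_dvd_index
      rw [← Subgroup.relIndex_mul_index hPL]
      exact dvd_mul_of_dvd_left h _
    have hF : FrobS p L := frobS_of_thStmtA L (P : Subgroup G) (ih L hlt) hPL P.isPGroup' hidx hyp
    have h1 := hF H (hHP.trans hPL) hHp g hg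
      (by rw [Subgroup.normalizer_eq_top]; exact Subgroup.mem_top g) hc
    exact eq_one_of_pgroup_of_coprime hHp (hCH h1) hc
  have h4a : ∀ K₂ : Subgroup G, H ≤ K₂ → K₂ ≤ K →
      (P : Subgroup G) ≤ Subgroup.normalizer (K₂ : Set G) → K₂ ≠ K → K₂ ≤ H := by
    intro K₂ hHK₂ hK₂K hPN hne
    have hL : K₂ ⊔ (P : Subgroup G) ≠ ⊤ := by
      intro htop
      apply hne
      apply le_antisymm hK₂K
      intro x hx
      have hx' : x ∈ ((K₂ ⊔ (P : Subgroup G) : Subgroup G) : Set G) := by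
        rw [htop]
        exact Subgroup.mem_top x
      rw [Subgroup.coe_mul_of_right_le_normalizer_left K₂ _ hPN] at hx'
      obtain ⟨a, ha, s, hs, rfl⟩ := hx'
      have hsK : s ∈ K := by
        have : s = a⁻¹ * (a * s) := by group
        rw [this]
        exact K.mul_mem (K.inv_mem (hK₂K ha)) hx
      have hsH : s ∈ H := by
        obtain ⟨j, hj⟩ := P.isPGroup' ⟨s, hs⟩
        exact hpK s hsK ⟨j, congrArg Subtype.val hj⟩
      exact K₂.mul_mem ha (hHK₂ hsH)
    apply hpKs K₂ hK₂K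
    apply isPGroup_of_forall_coprime_eq_one
    intro g hg hc
    exact htool _ le_sup_right hL g (Subgroup.mem_sup_left hg) hc
  have hKH : K ≠ H := by
    intro h
    apply hcon
    have hPtop : (P : Subgroup G) = ⊤ := by
      rw [← hKP, h]
      exact (sup_eq_right.mpr hHP).symm
    rw [frobCond_iff_npc]
    refine ⟨⊥, inferInstance, ?_, ?_⟩
    · rw [Subgroup.card_bot]
      exact Nat.coprime_one_left p
    · obtain ⟨j, hj⟩ := IsPGroup.iff_card.mp P.isPGroup'
      refine ⟨j, ?_⟩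
      rw [Subgroup.index_bot, ← hj, hPtop, Subgroup.card_top]
  have hKb1 : Kb ≠ ⊥ := by
    intro h
    apply hKH
    rw [hKdef, h, hcomap_bot]
  have h4b : ∀ Xb : Subgroup (G ⧸ H), Xb ≤ Kb →
      (Pb : Subgroup (G ⧸ H)) ≤ Subgroup.normalizer (Xb : Set (G ⧸ H)) → Xb ≠ Kb → Xb = ⊥ := by
    intro Xb hXK hPX hne
    have h1 : Xb.comap π ≤ H := by
      apply h4a _ (hcomap_ge Xb)
      · rw [hKdef]
        exact Subgroup.comap_mono hXK
      · rw [← Subgroup.comap_normalizer_eq_of_surjective Xb hπs, ← hcomapPb]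
        exact Subgroup.comap_mono hPX
      · intro h
        apply hne
        rw [← Subgroup.map_comap_eq_self_of_surjective hπs Xb, h, hKdef,
          Subgroup.map_comap_eq_self_of_surjective hπs]
    rw [eq_bot_iff]
    intro y hy
    obtain ⟨g, rfl⟩ := hπs y
    exact Subgroup.mem_bot.mpr ((hπker g).mpr (h1 (Subgroup.mem_comap.mpr hy)))
  -- `K/H` is a `q`-group
  obtain ⟨q, hqdef⟩ : ∃ q : ℕ, q = (Nat.card Kb).minFac := ⟨_, rfl⟩
  have hKbcard : Nat.card Kb ≠ 1 := fun h => hKb1 (Subgroup.eq_bot_of_card_eq Kb h)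
  have hq : q.Prime := hqdef ▸ Nat.minFac_prime hKbcard
  haveI : Fact q.Prime := ⟨hq⟩
  have hqdvd : q ∣ Nat.card Kb := hqdef ▸ Nat.minFac_dvd _
  have hPbKb : (Pb : Subgroup (G ⧸ H)) ≤ Subgroup.normalizer (Kb : Set (G ⧸ H)) := by
    rw [Subgroup.normalizer_eq_top]
    exact le_top
  have hcopb : (Nat.card (Pb : Subgroup (G ⧸ H))).Coprime (Nat.card Kb) := by
    obtain ⟨j, hj⟩ := IsPGroup.iff_card.mp Pb.isPGroup'
    rw [hj]
    exact Nat.Coprime.pow_left j hKbc.symm
  haveI : Group.IsSolvable (Pb : Subgroup (G ⧸ H)) := by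
    haveI := Pb.isPGroup'.isNilpotent
    infer_instance
  obtain ⟨Qb, hQb⟩ := exists_invariant_sylow (Pb : Subgroup (G ⧸ H)) Kb hPbKb hcopb
    (Or.inl inferInstance) q
  obtain ⟨Q₂b, hQ₂bdef⟩ : ∃ Q₂b : Subgroup (G ⧸ H), Q₂b = (Qb : Subgroup Kb).map Kb.subtype :=
    ⟨_, rfl⟩
  rw [← hQ₂bdef] at hQb
  have hQ₂bK : Q₂b ≤ Kb := hQ₂bdef ▸ Subgroup.map_subtype_le _
  have hQ₂beq : Q₂b = Kb := by
    by_contra hne
    have h1 := h4b Q₂b hQ₂bK hQb hne
    have h2 : (Qb : Subgroup Kb) ≠ ⊥ := Qb.ne_bot_of_dvd_card hqdvd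
    apply h2
    rw [hQ₂bdef] at h1
    exact (Subgroup.map_eq_bot_iff_of_injective _ Kb.subtype_injective).mp h1
  have hKbq : IsPGroup q Kb := by
    have h1 : IsPGroup q Q₂b := hQ₂bdef ▸ Qb.isPGroup'.map _
    rw [hQ₂beq] at h1
    exact h1
  have hKbab : ∀ a ∈ Kb, ∀ b ∈ Kb, a * b = b * a := by
    haveI : Nontrivial Kb := (Subgroup.nontrivial_iff_ne_bot _).mpr hKb1
    haveI : Group.IsSolvable Kb := by
      haveI := hKbq.isNilpotent
      infer_instance
    have h1 : ⁅Kb, Kb⁆ ≠ Kb := by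
      intro h
      have h2 := Group.IsSolvable.commutator_lt_top_of_nontrivial Kb
      have h3 := Subgroup.map_subtype_commutator Kb
      rw [h] at h3
      apply h2.ne
      rw [eq_top_iff]
      intro y _
      have h4 : (y : G ⧸ H) ∈ Subgroup.map Kb.subtype (commutator Kb) := by
        rw [h3]
        exact y.2
      obtain ⟨z, hz, hzy⟩ := h4
      have h5 : z = y := Subtype.ext hzy
      rw [← h5]
      exact hz
    have h2 : ⁅Kb, Kb⁆ = ⊥ := by
      apply h4b _ (Subgroup.commutator_le_right Kb Kb) _ h1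
      rw [Subgroup.normalizer_eq_top]
      exact le_top
    rw [Subgroup.commutator_eq_bot_iff_le_centralizer] at h2
    intro a ha b hb
    exact (Subgroup.mem_centralizer_iff.mp (h2 hb)) a ha
  have hKab : ∀ a ∈ K, ∀ b ∈ K, a * b * a⁻¹ * b⁻¹ ∈ H := by
    intro a ha b hb
    rw [← hπker]
    rw [hKmem] at ha hb
    simp only [map_mul, map_inv]
    rw [hKbab _ ha _ hb]
    group
  -- `V = Ω₁(Z(H))`
  obtain ⟨ZH, hZHdef⟩ : ∃ ZH : Subgroup G, ZH = H ⊓ Subgroup.centralizer (H : Set G) := ⟨_, rfl⟩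
  haveI hZHn : ZH.Normal := hZHdef ▸ inferInstance
  have hZHH : ZH ≤ H := hZHdef ▸ inf_le_left
  have hZHC : ZH ≤ Subgroup.centralizer (H : Set G) := hZHdef ▸ inf_le_right
  have hZHc : ∀ a ∈ ZH, ∀ b ∈ ZH, a * b = b * a := by
    intro a ha b hb
    exact (Subgroup.mem_centralizer_iff.mp (hZHC hb)) a (hZHH ha)
  obtain ⟨V, hVmem⟩ := exists_torsion_subgroup ZH hZHc p
  have hVZH : V ≤ ZH := fun v hv => ((hVmem v).mp hv).1
  have hVH : V ≤ H := hVZH.trans hZHH
  haveI hVn : V.Normal := by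
    constructor
    intro v hv g
    rw [hVmem] at hv ⊢
    refine ⟨hZHn.conj_mem v hv.1 g, ?_⟩
    rw [conj_pow, hv.2, mul_one, mul_inv_cancel]
  have hVc : ∀ a ∈ V, ∀ b ∈ V, a * b = b * a := fun a ha b hb => hZHc a (hVZH ha) b (hVZH hb)
  have hVea : IsElementaryAbelian p V :=
    ⟨⟨⟨fun a b => Subtype.ext (hVc a a.2 b b.2)⟩⟩, fun v hv => ((hVmem v).mp hv).2⟩
  have hHCV : H ≤ Subgroup.centralizer (V : Set G) := by
    intro h hh
    rw [Subgroup.mem_centralizer_iff]
    intro v hv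
    exact ((Subgroup.mem_centralizer_iff.mp (hZHC (hVZH hv))) h hh).symm
  have hex : ¬ K ≤ Subgroup.centralizer (V : Set G) := by
    intro hKV
    apply hKH
    apply le_antisymm _ hHK
    apply hpKs K le_rfl
    apply isPGroup_of_forall_coprime_eq_one
    intro g hg hc
    have h1 : ∀ a ∈ ZH, a * g = g * a := by
      apply centralizes_of_omega_abelian ZH (hHp.to_le hZHH) hZHc g
        (by rw [Subgroup.normalizer_eq_top]; exact Subgroup.mem_top g) hc
      intro a ha hap
      have hV : a ∈ V := (hVmem a).mpr ⟨ha, hap⟩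
      exact (Subgroup.mem_centralizer_iff.mp (hKV hg)) a hV
    have hZP : (P : Subgroup G) ⊓ Subgroup.centralizer ((P : Subgroup G) : Set G) ≤ ZH := by
      intro z hz
      obtain ⟨hz1, hz2⟩ := Subgroup.mem_inf.mp hz
      have hzC : z ∈ Subgroup.centralizer (H : Set G) :=
        Subgroup.centralizer_le (SetLike.coe_subset_coe.mpr hHP) hz2
      rw [hZHdef]
      exact Subgroup.mem_inf.mpr ⟨hCH hzC, hzC⟩
    have h2 : g ∈ Subgroup.centralizer (((P : Subgroup G) ⊓
        Subgroup.centralizer ((P : Subgroup G) : Set G) : Subgroup G) : Set G) := by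
      rw [Subgroup.mem_centralizer_iff]
      intro z hz
      exact h1 z (hZP hz)
    have hHle : H ≤ Subgroup.centralizer (((P : Subgroup G) ⊓
        Subgroup.centralizer ((P : Subgroup G) : Set G) : Subgroup G) : Set G) := by
      intro h hh
      rw [Subgroup.mem_centralizer_iff]
      intro z hz
      obtain ⟨hz1, hz2⟩ := Subgroup.mem_inf.mp hz
      exact ((Subgroup.mem_centralizer_iff.mp hz2) h (hHP hh)).symm
    have h3 := hyp.2 H hHle hHp g h2
      (by rw [Subgroup.normalizer_eq_top]; exact Subgroup.mem_top g) hc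
    exact eq_one_of_pgroup_of_coprime hHp (hCH h3) hc
  haveI hCVn : (Subgroup.centralizer (V : Set G)).Normal := inferInstance
  have hCKV : K ⊓ Subgroup.centralizer (V : Set G) ≤ H := by
    apply h4a
    · exact le_inf hHK hHCV
    · exact inf_le_left
    · rw [Subgroup.normalizer_eq_top]
      exact le_top
    · intro h
      apply hex
      rw [← h]
      exact inf_le_right
  have hCV : Subgroup.centralizer (V : Set G) ≤ H := by
    apply hss _ hCVn
    apply isPGroup_of_forall_coprime_eq_one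
    intro g hg hc
    have h1 : g ∈ H := hCKV (Subgroup.mem_inf.mpr ⟨hp'K g hc, hg⟩)
    exact eq_one_of_pgroup_of_coprime hHp h1 hc
  -- `P/H` acts faithfully on `K/H`
  obtain ⟨C₃, hC₃def⟩ : ∃ C₃ : Subgroup G,
      C₃ = (Subgroup.centralizer (Kb : Set (G ⧸ H))).comap π := ⟨_, rfl⟩
  haveI hC₃n : C₃.Normal := by
    rw [hC₃def]
    exact Subgroup.Normal.comap inferInstance π
  have hC₃mem : ∀ s, s ∈ C₃ ↔ ∀ k ∈ K, s * k * s⁻¹ * k⁻¹ ∈ H := by
    intro s
    rw [hC₃def, Subgroup.mem_comap, Subgroup.mem_centralizer_iff]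
    constructor
    · intro h k hk
      rw [← hπker]
      simp only [map_mul, map_inv]
      rw [← h (π k) ((hKmem k).mp hk)]
      group
    · intro h kb hkb
      obtain ⟨k, rfl⟩ := hπs kb
      have h1 := (hπker _).mpr (h k ((hKmem k).mpr hkb))
      simp only [map_mul, map_inv] at h1
      calc π k * π s = (π s * π k * (π s)⁻¹ * (π k)⁻¹)⁻¹ * (π s * π k) := by group
        _ = π s * π k := by rw [h1, inv_one, one_mul]
  obtain ⟨S₃, hS₃def⟩ : ∃ S₃ : Subgroup G, S₃ = C₃ ⊓ (P : Subgroup G) := ⟨_, rfl⟩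
  have hS₃P : S₃ ≤ (P : Subgroup G) := hS₃def ▸ inf_le_right
  have hS₃C : S₃ ≤ C₃ := hS₃def ▸ inf_le_left
  have hNS₃ : K ⊔ (P : Subgroup G) ≤ Subgroup.normalizer (S₃ : Set G) := by
    refine sup_le ?_ ?_
    · intro k hk
      apply mem_normalizer_of_conj_mem
      intro s hs
      rw [hS₃def]
      refine Subgroup.mem_inf.mpr ⟨hC₃n.conj_mem s (hS₃C hs) k, ?_⟩
      have h1 : s * k * s⁻¹ * k⁻¹ ∈ H := (hC₃mem s).mp (hS₃C hs) k hk
      have h2 : k * s * k⁻¹ = (s * k * s⁻¹ * k⁻¹)⁻¹ * s := by group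
      rw [h2]
      exact Subgroup.mul_mem _ (hHP (H.inv_mem h1)) (hS₃P hs)
    · intro g hg
      apply mem_normalizer_of_conj_mem
      intro s hs
      rw [hS₃def]
      exact Subgroup.mem_inf.mpr ⟨hC₃n.conj_mem s (hS₃C hs) g,
        Subgroup.mul_mem _ (Subgroup.mul_mem _ hg (hS₃P hs)) (Subgroup.inv_mem _ hg)⟩
  rw [hKP, top_le_iff] at hNS₃
  have hS₃n : S₃.Normal := Subgroup.normalizer_eq_top_iff.mp hNS₃
  have hS₃H : S₃ ≤ H := hss S₃ hS₃n (P.isPGroup'.to_le hS₃P)
  have hfaith : ∀ s ∈ (P : Subgroup G), (∀ k ∈ K, s * k * s⁻¹ * k⁻¹ ∈ H) → s ∈ H := by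
    intro s hs hsk
    apply hS₃H
    rw [hS₃def]
    exact Subgroup.mem_inf.mpr ⟨(hC₃mem s).mpr hsk, hs⟩
  -- abelian subgroups of largest order in `P` lie in `H`
  have hA : ∀ A ∈ maxAb (P : Subgroup G), A ≤ H := by
    intro A hAmax
    by_contra hAH
    have hex2 : ∃ A' ∈ maxAb (P : Subgroup G), ¬ A' ≤ Subgroup.centralizer (V : Set G) :=
      ⟨A, hAmax, fun h => hAH (h.trans hCV)⟩
    obtain ⟨A', hA'max, hA'V, hVA'⟩ := exists_maxAb_normalized (P : Subgroup G) P.isPGroup' V
      (hVH.trans hHP) (by rw [Subgroup.normalizer_eq_top]; exact le_top) hVc hex2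
    have hA'H : ¬ A' ≤ H := fun h => hA'V (h.trans hHCV)
    by_cases hp2 : p ≠ 2
    · obtain ⟨x, hxA', hxH⟩ := SetLike.not_le_iff_exists.mp hA'H
      have hquad : ∀ v ∈ V, x * (x * v * x⁻¹ * v⁻¹) = (x * v * x⁻¹ * v⁻¹) * x := by
        intro v hv
        have h1 : v * x⁻¹ * v⁻¹ ∈ A' :=
          ((Subgroup.mem_normalizer_iff.mp (hVA' hv)) x⁻¹).mp (A'.inv_mem hxA')
        have h2 : x * v * x⁻¹ * v⁻¹ ∈ A' := by
          have : x * v * x⁻¹ * v⁻¹ = x * (v * x⁻¹ * v⁻¹) := by group
          rw [this]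
          exact A'.mul_mem hxA' h1
        exact hA'max.2.1 x hxA' _ h2
      have hquadc := quad_centralizes V K hVc (hHp.to_le hVH)
        (fun a ha b hb => hHCV (hKab a ha b hb)) m hm (fun k hk => hHCV (hKm k hk)) x hquad
      have hy : ∀ k ∈ K, (x * x) * k * (x * x)⁻¹ * k⁻¹ ∈ H := by
        intro k hk
        apply hCKV
        refine Subgroup.mem_inf.mpr ⟨?_, hquadc k hk⟩
        exact K.mul_mem (hKn.conj_mem k hk (x * x)) (K.inv_mem hk)
      have hxP : x ∈ (P : Subgroup G) := hA'max.1 hxA'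
      have hxxH : x * x ∈ H := hfaith (x * x) (Subgroup.mul_mem _ hxP hxP) hy
      apply hxH
      obtain ⟨j, hj⟩ := P.isPGroup' ⟨x, hxP⟩
      have hxj : x ^ (p ^ j) = 1 := congrArg Subtype.val hj
      have hodd : Odd (p ^ j) := (hp.eq_two_or_odd'.resolve_left hp2).pow
      obtain ⟨t, ht⟩ := hodd
      have h1 : (x * x) ^ (t + 1) = x := by
        rw [← pow_two, ← pow_mul]
        have : 2 * (t + 1) = p ^ j + 1 := by omega
        rw [this, pow_succ, hxj, one_mul]
      rw [← h1]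
      exact H.pow_mem hxxH _
    · have hp2' : p = 2 := not_not.mp hp2
      have hS4' : ¬ Cfsg.Involves (Equiv.Perm (Fin 4)) G := hS4.resolve_left hp2
      apply hS4'
      have hPp : IsPGroup 2 (P : Subgroup G) := hp2' ▸ P.isPGroup'
      have hV2 : ∀ v ∈ V, v * v = 1 := by
        intro v hv
        have := ((hVmem v).mp hv).2
        rw [hp2', pow_two] at this
        exact this
      have hq2 : q ≠ 2 := by
        intro hq2
        have h1 : p ∣ Nat.card Kb := by
          rw [hp2', ← hq2]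
          exact hqdvd
        have h2 := Nat.Coprime.eq_one_of_dvd hKbc.symm h1
        exact hp.one_lt.ne' h2
      obtain ⟨c, hc⟩ := IsPGroup.iff_card.mp hKbq
      have hKq : ∀ x ∈ K, x ^ (q ^ c) ∈ H := by
        intro x hx
        rw [← hc, ← hmdef]
        exact hKm x hx
      exact two_final (P : Subgroup G) H K V A' hPp hHP hVH hVc hV2 hHCV hCV hKab q hq2 c hKq
        hfaith hA'max hA'H hVA'
  apply hcon
  have hJ : thompsonSubgroupAOf (P : Subgroup G) = thompsonSubgroupAOf H :=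
    thompsonSubgroupAOf_eq_of_le hHP hA
  have hN : Subgroup.normalizer ((thompsonSubgroupAOf (P : Subgroup G) : Subgroup G) : Set G)
      = ⊤ := by
    rw [hJ, eq_top_iff]
    refine le_trans ?_ (normalizer_le_normalizer_thompsonSubgroupAOf H)
    rw [Subgroup.normalizer_eq_top]
  have h2 := hyp.1
  rw [hN, frobS_top_iff] at h2
  exact h2

end Cfsg.Agent.Lib.Helper17
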