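import Mathlib
import Cfsg.Agent.Lib.Helper17.FFSol
import Cfsg.Agent.Lib.Helper17.ThA5
import Cfsg.Agent.Lib.Helper17.PCore
import Cfsg.Agent.Lib.Helper17.SylowNormal
import Cfsg.Agent.Lib.Helper11.PConstrained
import Cfsg.Agent.Lib.Helper11.GenFit
import Cfsg.Agent.Lib.Helper10.Comp
import Cfsg.Agent.Lib.Helper6.PSolv
import Cfsg.Agent.Lib.Helper18.FStarComm
import Cfsg.Agent.Lib.Helper18.OddCore
import Cfsg.Agent.Lib.Helper1.ThompsonPC
import Cfsg.Agent.Lib.Helper1.Cores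
import Cfsg.Agent.Lib.Helper27.Thompson

set_option autoImplicit false

/-!
Solvable groups without sections isomorphic to the symmetric group of degree four whose Sylow
`2`-subgroups have class at most two: the subgroup generated by the elementary abelian subgroups
of largest order of a Sylow `2`-subgroup `S` is normal modulo the largest normal subgroup of odd
order.
-/

namespace Cfsg.Agent.Lib.Helper17

open Cfsg

open scoped commutatorElement

universe u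

variable {G : Type u} [Group G]

/-- An element of odd order stabilising the chain `Q ≥ Z ≥ 1` of a `2`-group centralises `Q`. -/
theorem centralizes_of_chain (Q Z : Subgroup G) (hZQ : Z ≤ Q) (hQp : IsPGroup 2 Q)
    (y : G) (m : ℕ) (hm : Odd m) (hym : y ^ m = 1) (hyZ : ∀ z ∈ Z, z * y = y * z)
    (hyQ : ∀ q ∈ Q, y * q * y⁻¹ * q⁻¹ ∈ Z) : ∀ q ∈ Q, y * q = q * y := by
  intro q hq
  obtain ⟨z, hzdef⟩ : ∃ z, z = y * q * y⁻¹ * q⁻¹ := ⟨_, rfl⟩
  have hzZ : z ∈ Z := hzdef ▸ hyQ q hq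
  have hcz : Commute y z := (hyZ z hzZ).symm
  have key : ∀ n : ℕ, y ^ n * q * (y ^ n)⁻¹ = z ^ n * q := by
    intro n
    induction n with
    | zero => simp
    | succ n ih =>
      have h1 : y * z ^ n = z ^ n * y := (hcz.pow_right n).eq
      calc y ^ (n + 1) * q * (y ^ (n + 1))⁻¹ = y * (y ^ n * q * (y ^ n)⁻¹) * y⁻¹ := by
            rw [pow_succ']
            group
        _ = y * (z ^ n * q) * y⁻¹ := by rw [ih]
        _ = (y * z ^ n) * q * y⁻¹ := by group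
        _ = (z ^ n * y) * q * y⁻¹ := by rw [h1]
        _ = z ^ n * (y * q * y⁻¹ * q⁻¹) * q := by group
        _ = z ^ n * z * q := by rw [← hzdef]
        _ = z ^ (n + 1) * q := by rw [pow_succ]
  have h1 := key m
  rw [hym, one_mul, inv_one, mul_one] at h1
  have hzm : z ^ m = 1 := by
    calc z ^ m = (z ^ m * q) * q⁻¹ := by group
      _ = q * q⁻¹ := by rw [← h1]
      _ = 1 := mul_inv_cancel q
  obtain ⟨k, hk⟩ := hQp ⟨z, hZQ hzZ⟩
  have hzk : z ^ (2 ^ k) = 1 := congrArg Subtype.val hk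
  have hz1 : z = 1 := by
    have d1 : orderOf z ∣ m := orderOf_dvd_of_pow_eq_one hzm
    have d2 : orderOf z ∣ 2 ^ k := orderOf_dvd_of_pow_eq_one hzk
    have hcop : Nat.Coprime m (2 ^ k) :=
      Nat.Coprime.pow_right k (Nat.Coprime.symm (Nat.coprime_two_left.mpr hm))
    exact orderOf_eq_one_iff.mp (Nat.Coprime.eq_one_of_dvd (hcop.coprime_dvd_left d1) d2)
  rw [hz1] at hzdef
  calc y * q = (y * q * y⁻¹ * q⁻¹) * q * y := by group
    _ = q * y := by rw [← hzdef, one_mul]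

set_option maxHeartbeats 1600000 in
/-- The core of the argument, for a normal `2`-subgroup `Q` containing its centraliser with
`O₂(G/Q) = 1` and a `2`-subgroup `S ≥ Q` of class at most two. -/
theorem ff_sol_aux [Finite G] [Group.IsSolvable G] (Q : Subgroup G) [hQn : Q.Normal]
    (hQp : IsPGroup 2 Q) (hCQ : Subgroup.centralizer (Q : Set G) ≤ Q)
    (hpc : pCore 2 (G ⧸ Q) = ⊥) (S : Subgroup G) (hSp : IsPGroup 2 S) (hQS : Q ≤ S)
    (hcl : ∀ a ∈ S, ∀ b ∈ S, ∀ c ∈ S, (a * b * a⁻¹ * b⁻¹) * c = c * (a * b * a⁻¹ * b⁻¹))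
    (A : Subgroup G) (hA : A ∈ Cfsg.Agent.Lib.Helper27.maxEA 2 S) (hAQ : ¬ A ≤ Q) :
    Cfsg.Involves (Equiv.Perm (Fin 4)) G := by
  classical
  have : Fact (Nat.Prime 2) := ⟨Nat.prime_two⟩
  have hAS : A ≤ S := hA.1
  obtain ⟨hAc, hA2'⟩ := Cfsg.Agent.Lib.Helper27.isElementaryAbelian_iff.mp hA.2.1
  have hA2 : ∀ a ∈ A, a * a = 1 := fun a ha => by
    rw [← pow_two]
    exact hA2' a ha
  obtain ⟨Z, hZdef⟩ : ∃ Z : Subgroup G, Z = Subgroup.centralizer (Q : Set G) := ⟨_, rfl⟩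
  have hZn : Z.Normal := by
    rw [hZdef]
    infer_instance
  have hZQ : Z ≤ Q := hZdef ▸ hCQ
  have hZmem : ∀ z, z ∈ Z ↔ ∀ q ∈ Q, q * z = z * q := by
    intro z
    rw [hZdef, Subgroup.mem_centralizer_iff]
    exact Iff.rfl
  have hZc : ∀ a ∈ Z, ∀ b ∈ Z, a * b = b * a := fun a ha b hb => ((hZmem b).mp hb) a (hZQ ha)
  have hZp : IsPGroup 2 Z := hQp.to_le hZQ
  obtain ⟨V, hVmem⟩ : ∃ V : Subgroup G, ∀ v, v ∈ V ↔ v ∈ Z ∧ v * v = 1 := by
    refine ⟨
      { carrier := {v | v ∈ Z ∧ v * v = 1}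
        mul_mem' := ?_
        one_mem' := ?_
        inv_mem' := ?_ }, fun v => Iff.rfl⟩
    · rintro a b ⟨ha, ha2⟩ ⟨hb, hb2⟩
      refine ⟨Z.mul_mem ha hb, ?_⟩
      have h1 := hZc b hb a ha
      calc a * b * (a * b) = a * (b * a) * b := by group
        _ = a * (a * b) * b := by rw [h1]
        _ = (a * a) * (b * b) := by group
        _ = 1 := by rw [ha2, hb2, one_mul]
    · exact ⟨Z.one_mem, one_mul 1⟩
    · rintro a ⟨ha, ha2⟩
      refine ⟨Z.inv_mem ha, ?_⟩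
      rw [← mul_inv_rev, ha2, inv_one]
  have hVZ : V ≤ Z := fun v hv => ((hVmem v).mp hv).1
  have hVn : V.Normal := by
    constructor
    intro v hv g
    rw [hVmem] at hv ⊢
    refine ⟨hZn.conj_mem v hv.1 g, ?_⟩
    calc g * v * g⁻¹ * (g * v * g⁻¹) = g * (v * v) * g⁻¹ := by group
      _ = 1 := by
        rw [hv.2]
        group
  have hVc : ∀ a ∈ V, ∀ b ∈ V, a * b = b * a := fun a ha b hb => hZc a (hVZ ha) b (hVZ hb)
  have hV2 : ∀ v ∈ V, v * v = 1 := fun v hv => ((hVmem v).mp hv).2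
  have hQCV : Q ≤ Subgroup.centralizer (V : Set G) := by
    intro q hq
    rw [Subgroup.mem_centralizer_iff]
    intro v hv
    exact (((hZmem v).mp (hVZ hv)) q hq).symm
  -- the centraliser of `Q / Z`
  obtain ⟨G₀, hG₀mem⟩ : ∃ G₀ : Subgroup G, ∀ g, g ∈ G₀ ↔ ∀ q ∈ Q, g * q * g⁻¹ * q⁻¹ ∈ Z := by
    refine ⟨
      { carrier := {g | ∀ q ∈ Q, g * q * g⁻¹ * q⁻¹ ∈ Z}
        mul_mem' := ?_
        one_mem' := ?_
        inv_mem' := ?_ }, fun g => Iff.rfl⟩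
    · intro a b ha hb
      show ∀ q ∈ Q, a * b * q * (a * b)⁻¹ * q⁻¹ ∈ Z
      intro q hq
      have h1 := hZn.conj_mem _ (hb q hq) a
      have h2 := ha q hq
      have e : a * b * q * (a * b)⁻¹ * q⁻¹ =
          (a * (b * q * b⁻¹ * q⁻¹) * a⁻¹) * (a * q * a⁻¹ * q⁻¹) := by group
      rw [e]
      exact Z.mul_mem h1 h2
    · show ∀ q ∈ Q, (1 : G) * q * 1⁻¹ * q⁻¹ ∈ Z
      intro q hq
      have e : (1 : G) * q * 1⁻¹ * q⁻¹ = 1 := by group
      rw [e]
      exact Z.one_mem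
    · intro a ha
      show ∀ q ∈ Q, a⁻¹ * q * a⁻¹⁻¹ * q⁻¹ ∈ Z
      intro q hq
      have h1 := hZn.conj_mem _ (Z.inv_mem (ha q hq)) a⁻¹
      have e : a⁻¹ * (a * q * a⁻¹ * q⁻¹)⁻¹ * a⁻¹⁻¹ = a⁻¹ * q * a⁻¹⁻¹ * q⁻¹ := by group
      rw [e] at h1
      exact h1
  have hG₀n : G₀.Normal := by
    constructor
    intro g hg x
    rw [hG₀mem] at hg ⊢
    intro q hq
    have hq' : x⁻¹ * q * x⁻¹⁻¹ ∈ Q := hQn.conj_mem q hq x⁻¹
    have h1 := hZn.conj_mem _ (hg _ hq') x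
    have e : x * (g * (x⁻¹ * q * x⁻¹⁻¹) * g⁻¹ * (x⁻¹ * q * x⁻¹⁻¹)⁻¹) * x⁻¹ =
        x * g * x⁻¹ * q * (x * g * x⁻¹)⁻¹ * q⁻¹ := by group
    rw [e] at h1
    exact h1
  have hSG₀ : S ≤ G₀ := by
    intro s hs
    rw [hG₀mem]
    intro q hq
    rw [hZmem]
    intro q' hq'
    exact (hcl s hs q (hQS hq) q' (hQS hq')).symm
  have hkey : ∀ y : G, ∀ m : ℕ, Odd m → y ^ m = 1 → y ∈ G₀ →
      y ∈ Subgroup.centralizer (V : Set G) → y ∈ Q := by
    intro y m hm hym hyG hyV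
    apply hZQ
    rw [hZmem]
    have hyZ : ∀ z ∈ Z, z * y = y * z := by
      apply centralizes_of_omega_abelian Z hZp hZc y
      · rw [Subgroup.normalizer_eq_top]
        exact Subgroup.mem_top y
      · have h1 : orderOf y ∣ m := orderOf_dvd_of_pow_eq_one hym
        exact Nat.Coprime.coprime_dvd_left h1 (Nat.Coprime.symm (Nat.coprime_two_left.mpr hm))
      · intro a ha ha2
        have haV : a ∈ V := (hVmem a).mpr ⟨ha, by rw [← pow_two]; exact ha2⟩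
        exact (Subgroup.mem_centralizer_iff.mp hyV) a haV
    intro q hq
    exact (centralizes_of_chain Q Z hZQ hQp y m hm hym hyZ ((hG₀mem y).mp hyG) q hq).symm
  -- the quotient by `Q`
  obtain ⟨π, hπdef⟩ : ∃ π : G →* G ⧸ Q, π = QuotientGroup.mk' Q := ⟨_, rfl⟩
  have hπs : Function.Surjective π := hπdef ▸ QuotientGroup.mk'_surjective Q
  have hπker : ∀ g : G, π g = 1 ↔ g ∈ Q := by
    intro g
    rw [hπdef]
    exact QuotientGroup.eq_one_iff g
  obtain ⟨M, hMdef⟩ : ∃ M : Subgroup (G ⧸ Q), M = G₀.map π := ⟨_, rfl⟩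
  have hMn : M.Normal := by
    rw [hMdef]
    exact Subgroup.Normal.map hG₀n π hπs
  obtain ⟨F, hFdef⟩ : ∃ F : Subgroup (G ⧸ Q), F = Cfsg.Agent.Lib.Helper11.fitOf M := ⟨_, rfl⟩
  have hFM : F ≤ M := hFdef ▸ Cfsg.Agent.Lib.Helper11.fitOf_le M
  have hFn : F.Normal := by
    have h1 := Cfsg.Agent.Lib.Helper11.fitOf_normalizer M
    rw [Subgroup.normalizer_eq_top (H := M), top_le_iff] at h1
    rw [hFdef]
    exact Subgroup.normalizer_eq_top_iff.mp h1
  have hFnil : Group.IsNilpotent F := hFdef ▸ Cfsg.Agent.Lib.Helper11.fitOf_nilpotent M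
  have hFcop : (Nat.card F).Coprime 2 :=
    Cfsg.Agent.Lib.Helper18.card_coprime_of_normal_nilpotent hpc hFn hFnil
  have hFodd : Odd (Nat.card F) := Nat.coprime_two_right.mp hFcop
  obtain ⟨m, hmdef⟩ : ∃ m, m = Nat.card F := ⟨_, rfl⟩
  have hmodd : Odd m := hmdef ▸ hFodd
  have hFm : ∀ k ∈ F, k ^ m = 1 := by
    intro k hk
    have h1 := pow_card_eq_one' (G := F) (x := ⟨k, hk⟩)
    rw [hmdef]
    exact congrArg Subtype.val h1
  have hFcent : ∀ x ∈ M, (∀ f ∈ F, f * x = x * f) → x ∈ F := by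
    intro x hx hxf
    have hFMn : (Cfsg.fittingSubgroup ↥M).Normal := Cfsg.Agent.Lib.Helper1.fittingSubgroup_normal
    have hT := Cfsg.Agent.Lib.Helper10.subnormal_solvable_le_fitting_of_le_centralizer
      (Subgroup.centralizer (Cfsg.fittingSubgroup ↥M : Set ↥M))
      (Subgroup.Normal.isSubnormal inferInstance) le_rfl inferInstance
    have h1 : (⟨x, hx⟩ : M) ∈ Subgroup.centralizer (Cfsg.fittingSubgroup ↥M : Set ↥M) := by
      rw [Subgroup.mem_centralizer_iff]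
      intro f hf
      apply Subtype.ext
      have hfF : (f : G ⧸ Q) ∈ F := by
        rw [hFdef]
        exact Subgroup.mem_map_of_mem M.subtype hf
      exact hxf (f : G ⧸ Q) hfF
    have h2 := hT h1
    rw [hFdef]
    exact Subgroup.mem_map_of_mem M.subtype h2
  obtain ⟨Ab, hAbdef⟩ : ∃ Ab : Subgroup (G ⧸ Q), Ab = A.map π := ⟨_, rfl⟩
  have hAbc : ∀ a ∈ Ab, ∀ b ∈ Ab, a * b = b * a := by
    rw [hAbdef]
    rintro _ ⟨a, ha, rfl⟩ _ ⟨b, hb, rfl⟩
    rw [← map_mul, ← map_mul, hAc a ha b hb]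
  have hAb2 : ∀ a ∈ Ab, a * a = 1 := by
    rw [hAbdef]
    rintro _ ⟨a, ha, rfl⟩
    rw [← map_mul, hA2 a ha, map_one]
  have hAbM : Ab ≤ M := by
    rw [hAbdef, hMdef]
    exact Subgroup.map_mono (hAS.trans hSG₀)
  by_cases hcent : Ab ≤ Subgroup.centralizer (F : Set (G ⧸ Q))
  · exfalso
    apply hAQ
    intro a ha
    rw [← hπker]
    have hab : π a ∈ Ab := hAbdef ▸ ⟨a, ha, rfl⟩
    have h1 : π a ∈ F := hFcent _ (hAbM hab)
      (fun f hf => (Subgroup.mem_centralizer_iff.mp (hcent hab)) f hf)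
    have h2 : π a ^ 2 = 1 := by
      rw [pow_two]
      exact hAb2 _ hab
    have h3 : π a ^ m = 1 := hFm _ h1
    have d1 : orderOf (π a) ∣ m := orderOf_dvd_of_pow_eq_one h3
    have d2 : orderOf (π a) ∣ 2 := orderOf_dvd_of_pow_eq_one h2
    have hcop : Nat.Coprime m 2 := Nat.coprime_two_right.mpr hmodd
    exact orderOf_eq_one_iff.mp (Nat.Coprime.eq_one_of_dvd (hcop.coprime_dvd_left d1) d2)
  · obtain ⟨Bb, hBbA, a₀, ha₀, hdich, z, hzF, hz1, hzB, hza⟩ :=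
      nilp_hyperplane F Ab hFnil hFodd hAbc hAb2 hcent
    obtain ⟨ã, hãA, hãπ⟩ : ∃ ã ∈ A, π ã = a₀ := by
      rw [hAbdef] at ha₀
      obtain ⟨a, ha, rfl⟩ := ha₀
      exact ⟨a, ha, rfl⟩
    obtain ⟨z₀, hz₀G, hz₀π⟩ : ∃ z₀ ∈ G₀, π z₀ = z := by
      have h1 := hFM hzF
      rw [hMdef] at h1
      obtain ⟨k, hk, rfl⟩ := h1
      exact ⟨k, hk, rfl⟩
    obtain ⟨B, hBdef⟩ : ∃ B : Subgroup G, B = A ⊓ Bb.comap π := ⟨_, rfl⟩
    have hBA : B ≤ A := hBdef ▸ inf_le_left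
    have hBmem : ∀ x, x ∈ B ↔ x ∈ A ∧ π x ∈ Bb := by
      intro x
      rw [hBdef, Subgroup.mem_inf, Subgroup.mem_comap]
    have hB2 : ∀ x ∈ A, x ∈ B ∨ x * ã ∈ B := by
      intro x hx
      rcases hdich (π x) (hAbdef ▸ ⟨x, hx, rfl⟩) with h | h
      · exact Or.inl ((hBmem x).mpr ⟨hx, h⟩)
      · right
        rw [hBmem]
        refine ⟨A.mul_mem hx hãA, ?_⟩
        rw [map_mul, hãπ]
        exact h
    have hã2 : ã * ã = 1 := hA2 ã hãA
    have hãinv : ã⁻¹ = ã := inv_eq_of_mul_eq_one_left hã2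
    obtain ⟨y₁, hy₁def⟩ : ∃ y₁, y₁ = z₀ * (ã * z₀⁻¹ * ã⁻¹) := ⟨_, rfl⟩
    have hy₁G : y₁ ∈ G₀ := by
      rw [hy₁def]
      exact G₀.mul_mem hz₀G (hG₀n.conj_mem _ (G₀.inv_mem hz₀G) ã)
    have hy₁ã : ã * y₁ * ã⁻¹ = y₁⁻¹ := by
      rw [hy₁def]
      calc ã * (z₀ * (ã * z₀⁻¹ * ã⁻¹)) * ã⁻¹ = ã * z₀ * ã * z₀⁻¹ * (ã⁻¹ * ã⁻¹) := by group
        _ = ã * z₀ * ã * z₀⁻¹ := by rw [hãinv, hã2, mul_one]
        _ = ã * z₀ * ã⁻¹ * z₀⁻¹ := by rw [hãinv]
        _ = (z₀ * (ã * z₀⁻¹ * ã⁻¹))⁻¹ := by group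
    have hy₁π : π y₁ = z * z := by
      rw [hy₁def]
      simp only [map_mul, map_inv, hz₀π, hãπ]
      have e : a₀ * z⁻¹ * a₀⁻¹ = (a₀ * z * a₀⁻¹)⁻¹ := by group
      rw [e, hza, inv_inv]
    have hzm : z ^ m = 1 := hFm z hzF
    obtain ⟨j₀, hj₀⟩ := IsPGroup.iff_card.mp hQp
    have hQpow : ∀ h ∈ Q, h ^ (2 ^ j₀) = 1 := by
      intro h hh
      have h1 := pow_card_eq_one' (G := Q) (x := ⟨h, hh⟩)
      rw [hj₀] at h1
      exact congrArg Subtype.val h1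
    obtain ⟨y, hydef⟩ : ∃ y, y = y₁ ^ (2 ^ j₀) := ⟨_, rfl⟩
    have hyG : y ∈ G₀ := hydef ▸ G₀.pow_mem hy₁G _
    have hym : y ^ m = 1 := by
      have h1 : y₁ ^ m ∈ Q := by
        rw [← hπker, map_pow, hy₁π, ← pow_two, ← pow_mul, mul_comm, pow_mul, hzm, one_pow]
      rw [hydef, ← pow_mul, mul_comm, pow_mul]
      exact hQpow _ h1
    have hyã : ã * y * ã⁻¹ = y⁻¹ := by
      rw [hydef, ← conj_pow, hy₁ã, inv_pow]
    have hyπ : π y = (z * z) ^ (2 ^ j₀) := by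
      rw [hydef, map_pow, hy₁π]
    have hyπ1 : π y ≠ 1 := by
      intro h
      rw [hyπ, ← pow_two, ← pow_mul, ← pow_succ'] at h
      apply hz1
      have d1 : orderOf z ∣ m := orderOf_dvd_of_pow_eq_one hzm
      have d2 : orderOf z ∣ 2 ^ (j₀ + 1) := orderOf_dvd_of_pow_eq_one h
      have hcop : Nat.Coprime m (2 ^ (j₀ + 1)) :=
        Nat.Coprime.pow_right _ (Nat.coprime_two_right.mpr hmodd)
      exact orderOf_eq_one_iff.mp (Nat.Coprime.eq_one_of_dvd (hcop.coprime_dvd_left d1) d2)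
    have hyB : ∀ b ∈ B, b * y * b⁻¹ * y⁻¹ ∈ Q := by
      intro b hb
      rw [← hπker]
      have c1 : Commute (π b) z := hzB (π b) ((hBmem b).mp hb).2
      have c2 : Commute (π b) (π y) := by
        rw [hyπ]
        exact (c1.mul_right c1).pow_right _
      simp only [map_mul, map_inv]
      rw [c2.eq]
      group
    have hyV : y ∉ Subgroup.centralizer (V : Set G) := fun h =>
      hyπ1 ((hπker y).mpr (hkey y m hmodd hym hyG h))
    have := hVn
    exact ff_core S Q V A B hSp (hVZ.trans (hZQ.trans hQS)) hVc hV2 hQCV hA hBA ã hãA hB2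
      y m hmodd hym hyB hyã hyV

/-- With `O_{2'}(G) = 1`: the elementary abelian subgroups of largest order of `S` lie in
`O₂(G)`. -/
theorem maxEA_le_pCore [Finite G] [Group.IsSolvable G]
    (hS4 : ¬ Cfsg.Involves (Equiv.Perm (Fin 4)) G) (hO : pPrimeCore 2 G = ⊥) (S : Sylow 2 G)
    (hcl : ∀ a ∈ (S : Subgroup G), ∀ b ∈ (S : Subgroup G), ∀ c ∈ (S : Subgroup G),
      (a * b * a⁻¹ * b⁻¹) * c = c * (a * b * a⁻¹ * b⁻¹))
    (A : Subgroup G) (hA : A ∈ Cfsg.Agent.Lib.Helper27.maxEA 2 (S : Subgroup G)) :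
    A ≤ pCore 2 G := by
  have : Fact (Nat.Prime 2) := ⟨Nat.prime_two⟩
  by_contra hAQ
  apply hS4
  have hQn : (pCore 2 G).Normal := Cfsg.Agent.Lib.Helper17.pCore_normal
  have hF : fittingSubgroup G = pCore 2 G :=
    Cfsg.Agent.Lib.Helper11.fitting_eq_pCore_of_pPrimeCore_eq_bot 2 hO
  have hCQ : Subgroup.centralizer (pCore 2 G : Set G) ≤ pCore 2 G := by
    have h1 := Cfsg.Agent.Lib.Helper10.subnormal_solvable_le_fitting_of_le_centralizer
      (Subgroup.centralizer (pCore 2 G : Set G)) (Subgroup.Normal.isSubnormal inferInstance)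
      (le_of_eq (by rw [hF])) inferInstance
    rwa [hF] at h1
  exact ff_sol_aux (pCore 2 G) Cfsg.Agent.Lib.Helper17.pCore_isPGroup hCQ
    Cfsg.Agent.Lib.Helper6.pCore_quotient_pCore_eq_bot
    (S : Subgroup G) S.isPGroup' (Cfsg.Agent.Lib.Helper17.pCore_le_sylow S) hcl A hA hAQ

/-- With `O_{2'}(G) = 1`: the subgroup generated by the elementary abelian subgroups of largest
order of `S` is normal. -/
theorem thompson_normalizer_eq_top [Finite G] [Group.IsSolvable G]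
    (hS4 : ¬ Cfsg.Involves (Equiv.Perm (Fin 4)) G) (hO : pPrimeCore 2 G = ⊥) (S : Sylow 2 G)
    (hcl : ∀ a ∈ (S : Subgroup G), ∀ b ∈ (S : Subgroup G), ∀ c ∈ (S : Subgroup G),
      (a * b * a⁻¹ * b⁻¹) * c = c * (a * b * a⁻¹ * b⁻¹)) (g : G) :
    g ∈ Subgroup.normalizer ((thompsonSubgroupOf 2 (S : Subgroup G) : Subgroup G) : Set G) := by
  have : Fact (Nat.Prime 2) := ⟨Nat.prime_two⟩
  apply Cfsg.Agent.Lib.Helper19.mem_normalizer_of_forall_conj_mem
  have hQn : (pCore 2 G).Normal := Cfsg.Agent.Lib.Helper17.pCore_normal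
  have hle : thompsonSubgroupOf 2 (S : Subgroup G) ≤
      (thompsonSubgroupOf 2 (S : Subgroup G)).comap (MulAut.conj g).toMonoidHom := by
    conv_lhs => rw [Cfsg.Agent.Lib.Helper27.thompsonSubgroupOf_eq_sSup]
    refine sSup_le fun A hA => ?_
    have hAQ := maxEA_le_pCore hS4 hO S hcl A hA
    have hA' : Cfsg.Agent.Lib.Helper27.cj g A ∈
        Cfsg.Agent.Lib.Helper27.maxEA 2 (S : Subgroup G) := by
      refine ⟨?_, Cfsg.Agent.Lib.Helper27.isElementaryAbelian_cj g hA.2.1, fun B hBS hB => ?_⟩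
      · rintro _ ⟨a, ha, rfl⟩
        exact Cfsg.Agent.Lib.Helper17.pCore_le_sylow S (hQn.conj_mem a (hAQ ha) g)
      · rw [Cfsg.Agent.Lib.Helper27.card_cj]
        exact hA.2.2 B hBS hB
    intro a ha
    rw [Subgroup.mem_comap, Cfsg.Agent.Lib.Helper27.thompsonSubgroupOf_eq_sSup]
    exact (le_sSup hA') ⟨a, ha, rfl⟩
  intro a ha
  exact hle ha

/-- The factorization modulo a normal subgroup `O` of odd order with `O_{2'}(G/O) = 1`. -/
theorem je_factorization_aux [Finite G] [Group.IsSolvable G]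
    (hS4 : ¬ Cfsg.Involves (Equiv.Perm (Fin 4)) G) (O : Subgroup G) [hOn : O.Normal]
    (hOodd : (Nat.card O).Coprime 2) (hO : pPrimeCore 2 (G ⧸ O) = ⊥) (S : Sylow 2 G)
    (hcl : ∀ a ∈ (S : Subgroup G), ∀ b ∈ (S : Subgroup G), ∀ c ∈ (S : Subgroup G),
      (a * b * a⁻¹ * b⁻¹) * c = c * (a * b * a⁻¹ * b⁻¹)) (g : G) :
    g ∈ Subgroup.normalizer ((thompsonSubgroupOf 2 (S : Subgroup G) : Subgroup G) : Set G) ⊔ O := by
  classical
  have : Fact (Nat.Prime 2) := ⟨Nat.prime_two⟩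
  obtain ⟨π, hπdef⟩ : ∃ π : G →* G ⧸ O, π = QuotientGroup.mk' O := ⟨_, rfl⟩
  have hπs : Function.Surjective π := hπdef ▸ QuotientGroup.mk'_surjective O
  have hπker : ∀ g : G, π g = 1 ↔ g ∈ O := by
    intro g
    rw [hπdef]
    exact QuotientGroup.eq_one_iff g
  have hinj : ∀ x ∈ (S : Subgroup G), π x = 1 → x = 1 := by
    intro x hx hx1
    rw [hπker] at hx1
    obtain ⟨k, hk⟩ := S.isPGroup' ⟨x, hx⟩
    have hxk : x ^ (2 ^ k) = 1 := congrArg Subtype.val hk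
    have d1 : orderOf x ∣ Nat.card O := Subgroup.orderOf_dvd_natCard O hx1
    have d2 : orderOf x ∣ 2 ^ k := orderOf_dvd_of_pow_eq_one hxk
    have hcop : Nat.Coprime (Nat.card O) (2 ^ k) := Nat.Coprime.pow_right k hOodd
    exact orderOf_eq_one_iff.mp (Nat.Coprime.eq_one_of_dvd (hcop.coprime_dvd_left d1) d2)
  obtain ⟨Sb, hSbdef⟩ : ∃ Sb : Sylow 2 (G ⧸ O), (Sb : Subgroup (G ⧸ O)) = (S : Subgroup G).map π :=
    ⟨S.mapSurjective hπs, rfl⟩
  have hclb : ∀ a ∈ (Sb : Subgroup (G ⧸ O)), ∀ b ∈ (Sb : Subgroup (G ⧸ O)),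
      ∀ c ∈ (Sb : Subgroup (G ⧸ O)), (a * b * a⁻¹ * b⁻¹) * c = c * (a * b * a⁻¹ * b⁻¹) := by
    rw [hSbdef]
    rintro _ ⟨a, ha, rfl⟩ _ ⟨b, hb, rfl⟩ _ ⟨c, hc, rfl⟩
    simp only [← map_mul, ← map_inv]
    rw [hcl a ha b hb c hc]
  have hS4b : ¬ Cfsg.Involves (Equiv.Perm (Fin 4)) (G ⧸ O) := fun h =>
    hS4 (involves_of_quotient O h)
  have hN := thompson_normalizer_eq_top hS4b hO Sb hclb
  rw [hSbdef, Cfsg.Agent.Lib.Helper1.thompsonSubgroupOf_map_of_injOn 2 π (S : Subgroup G) hinj]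
    at hN
  obtain ⟨J, hJdef⟩ : ∃ J : Subgroup G, J = thompsonSubgroupOf 2 (S : Subgroup G) := ⟨_, rfl⟩
  rw [← hJdef] at hN ⊢
  have hJS : J ≤ S := hJdef ▸ Cfsg.Agent.Lib.Helper27.thompsonSubgroupOf_le 2 (S : Subgroup G)
  have hJbn : (J.map π).Normal :=
    Subgroup.normalizer_eq_top_iff.mp (eq_top_iff.mpr fun x _ => hN x)
  obtain ⟨C, hCdef⟩ : ∃ C : Subgroup G, C = (J.map π).comap π := ⟨_, rfl⟩
  have hCn : C.Normal := by
    rw [hCdef]
    exact Subgroup.Normal.comap hJbn π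
  have hCmem : ∀ x, x ∈ C ↔ ∃ j ∈ J, π j = π x := by
    intro x
    rw [hCdef, Subgroup.mem_comap, Subgroup.mem_map]
  have hSC : (S : Subgroup G) ⊓ C = J := by
    apply le_antisymm
    · intro x hx
      obtain ⟨hxS, hxC⟩ := Subgroup.mem_inf.mp hx
      obtain ⟨j, hj, hjx⟩ := (hCmem x).mp hxC
      have h1 : j⁻¹ * x = 1 := by
        apply hinj _ (Subgroup.mul_mem _ (Subgroup.inv_mem _ (hJS hj)) hxS)
        rw [map_mul, map_inv, hjx, inv_mul_cancel]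
      have h2 : x = j := by
        calc x = j * (j⁻¹ * x) := by group
          _ = j := by rw [h1, mul_one]
      rw [h2]
      exact hj
    · intro x hx
      exact Subgroup.mem_inf.mpr ⟨hJS hx, (hCmem x).mpr ⟨x, hx, rfl⟩⟩
  obtain ⟨a, ha, c, hc, rfl⟩ := frattini_sylow_inf_normal S C g
  rw [hSC] at ha
  obtain ⟨j, hj, hjc⟩ := (hCmem c).mp hc
  have hjO : j⁻¹ * c ∈ O := by
    rw [← hπker, map_mul, map_inv, hjc, inv_mul_cancel]
  have e : a * c = (a * j) * (j⁻¹ * c) := by group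
  rw [e]
  exact Subgroup.mul_mem _
    (Subgroup.mem_sup_left (Subgroup.mul_mem _ ha (Subgroup.le_normalizer hj)))
    (Subgroup.mem_sup_right hjO)

/-- A finite solvable group without sections isomorphic to the symmetric group of degree four
whose Sylow `2`-subgroup `S` has class at most two is the product of the normaliser of the
subgroup generated by the elementary abelian subgroups of largest order of `S` and the largest
normal subgroup of odd order. -/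
theorem je_factorization [Finite G] [Group.IsSolvable G]
    (hS4 : ¬ Cfsg.Involves (Equiv.Perm (Fin 4)) G) (S : Sylow 2 G)
    (hcl : Subgroup.lowerCentralSeries (S : Subgroup G) 2 = ⊥) :
    Subgroup.normalizer ((thompsonSubgroupOf 2 (S : Subgroup G)) : Set G) ⊔ pPrimeCore 2 G = ⊤ := by
  have hOn : (pPrimeCore 2 G).Normal := Cfsg.Agent.Lib.Helper1.pPrimeCore_normal 2
  have hcl' : ∀ a ∈ (S : Subgroup G), ∀ b ∈ (S : Subgroup G), ∀ c ∈ (S : Subgroup G),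
      (a * b * a⁻¹ * b⁻¹) * c = c * (a * b * a⁻¹ * b⁻¹) := by
    intro a ha b hb c hc
    have h2 : Subgroup.lowerCentralSeries (S : Subgroup G) 2 =
        ⁅⁅(S : Subgroup G), (S : Subgroup G)⁆, (S : Subgroup G)⁆ := rfl
    have h1 : ⁅⁅a, b⁆, c⁆ ∈ Subgroup.lowerCentralSeries (S : Subgroup G) 2 := by
      rw [h2]
      exact Subgroup.commutator_mem_commutator (Subgroup.commutator_mem_commutator ha hb) hc
    rw [hcl, Subgroup.mem_bot] at h1
    exact commutatorElement_eq_one_iff_mul_comm.mp h1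
  rw [eq_top_iff]
  intro g _
  exact je_factorization_aux hS4 (pPrimeCore 2 G) (Cfsg.Agent.Lib.Helper18.pPrimeCore_card_coprime 2)
    (Cfsg.Agent.Lib.Helper11.pPrimeCore_quotient_eq_bot 2) S hcl' g

end Cfsg.Agent.Lib.Helper17
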