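import Cfsg.Agent.Lib.Helper18.FStarComm

set_option autoImplicit false
open Cfsg

namespace Cfsg.Agent.Lib.Helper17

open scoped commutatorElement

universe u

variable {G : Type u} [Group G]

/-- Relative version of the dichotomy for a component `K` of a subgroup `H` under a subgroup
`Y` of the ambient group normalising `H`. -/
theorem rel_component_commutator [Finite G] {H : Subgroup G} {K : Subgroup ↥H}
    (hK : IsComponent K) (Y : Subgroup G) (hYH : Y ≤ Subgroup.normalizer (H : Set G)) :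
    ⁅K.map H.subtype, Y⁆ = ⊥ ∨ K.map H.subtype ≤ ⁅K.map H.subtype, Y⁆ := by
  obtain ⟨K', hK'⟩ : ∃ K' : Subgroup G, K' = K.map H.subtype := ⟨_, rfl⟩
  rw [← hK']
  have hperf : ⁅K', K'⁆ = K' := by
    have h1 := Cfsg.Agent.Lib.Helper11.component_perfect hK
    have h2 := congrArg (Subgroup.map H.subtype) h1
    rw [Subgroup.map_commutator] at h2
    rw [hK']; exact h2
  have hqs : IsQuasisimple ↥K' := by
    rw [hK']
    exact Cfsg.Agent.Lib.Helper11.qs_of_mulEquiv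
      (K.equivMapOfInjective H.subtype H.subtype_injective) hK.2
  by_cases hY : Y ≤ Subgroup.normalizer (K' : Set G)
  · by_cases hne : ⁅K', Y⁆ = K'
    · right; exact hne.ge
    · left
      have h1 : ⁅K', Y⁆ ≤ Subgroup.centralizer (K' : Set G) :=
        Cfsg.Agent.Lib.Helper18.qs_normal_le_centralizer hqs
          (Cfsg.Agent.Lib.Helper18.commutator_le_of_le_normalizer' hY)
          (Cfsg.Agent.Lib.Helper18.le_normalizer_commutator_left K' Y) hne
      have h2 : ⁅⁅Y, K'⁆, K'⁆ = ⊥ := by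
        rw [Subgroup.commutator_comm Y K']
        exact Subgroup.commutator_eq_bot_iff_le_centralizer.mpr h1
      exact Cfsg.Agent.Lib.Helper11.perfect_comm_of_triple hperf h2
  · right
    obtain ⟨y, hyY, hyL⟩ := SetLike.not_le_iff_exists.mp hY
    obtain ⟨ψ, hψ⟩ := Cfsg.Agent.Lib.Helper1.exists_conj_equiv (hYH hyY)
    have hKψ : IsComponent (K.map ψ.toMonoidHom) :=
      Cfsg.Agent.Lib.Helper11.component_map_equiv hK ψ
    have hne : K ≠ K.map ψ.toMonoidHom := by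
      intro e
      apply hyL
      apply Cfsg.Agent.Lib.Helper18.mem_normalizer_of_map_conj_eq
      rw [hK']
      ext x
      constructor
      · rintro ⟨_, ⟨k, hk, rfl⟩, rfl⟩
        refine ⟨ψ k, ?_, ?_⟩
        · have : ψ k ∈ K.map ψ.toMonoidHom := ⟨k, hk, rfl⟩
          rw [← e] at this
          exact this
        · rw [Subgroup.coe_subtype, hψ]
          simp
      · rintro ⟨k, hk, rfl⟩
        have hk' : k ∈ K.map ψ.toMonoidHom := by rw [← e]; exact hk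
        obtain ⟨k0, hk0, rfl⟩ := hk'
        refine ⟨(k0 : G), ⟨k0, hk0, rfl⟩, ?_⟩
        have := hψ k0
        show (MulAut.conj y) (k0 : G) = ((ψ k0 : ↥H) : G)
        rw [this]
        simp
    have hcomm := Cfsg.Agent.Lib.Helper11.components_comm hK hKψ hne
    rw [Subgroup.commutator_eq_bot_iff_le_centralizer] at hcomm
    have hcomm' : ∀ a ∈ K', ∀ k ∈ K', (y * k * y⁻¹) * a = a * (y * k * y⁻¹) := by
      intro a ha k hk
      rw [hK'] at ha hk
      obtain ⟨a0, ha0, rfl⟩ := ha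
      obtain ⟨k0, hk0, rfl⟩ := hk
      have h1 : ψ k0 ∈ K.map ψ.toMonoidHom := ⟨k0, hk0, rfl⟩
      have h2 := Subgroup.mem_centralizer_iff.mp (hcomm ha0) (ψ k0) h1
      have h3 := congrArg Subtype.val h2
      simp only [Subgroup.coe_mul, hψ] at h3
      simp only [Subgroup.coe_subtype]
      exact h3
    have hLn := Cfsg.Agent.Lib.Helper18.le_normalizer_commutator_left K' Y
    conv_lhs => rw [← hperf]
    rw [Subgroup.commutator_le]
    intro a ha k hk
    have h1 : ⁅k, y⁆ ∈ ⁅K', Y⁆ := Subgroup.commutator_mem_commutator hk hyY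
    have h2 : a * ⁅k, y⁆ * a⁻¹ ∈ ⁅K', Y⁆ :=
      (Subgroup.mem_normalizer_iff.mp (hLn ha) _).mp h1
    have h4 : (y * k⁻¹ * y⁻¹) * a⁻¹ = a⁻¹ * (y * k⁻¹ * y⁻¹) :=
      hcomm' a⁻¹ (K'.inv_mem ha) k⁻¹ (K'.inv_mem hk)
    have h5 : ⁅a, k⁆ = (a * ⁅k, y⁆ * a⁻¹) * ⁅k, y⁆⁻¹ := by
      rw [commutatorElement_def, commutatorElement_def]
      calc a * k * a⁻¹ * k⁻¹
          = a * k * (a⁻¹ * (y * k⁻¹ * y⁻¹)) * (y * k * y⁻¹) * k⁻¹ := by group
        _ = a * k * ((y * k⁻¹ * y⁻¹) * a⁻¹) * (y * k * y⁻¹) * k⁻¹ := by rw [h4]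
        _ = a * (k * y * k⁻¹ * y⁻¹) * a⁻¹ * (k * y * k⁻¹ * y⁻¹)⁻¹ := by group
    rw [h5]
    exact Subgroup.mul_mem _ h2 (Subgroup.inv_mem _ h1)

/-- Coprime-style splitting for a subnormal subgroup `L` of `H` inside `F*(H)` under a
`p`-subgroup `Y` normalising `H` and `L`, when `O_p(H) = 1`. -/
theorem fstar_rel_splitting [Finite G] {p : ℕ} [Fact p.Prime] (H : Subgroup G)
    (hO : Cfsg.pCore p ↥H = ⊥) (Y : Subgroup G) (hY : IsPGroup p ↥Y)
    (hYH : Y ≤ Subgroup.normalizer (H : Set G)) (L : Subgroup G)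
    (hLF : L ≤ (Cfsg.generalizedFittingSubgroup ↥H).map H.subtype)
    (hLsn : (L.subgroupOf H).IsSubnormal) (hYL : Y ≤ Subgroup.normalizer (L : Set G)) :
    ⁅L, Y⁆ ⊔ (L ⊓ Subgroup.centralizer (Y : Set G)) = L ∧ ⁅L, Y⁆ = ⁅⁅L, Y⁆, Y⁆ := by
  classical
  have hLH : L ≤ H := hLF.trans (Subgroup.map_subtype_le _)
  have hSmap : (L.subgroupOf H).map H.subtype = L := by
    rw [Subgroup.subgroupOf_map_subtype, inf_of_le_left hLH]
  -- the Fitting part
  obtain ⟨D, hD⟩ : ∃ D : Subgroup G,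
      D = (Cfsg.fittingSubgroup ↥H).map H.subtype ⊓ L := ⟨_, rfl⟩
  have hDL : D ≤ L := hD ▸ inf_le_right
  have hDF : D ≤ (Cfsg.fittingSubgroup ↥H).map H.subtype := hD ▸ inf_le_left
  have hYD : Y ≤ Subgroup.normalizer (D : Set G) := by
    rw [hD]
    refine le_trans ?_ (Cfsg.Agent.Lib.Helper18.normalizer_inf_le _ _)
    exact le_inf (hYH.trans (Cfsg.Agent.Lib.Helper11.fitOf_normalizer H)) hYL
  have hDcop : (Nat.card ↥Y).Coprime (Nat.card ↥D) := by
    have h1 := Cfsg.Agent.Lib.Helper18.card_fitting_coprime hO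
    have h2 : Nat.card ↥((Cfsg.fittingSubgroup ↥H).map H.subtype) =
        Nat.card ↥(Cfsg.fittingSubgroup ↥H) :=
      Subgroup.card_map_of_injective H.subtype_injective
    have h3 : Nat.card ↥D ∣ Nat.card ↥(Cfsg.fittingSubgroup ↥H) := by
      rw [← h2]; exact Subgroup.card_dvd_of_le hDF
    obtain ⟨k, hk⟩ := IsPGroup.iff_card.mp hY
    rw [hk]
    exact Nat.Coprime.pow_left k (Nat.Coprime.coprime_dvd_left h3 h1).symm
  have hsolv : Group.IsSolvable ↥Y ∨ Group.IsSolvable ↥D := by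
    left
    have : Group.IsNilpotent ↥Y := hY.isNilpotent
    exact IsNilpotent.to_isSolvable
  have hD1 := Cfsg.Agent.Lib.Helper1.coprime_commutator_sup Y D hYD hDcop hsolv
  have hD2 := Cfsg.Agent.Lib.Helper1.coprime_commutator_commutator Y D hYD hDcop hsolv
  -- the components
  obtain ⟨E₁, hE₁⟩ : ∃ E₁ : Subgroup G,
      E₁ = sSup {K' : Subgroup G | ∃ K : Subgroup ↥H, IsComponent K ∧ K' = K.map H.subtype ∧
        K' ≤ L ∧ K' ≤ ⁅K', Y⁆} := ⟨_, rfl⟩
  obtain ⟨E₀, hE₀⟩ : ∃ E₀ : Subgroup G,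
      E₀ = sSup {K' : Subgroup G | ∃ K : Subgroup ↥H, IsComponent K ∧ K' = K.map H.subtype ∧
        K' ≤ L ∧ ⁅K', Y⁆ = ⊥} := ⟨_, rfl⟩
  have hE₁L : E₁ ≤ L := by
    rw [hE₁]; apply sSup_le; rintro K' ⟨K, -, -, h, -⟩; exact h
  have hE₀L : E₀ ≤ L := by
    rw [hE₀]; apply sSup_le; rintro K' ⟨K, -, -, h, -⟩; exact h
  have hE₀Y : E₀ ≤ Subgroup.centralizer (Y : Set G) := by
    rw [hE₀]; apply sSup_le; rintro K' ⟨K, -, -, -, h⟩
    exact Subgroup.commutator_eq_bot_iff_le_centralizer.mp h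
  have hE₁c : E₁ ≤ ⁅L, Y⁆ := by
    rw [hE₁]; apply sSup_le; rintro K' ⟨K, -, -, h1, h2⟩
    exact h2.trans (Subgroup.commutator_mono h1 le_rfl)
  have hE₁cc : E₁ ≤ ⁅⁅L, Y⁆, Y⁆ := by
    rw [hE₁]; apply sSup_le; rintro K' ⟨K, -, -, h1, h2⟩
    calc K' ≤ ⁅K', Y⁆ := h2
      _ ≤ ⁅⁅K', Y⁆, Y⁆ := Subgroup.commutator_mono h2 le_rfl
      _ ≤ ⁅⁅L, Y⁆, Y⁆ := Subgroup.commutator_mono (Subgroup.commutator_mono h1 le_rfl) le_rfl
  have hlayH : ∀ K : Subgroup ↥H, IsComponent K →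
      (Cfsg.layer ↥H).map H.subtype ≤ Subgroup.normalizer ((K.map H.subtype : Subgroup G) : Set G) := by
    intro K hK
    have h1 := Cfsg.Agent.Lib.Helper11.layer_le_normalizer_component hK
    rintro _ ⟨e, he, rfl⟩
    have h2 := h1 he
    rw [Subgroup.mem_normalizer_iff]
    intro x
    constructor
    · rintro ⟨k, hk, rfl⟩
      exact ⟨e * k * e⁻¹, (Subgroup.mem_normalizer_iff.mp h2 k).mp hk, by simp⟩
    · rintro ⟨k, hk, hkx⟩
      have hxH : x ∈ H := by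
        have h3 : (H.subtype e)⁻¹ * (H.subtype e * x * (H.subtype e)⁻¹) * H.subtype e ∈ H :=
          H.mul_mem (H.mul_mem (H.inv_mem e.2) (hkx ▸ k.2)) e.2
        simpa [mul_assoc] using h3
      refine ⟨⟨x, hxH⟩, ?_, rfl⟩
      have h4 : e * ⟨x, hxH⟩ * e⁻¹ = k := by
        apply Subtype.ext
        simpa using hkx.symm
      exact (Subgroup.mem_normalizer_iff.mp h2 _).mpr (h4 ▸ hk)
  have hE₀lay : E₀ ≤ (Cfsg.layer ↥H).map H.subtype := by
    rw [hE₀]; apply sSup_le; rintro K' ⟨K, hK, rfl, -, -⟩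
    exact Subgroup.map_mono (Cfsg.Agent.Lib.Helper11.component_le_layer hK)
  have hE₁lay : E₁ ≤ (Cfsg.layer ↥H).map H.subtype := by
    rw [hE₁]; apply sSup_le; rintro K' ⟨K, hK, rfl, -, -⟩
    exact Subgroup.map_mono (Cfsg.Agent.Lib.Helper11.component_le_layer hK)
  have hnorm : E₀ ≤ Subgroup.normalizer (E₁ : Set G) := by
    rw [hE₁]
    apply Cfsg.Agent.Lib.Helper18.le_normalizer_sSup
    rintro K' ⟨K, hK, rfl, -, -⟩
    exact hE₀lay.trans (hlayH K hK)
  -- `D` commutes with the layer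
  have hcommFE : ∀ e ∈ (Cfsg.layer ↥H).map H.subtype, ∀ f ∈ D, f * e = e * f := by
    have h1 := Cfsg.Agent.Lib.Helper11.layer_comm_fitting (G := ↥H)
    rw [Subgroup.commutator_eq_bot_iff_le_centralizer] at h1
    rintro _ ⟨e, he, rfl⟩ f hf
    obtain ⟨f0, hf0, rfl⟩ := hDF hf
    have h2 := Subgroup.mem_centralizer_iff.mp (h1 he) f0 hf0
    exact congrArg Subtype.val h2
  -- decomposition of `L`
  have hdec : L ≤ (E₀ ⊔ E₁) ⊔ D := by
    have h1 := Cfsg.Agent.Lib.Helper11.genFitting_subnormal_le hLsn (by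
      intro s hs
      have h2 : (s : G) ∈ (Cfsg.generalizedFittingSubgroup ↥H).map H.subtype :=
        hLF (Subgroup.mem_subgroupOf.mp hs)
      obtain ⟨t, ht, hts⟩ := h2
      have : t = s := Subtype.ext hts
      rw [← this]; exact ht)
    have h2 := Subgroup.map_mono (f := H.subtype) h1
    rw [hSmap, Subgroup.map_sup] at h2
    refine h2.trans (sup_le ?_ ?_)
    · refine le_trans ?_ le_sup_right
      rw [hD]
      rintro _ ⟨s, ⟨hs1, hs2⟩, rfl⟩
      exact ⟨⟨s, hs1, rfl⟩, Subgroup.mem_subgroupOf.mp hs2⟩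
    · refine le_trans ?_ le_sup_left
      unfold Cfsg.Agent.Lib.Helper11.layOf Cfsg.layer
      rw [Subgroup.map_le_iff_le_comap, Subgroup.map_le_iff_le_comap]
      apply sSup_le
      intro K hK
      rw [← Subgroup.map_le_iff_le_comap, ← Subgroup.map_le_iff_le_comap]
      have hK1 : IsComponent (K.map (L.subgroupOf H).subtype) :=
        Cfsg.Agent.Lib.Helper11.component_map_subtype hLsn hK
      have hK1L : (K.map (L.subgroupOf H).subtype).map H.subtype ≤ L := by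
        rintro _ ⟨_, ⟨k, -, rfl⟩, rfl⟩
        exact Subgroup.mem_subgroupOf.mp k.2
      rcases rel_component_commutator hK1 Y hYH with h | h
      · refine le_trans ?_ le_sup_left
        rw [hE₀]
        exact le_sSup ⟨_, hK1, rfl, hK1L, h⟩
      · refine le_trans ?_ le_sup_right
        rw [hE₁]
        exact le_sSup ⟨_, hK1, rfl, hK1L, h⟩
  have hYM : Y ≤ Subgroup.normalizer ((⁅⁅L, Y⁆, Y⁆ : Subgroup G) : Set G) :=
    Cfsg.Agent.Lib.Helper18.le_normalizer_commutator_right _ Y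
  have hLY : ⁅L, Y⁆ ≤ L := Cfsg.Agent.Lib.Helper18.commutator_le_of_le_normalizer' hYL
  constructor
  · apply le_antisymm (sup_le hLY inf_le_left)
    refine hdec.trans (sup_le (sup_le ?_ ?_) ?_)
    · exact le_trans (le_inf hE₀L hE₀Y) le_sup_right
    · exact hE₁c.trans le_sup_left
    · rw [← hD1]
      exact sup_le ((Subgroup.commutator_mono hDL le_rfl).trans le_sup_left)
        ((inf_le_inf_right _ hDL).trans le_sup_right)
  · apply le_antisymm
    · rw [Subgroup.commutator_le]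
      intro l hl y hy
      have hED : D ≤ Subgroup.normalizer ((E₀ ⊔ E₁ : Subgroup G) : Set G) := by
        intro f hf
        rw [Subgroup.mem_normalizer_iff]
        intro e
        have key : ∀ e ∈ E₀ ⊔ E₁, f * e * f⁻¹ = e := by
          intro e he
          have := hcommFE e ((sup_le hE₀lay hE₁lay) he) f hf
          rw [this, mul_inv_cancel_right]
        constructor
        · intro he; rw [key e he]; exact he
        · intro he
          have h1 := key _ he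
          have h2 : e = f * e * f⁻¹ := by
            have := hcommFE (f * e * f⁻¹) ((sup_le hE₀lay hE₁lay) he) f⁻¹
              (D.inv_mem hf)
            have h3 : f⁻¹ * (f * e * f⁻¹) * f = f * e * f⁻¹ := by
              rw [this]; group
            rw [← h3]; group
          rw [h2]; exact he
      obtain ⟨e, he, f, hf, rfl⟩ :=
        Cfsg.Agent.Lib.Helper11.mem_sup_of_le_normalizer hED (hdec hl)
      obtain ⟨e₀, he₀, e₁, he₁, rfl⟩ :=
        Cfsg.Agent.Lib.Helper18.mem_sup_of_le_normalizer hnorm he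
      have hfy : ⁅f, y⁆ ∈ ⁅D, Y⁆ := Subgroup.commutator_mem_commutator hf hy
      have hfyD : ⁅f, y⁆ ∈ D :=
        Cfsg.Agent.Lib.Helper18.commutator_le_of_le_normalizer' hYD hfy
      have hfyM : ⁅f, y⁆ ∈ ⁅⁅L, Y⁆, Y⁆ := by
        rw [← hD2] at hfy
        exact Subgroup.commutator_mono (Subgroup.commutator_mono hDL le_rfl) le_rfl hfy
      have h1 : ⁅f, y⁆ * (e₀ * e₁) = (e₀ * e₁) * ⁅f, y⁆ :=
        hcommFE _ ((sup_le hE₀lay hE₁lay) he) _ hfyD
      have h2 : ⁅e₀ * e₁ * f, y⁆ = ⁅f, y⁆ * ⁅e₀ * e₁, y⁆ := by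
        have h3 : ⁅e₀ * e₁ * f, y⁆ = (e₀ * e₁) * ⁅f, y⁆ * (e₀ * e₁)⁻¹ * ⁅e₀ * e₁, y⁆ := by
          simp only [commutatorElement_def]; group
        rw [h3, ← h1, mul_inv_cancel_right]
      have h4 : y * e₀⁻¹ = e₀⁻¹ * y :=
        Subgroup.mem_centralizer_iff.mp (hE₀Y (E₀.inv_mem he₀)) y hy
      have h4' : e₀⁻¹ * y * e₀ = y := by rw [← h4, inv_mul_cancel_right]
      have h5 : ⁅e₀ * e₁, y⁆ = (e₀ * e₁ * e₀⁻¹) * (y * (e₀ * e₁ * e₀⁻¹)⁻¹ * y⁻¹) := by
        rw [commutatorElement_def]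
        calc e₀ * e₁ * y * (e₀ * e₁)⁻¹ * y⁻¹
            = e₀ * e₁ * y * e₁⁻¹ * e₀⁻¹ * y⁻¹ := by group
          _ = e₀ * e₁ * (e₀⁻¹ * y * e₀) * e₁⁻¹ * e₀⁻¹ * y⁻¹ := by rw [h4']
          _ = (e₀ * e₁ * e₀⁻¹) * (y * (e₀ * e₁ * e₀⁻¹)⁻¹ * y⁻¹) := by group
      have h6 : e₀ * e₁ * e₀⁻¹ ∈ E₁ :=
        (Subgroup.mem_normalizer_iff.mp (hnorm he₀) e₁).mp he₁
      have h7 : y * (e₀ * e₁ * e₀⁻¹)⁻¹ * y⁻¹ ∈ ⁅⁅L, Y⁆, Y⁆ :=
        (Subgroup.mem_normalizer_iff.mp (hYM hy) _).mp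
          (Subgroup.inv_mem _ (hE₁cc h6))
      rw [h2, h5]
      exact Subgroup.mul_mem _ hfyM (Subgroup.mul_mem _ (hE₁cc h6) h7)
    · exact Subgroup.commutator_mono hLY le_rfl

end Cfsg.Agent.Lib.Helper17
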