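import Mathlib

set_option autoImplicit false

namespace Cfsg.Agent.Lib.Helper17

open scoped commutatorElement

section lcs

theorem hp_three_sub {G : Type*} [Group G] {A B C N : Subgroup G} [N.Normal]
    (h1 : ⁅⁅A, B⁆, C⁆ ≤ N) (h2 : ⁅⁅B, C⁆, A⁆ ≤ N) : ⁅⁅C, A⁆, B⁆ ≤ N := by
  have key : ∀ X : Subgroup G, X.map (QuotientGroup.mk' N) = ⊥ ↔ X ≤ N := by
    intro X
    rw [Subgroup.map_eq_bot_iff, QuotientGroup.ker_mk']
  rw [← key, Subgroup.map_commutator, Subgroup.map_commutator] at h1 h2 ⊢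
  exact Subgroup.commutator_commutator_eq_bot_of_rotate h1 h2

theorem hp_lcs_mono {G : Type*} [Group G] {S T : Subgroup G} (h : S ≤ T) :
    ∀ n : ℕ, S.lowerCentralSeries n ≤ T.lowerCentralSeries n := by
  intro n
  induction n with
  | zero => exact h
  | succ n ih => exact Subgroup.commutator_mono ih h

theorem hp_lcs_comm {K : Type*} [Group K] : ∀ j i : ℕ,
    ⁅(⊤ : Subgroup K).lowerCentralSeries i, (⊤ : Subgroup K).lowerCentralSeries j⁆ ≤
      (⊤ : Subgroup K).lowerCentralSeries (i + j + 1) := by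
  intro j
  induction j with
  | zero =>
    intro i
    exact le_refl _
  | succ j ih =>
    intro i
    have h1 : ⁅⁅(⊤ : Subgroup K), (⊤ : Subgroup K).lowerCentralSeries i⁆,
        (⊤ : Subgroup K).lowerCentralSeries j⁆ ≤
        (⊤ : Subgroup K).lowerCentralSeries (i + (j + 1) + 1) := by
      rw [Subgroup.commutator_comm (⊤ : Subgroup K)]
      have h := ih (i + 1)
      rw [show i + 1 + j + 1 = i + (j + 1) + 1 by omega] at h
      exact h
    have h2 : ⁅⁅(⊤ : Subgroup K).lowerCentralSeries i, (⊤ : Subgroup K).lowerCentralSeries j⁆,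
        (⊤ : Subgroup K)⁆ ≤ (⊤ : Subgroup K).lowerCentralSeries (i + (j + 1) + 1) := by
      have h := Subgroup.commutator_mono (ih i) (le_refl (⊤ : Subgroup K))
      exact h
    have h3 := hp_three_sub h1 h2
    rw [Subgroup.commutator_comm]
    exact h3

/-- The filtration `K, K, γ₂(K), γ₃(K), …`. -/
def hpF (K : Type*) [Group K] (j : ℕ) : Subgroup K := (⊤ : Subgroup K).lowerCentralSeries (j - 1)

theorem hpF_anti (K : Type*) [Group K] : Antitone (hpF K) := by
  intro i j h
  exact Subgroup.lowerCentralSeries_antitone (⊤ : Subgroup K) (by omega : i - 1 ≤ j - 1)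

theorem hpF_normal (K : Type*) [Group K] (j : ℕ) : (hpF K j).Normal := by
  unfold hpF
  infer_instance

theorem hpF_comm (K : Type*) [Group K] (i j : ℕ) : ⁅hpF K i, hpF K j⁆ ≤ hpF K (i + j) := by
  have hNi := hpF_normal K i
  have hNj := hpF_normal K j
  rcases Nat.eq_zero_or_pos i with rfl | hi
  · rw [Nat.zero_add]
    exact Subgroup.commutator_le_right _ _
  · rcases Nat.eq_zero_or_pos j with rfl | hj
    · rw [Nat.add_zero]
      exact Subgroup.commutator_le_left _ _
    · have h := hp_lcs_comm (K := K) (j - 1) (i - 1)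
      unfold hpF
      rw [show i + j - 1 = i - 1 + (j - 1) + 1 by omega]
      exact h

end lcs

section poly

variable {K : Type*} [Group K] (F : ℕ → Subgroup K)

/-- `hpPoly F r j f`: the `k`-th difference of `f` takes values in `F (j + k)` for `k ≤ r`. -/
def hpPoly : ℕ → ℕ → (ℕ → K) → Prop
  | 0, j, f => ∀ n, f n ∈ F j
  | r + 1, j, f => (∀ n, f n ∈ F j) ∧ hpPoly r (j + 1) (fun n => f (n + 1) * (f n)⁻¹)

theorem hpPoly_val {r j : ℕ} {f : ℕ → K} (h : hpPoly F r j f) : ∀ n, f n ∈ F j := by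
  cases r with
  | zero => exact h
  | succ r => exact h.1

theorem hpPoly_congr {r j : ℕ} {f g : ℕ → K} (hfg : ∀ n, f n = g n) (h : hpPoly F r j f) :
    hpPoly F r j g := by
  have e : f = g := funext hfg
  rw [← e]
  exact h

theorem hpPoly_mono (hanti : Antitone F) : ∀ (r : ℕ) {j j' : ℕ} {f : ℕ → K}, j ≤ j' →
    hpPoly F r j' f → hpPoly F r j f := by
  intro r
  induction r with
  | zero =>
    intro j j' f hj h n
    exact hanti hj (h n)
  | succ r ih =>
    intro j j' f hj h
    exact ⟨fun n => hanti hj (h.1 n), ih (by omega) h.2⟩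

theorem hpPoly_shift : ∀ (r : ℕ) {j : ℕ} {f : ℕ → K}, hpPoly F r j f →
    hpPoly F r j (fun n => f (n + 1)) := by
  intro r
  induction r with
  | zero =>
    intro j f h n
    exact h (n + 1)
  | succ r ih =>
    intro j f h
    exact ⟨fun n => h.1 (n + 1), ih h.2⟩

theorem hpPoly_lower : ∀ (r : ℕ) {j : ℕ} {f : ℕ → K}, hpPoly F (r + 1) j f →
    hpPoly F r j f := by
  intro r
  induction r with
  | zero =>
    intro j f h
    exact h.1
  | succ r ih =>
    intro j f h
    exact ⟨h.1, ih h.2⟩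

theorem hpPoly_main (hanti : Antitone F) (hcomm : ∀ i j, ⁅F i, F j⁆ ≤ F (i + j)) : ∀ r : ℕ,
    (∀ (j : ℕ) (f g : ℕ → K), hpPoly F r j f → hpPoly F r j g →
      hpPoly F r j (fun n => f n * g n)) ∧
    (∀ (i j : ℕ) (f g : ℕ → K), hpPoly F r i f → hpPoly F r j g →
      hpPoly F r (i + j) (fun n => ⁅f n, g n⁆)) := by
  intro r
  induction r with
  | zero =>
    constructor
    · intro j f g hf hg n
      exact (F j).mul_mem (hf n) (hg n)
    · intro i j f g hf hg n
      exact hcomm i j (Subgroup.commutator_mem_commutator (hf n) (hg n))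
  | succ r ih =>
    obtain ⟨ihP, ihC⟩ := ih
    have mono : ∀ {j j' : ℕ} {f : ℕ → K}, j ≤ j' → hpPoly F r j' f → hpPoly F r j f :=
      fun h hf => hpPoly_mono F hanti r h hf
    constructor
    · intro j f g hf hg
      refine ⟨fun n => (F j).mul_mem (hf.1 n) (hg.1 n), ?_⟩
      have hSf : hpPoly F r j (fun n => f (n + 1)) := hpPoly_shift F r (hpPoly_lower F r hf)
      have h1 := ihC j (j + 1) _ _ hSf hg.2
      have h2 := ihP (j + 1) _ _ (mono (by omega) h1) hg.2
      have h3 := ihP (j + 1) _ _ h2 hf.2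
      refine hpPoly_congr F (fun n => ?_) h3
      show ⁅f (n + 1), g (n + 1) * (g n)⁻¹⁆ * (g (n + 1) * (g n)⁻¹) * (f (n + 1) * (f n)⁻¹) =
        f (n + 1) * g (n + 1) * (f n * g n)⁻¹
      rw [commutatorElement_def]
      group
    · intro i j f g hf hg
      refine ⟨fun n => hcomm i j (Subgroup.commutator_mem_commutator (hf.1 n) (hg.1 n)), ?_⟩
      have hf' := hpPoly_lower F r hf
      have hg' := hpPoly_lower F r hg
      have hSg : hpPoly F r j (fun n => g (n + 1)) := hpPoly_shift F r hg'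
      have ha := hf.2
      have hb := hg.2
      have hc := ihC i j f g hf' hg'
      have hfb := ihC i (j + 1) _ _ hf' hb
      have t1 := ihP (i + j + 1) _ _
        (mono (show i + j + 1 ≤ (i + 1) + (i + (j + 1)) by omega)
          (ihC (i + 1) (i + (j + 1)) _ _ ha hfb))
        (mono (show i + j + 1 ≤ i + (j + 1) by omega) hfb)
      have hbc := ihC (j + 1) (i + j) _ _ hb hc
      have hbcc := ihP (i + j) _ _ (mono (show i + j ≤ (j + 1) + (i + j) by omega) hbc) hc
      have t2 := mono (show i + j + 1 ≤ (i + 1) + (i + j) by omega)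
        (ihC (i + 1) (i + j) _ _ ha hbcc)
      have t3 := mono (show i + j + 1 ≤ (j + 1) + (i + j) by omega) hbc
      have haS := ihC (i + 1) j _ _ ha hSg
      have t4 := ihP (i + j + 1) _ _
        (mono (show i + j + 1 ≤ (i + j) + ((i + 1) + j) by omega)
          (ihC (i + j) ((i + 1) + j) _ _ hc haS))
        (mono (show i + j + 1 ≤ (i + 1) + j by omega) haS)
      have h := ihP (i + j + 1) _ _ (ihP (i + j + 1) _ _ (ihP (i + j + 1) _ _ t1 t2) t3) t4
      refine hpPoly_congr F (fun n => ?_) h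
      simp only [commutatorElement_def]
      group

theorem hpPoly_const : ∀ (r : ℕ) {j : ℕ} {g : K}, g ∈ F j → hpPoly F r j (fun _ => g) := by
  intro r
  induction r with
  | zero =>
    intro j g hg n
    exact hg
  | succ r ih =>
    intro j g hg
    refine ⟨fun _ => hg, hpPoly_congr F (fun n => ?_) (ih (F (j + 1)).one_mem)⟩
    show (1 : K) = g * g⁻¹
    rw [mul_inv_cancel]

theorem hpPoly_pow (hanti : Antitone F) (r : ℕ) {x : K} (hx : x ∈ F 1) :
    hpPoly F r 0 (fun n => x ^ n) := by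
  have hx0 : x ∈ F 0 := hanti (Nat.zero_le 1) hx
  cases r with
  | zero =>
    intro n
    exact (F 0).pow_mem hx0 n
  | succ r =>
    refine ⟨fun n => (F 0).pow_mem hx0 n, hpPoly_congr F (fun n => ?_) (hpPoly_const F r hx)⟩
    show x = x ^ (n + 1) * (x ^ n)⁻¹
    rw [pow_succ', mul_inv_cancel_right]

theorem hpPoly_choose (hanti : Antitone F) : ∀ (k r j : ℕ) {g : K}, g ∈ F (j + k) →
    hpPoly F r j (fun n => g ^ (n.choose k)) := by
  intro k
  induction k with
  | zero =>
    intro r j g hg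
    refine hpPoly_congr F (fun n => ?_) (hpPoly_const F r hg)
    show g = g ^ (n.choose 0)
    rw [Nat.choose_zero_right, pow_one]
  | succ k ih =>
    intro r j g hg
    have hgj : g ∈ F j := hanti (by omega) hg
    cases r with
    | zero =>
      intro n
      exact (F j).pow_mem hgj _
    | succ r =>
      refine ⟨fun n => (F j).pow_mem hgj _, hpPoly_congr F (fun n => ?_)
        (ih r (j + 1) (g := g) (by rwa [show j + 1 + k = j + (k + 1) by omega]))⟩
      show g ^ (n.choose k) = g ^ ((n + 1).choose (k + 1)) * (g ^ (n.choose (k + 1)))⁻¹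
      rw [Nat.choose_succ_succ, pow_add, mul_inv_cancel_right]

theorem hpPoly_vanish : ∀ (m r j : ℕ) (f : ℕ → K), hpPoly F r j f → m ≤ r →
    (∀ n < m, f n = 1) → f m ∈ F (j + m) := by
  intro m
  induction m with
  | zero =>
    intro r j f h _ _
    exact hpPoly_val F h 0
  | succ m ih =>
    intro r j f h hmr hv
    obtain ⟨r', rfl⟩ : ∃ r', r = r' + 1 := ⟨r - 1, by omega⟩
    have h1 := ih r' (j + 1) _ h.2 (by omega) (by
      intro n hn
      show f (n + 1) * (f n)⁻¹ = 1
      rw [hv (n + 1) (by omega), hv n (by omega), inv_one, mul_one])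
    have h2 : f (m + 1) * (f m)⁻¹ = f (m + 1) := by rw [hv m (by omega), inv_one, mul_one]
    have h3 : f (m + 1) * (f m)⁻¹ ∈ F (j + 1 + m) := h1
    rw [h2] at h3
    rwa [show j + (m + 1) = j + 1 + m by omega]

/-- The ordered product `g 1 ^ C(n,1) * g 2 ^ C(n,2) * ⋯ * g m ^ C(n,m)`. -/
def hpProd (g : ℕ → K) : ℕ → ℕ → K
  | 0, _ => 1
  | m + 1, n => hpProd g m n * g (m + 1) ^ (n.choose (m + 1))

theorem hpProd_congr {g g' : ℕ → K} : ∀ (m : ℕ), (∀ k ≤ m, g k = g' k) →
    ∀ n, hpProd g m n = hpProd g' m n := by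
  intro m
  induction m with
  | zero =>
    intro _ n
    rfl
  | succ m ih =>
    intro h n
    show hpProd g m n * g (m + 1) ^ _ = hpProd g' m n * g' (m + 1) ^ _
    rw [ih (fun k hk => h k (by omega)) n, h (m + 1) le_rfl]

theorem hpProd_one (g : ℕ → K) : ∀ m : ℕ, 1 ≤ m → hpProd g m 1 = g 1 := by
  intro m
  induction m with
  | zero =>
    intro h
    omega
  | succ m ih =>
    intro _
    show hpProd g m 1 * g (m + 1) ^ (Nat.choose 1 (m + 1)) = g 1
    rcases Nat.eq_zero_or_pos m with rfl | hm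
    · show (1 : K) * g 1 ^ (Nat.choose 1 1) = g 1
      rw [Nat.choose_self, pow_one, one_mul]
    · rw [ih hm, Nat.choose_eq_zero_of_lt (by omega), pow_zero, mul_one]

theorem hpProd_mem (g : ℕ → K) (W : Subgroup K) (q : ℕ) : ∀ m : ℕ,
    (∀ k, 1 ≤ k → k ≤ m → g k ^ (q.choose k) ∈ W) → hpProd g m q ∈ W := by
  intro m
  induction m with
  | zero =>
    intro _
    exact W.one_mem
  | succ m ih =>
    intro h
    exact W.mul_mem (ih (fun k h1 h2 => h k h1 (by omega))) (h (m + 1) (by omega) le_rfl)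

theorem hp_taylor_step (hanti : Antitone F) (hcomm : ∀ i j, ⁅F i, F j⁆ ≤ F (i + j))
    (f : ℕ → K) (hf : ∀ r, hpPoly F r 0 f) (h0 : f 0 = 1) :
    ∀ m : ℕ, ∃ g : ℕ → K, (∀ k, g k ∈ F k) ∧
      (∀ r, hpPoly F r 0 (fun n => (hpProd g m n)⁻¹ * f n)) ∧
      ∀ n ≤ m, (hpProd g m n)⁻¹ * f n = 1 := by
  intro m
  induction m with
  | zero =>
    refine ⟨fun _ => 1, fun k => (F k).one_mem, fun r => hpPoly_congr F (fun n => ?_) (hf r), ?_⟩
    · show f n = (1 : K)⁻¹ * f n
      rw [inv_one, one_mul]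
    · intro n hn
      obtain rfl : n = 0 := by omega
      show (1 : K)⁻¹ * f 0 = 1
      rw [h0, inv_one, one_mul]
  | succ m ih =>
    obtain ⟨g, hg, hpoly, hvan⟩ := ih
    obtain ⟨u, hu⟩ : ∃ u : K, u = (hpProd g m (m + 1))⁻¹ * f (m + 1) := ⟨_, rfl⟩
    have huF : u ∈ F (m + 1) := by
      have h1 := hpPoly_vanish F (m + 1) (m + 1) 0 _ (hpoly (m + 1)) le_rfl
        (fun n hn => hvan n (by omega))
      rw [hu]
      rw [Nat.zero_add] at h1
      exact h1
    classical
    obtain ⟨g', hg'def⟩ : ∃ g' : ℕ → K, g' = fun k => if k = m + 1 then u else g k := ⟨_, rfl⟩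
    have hg'k : ∀ k ≤ m, g k = g' k := by
      intro k hk
      rw [hg'def]
      show g k = if k = m + 1 then u else g k
      rw [if_neg (by omega)]
    have hg'm : g' (m + 1) = u := by
      rw [hg'def]
      exact if_pos rfl
    have hprod : ∀ n, hpProd g' (m + 1) n = hpProd g m n * u ^ (n.choose (m + 1)) := by
      intro n
      show hpProd g' m n * g' (m + 1) ^ _ = _
      rw [← hpProd_congr m hg'k n, hg'm]
    have heq : ∀ n, (hpProd g' (m + 1) n)⁻¹ * f n =
        u⁻¹ ^ (n.choose (m + 1)) * ((hpProd g m n)⁻¹ * f n) := by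
      intro n
      rw [hprod, mul_inv_rev, inv_pow, mul_assoc]
    refine ⟨g', ?_, ?_, ?_⟩
    · intro k
      rw [hg'def]
      show (if k = m + 1 then u else g k) ∈ F k
      split_ifs with hk
      · rw [hk]
        exact huF
      · exact hg k
    · intro r
      have h1 := hpPoly_choose F hanti (m + 1) r 0 (g := u⁻¹)
        (by rw [Nat.zero_add]; exact (F (m + 1)).inv_mem huF)
      have h2 := (hpPoly_main F hanti hcomm r).1 0 _ _ h1 (hpoly r)
      exact hpPoly_congr F (fun n => (heq n).symm) h2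
    · intro n hn
      rw [heq]
      rcases Nat.lt_or_ge n (m + 1) with h | h
      · rw [Nat.choose_eq_zero_of_lt h, pow_zero, one_mul]
        exact hvan n (by omega)
      · obtain rfl : n = m + 1 := by omega
        rw [Nat.choose_self, pow_one, ← hu, inv_mul_cancel]

theorem hp_taylor (hanti : Antitone F) (hcomm : ∀ i j, ⁅F i, F j⁆ ≤ F (i + j)) (c : ℕ)
    (hbot : F (c + 1) = ⊥) (f : ℕ → K) (hf : ∀ r, hpPoly F r 0 f) (h0 : f 0 = 1) :
    ∃ g : ℕ → K, (∀ k, g k ∈ F k) ∧ ∀ n, f n = hpProd g c n := by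
  obtain ⟨g, hg, hpoly, hvan⟩ := hp_taylor_step F hanti hcomm f hf h0 c
  refine ⟨g, hg, ?_⟩
  have hall : ∀ n, (hpProd g c n)⁻¹ * f n = 1 := by
    intro n
    induction n using Nat.strong_induction_on with
    | _ n ihn =>
      rcases Nat.lt_or_ge c n with h | h
      · have h1 := hpPoly_vanish F n n 0 _ (hpoly n) le_rfl (fun k hk => ihn k hk)
        have h2 : F (0 + n) ≤ F (c + 1) := hanti (by omega)
        have h3 := h2 h1
        rw [hbot, Subgroup.mem_bot] at h3
        exact h3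
      · exact hvan n h
  intro n
  exact (inv_mul_eq_one.mp (hall n)).symm

/-- The Hall–Petrescu formula (for a group of class at most `c` w.r.t. the filtration `F`). -/
theorem hp_hall_petrescu (hanti : Antitone F) (hcomm : ∀ i j, ⁅F i, F j⁆ ≤ F (i + j))
    (htop : F 1 = ⊤) (c : ℕ) (hbot : F (c + 1) = ⊥) (x y : K) :
    ∃ g : ℕ → K, (∀ k, g k ∈ F k) ∧ g 1 = 1 ∧
      ∀ n, x ^ n * y ^ n = (x * y) ^ n * hpProd g c n := by
  have hmem : ∀ z : K, z ∈ F 1 := by
    intro z
    rw [htop]
    exact Subgroup.mem_top z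
  have hf : ∀ r, hpPoly F r 0 (fun n => (x * y)⁻¹ ^ n * x ^ n * y ^ n) := by
    intro r
    have hP := (hpPoly_main F hanti hcomm r).1
    exact hP 0 _ _ (hP 0 _ _ (hpPoly_pow F hanti r (hmem _)) (hpPoly_pow F hanti r (hmem x)))
      (hpPoly_pow F hanti r (hmem y))
  obtain ⟨g, hg, hfg⟩ := hp_taylor F hanti hcomm c hbot _ hf (by simp)
  refine ⟨g, hg, ?_, ?_⟩
  · rcases Nat.eq_zero_or_pos c with rfl | hc
    · have h1 := hg 1
      rw [show (1 : ℕ) = 0 + 1 from rfl, hbot, Subgroup.mem_bot] at h1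
      exact h1
    · have h1 := hfg 1
      rw [hpProd_one g c hc] at h1
      rw [← h1]
      show (x * y)⁻¹ ^ 1 * x ^ 1 * y ^ 1 = 1
      group
  · intro n
    have h1 := hfg n
    have h2 : (x * y)⁻¹ ^ n * x ^ n * y ^ n = hpProd g c n := h1
    rw [← h2, inv_pow]
    group

end poly

end Cfsg.Agent.Lib.Helper17
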