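import Cfsg.Agent.Lib.Helper17.TraceHom
import Cfsg.Agent.Lib.Helper17.CoprimeComm
import Cfsg.Agent.Lib.Helper17.SylowNormal
import Cfsg.Agent.Lib.Helper17.Frattini
import Cfsg.Agent.Lib.Helper18.CharP
import Cfsg.Prelude.Def_PLocal

set_option autoImplicit false

namespace Cfsg.Agent.Lib.Helper17

open Cfsg
open scoped commutatorElement

section omegaZ

variable {G : Type*} [Group G]

/-- the elements of order dividing `p` in the centre of `Q`, as a subgroup -/
def omegaZ (p : ℕ) (Q : Subgroup G) : Subgroup G where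
  carrier := {a | a ∈ Q ∧ a ∈ Subgroup.centralizer (Q : Set G) ∧ a ^ p = 1}
  one_mem' := ⟨Q.one_mem, Subgroup.one_mem _, one_pow p⟩
  mul_mem' := by
    rintro a b ⟨ha, hac, hap⟩ ⟨hb, hbc, hbp⟩
    refine ⟨Q.mul_mem ha hb, Subgroup.mul_mem _ hac hbc, ?_⟩
    have hcomm : Commute a b := Subgroup.mem_centralizer_iff.mp hbc a ha
    rw [hcomm.mul_pow, hap, hbp, one_mul]
  inv_mem' := by
    rintro a ⟨ha, hac, hap⟩
    exact ⟨Q.inv_mem ha, Subgroup.inv_mem _ hac, by rw [inv_pow, hap, inv_one]⟩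

theorem mem_omegaZ {p : ℕ} {Q : Subgroup G} {a : G} :
    a ∈ omegaZ p Q ↔ a ∈ Q ∧ a ∈ Subgroup.centralizer (Q : Set G) ∧ a ^ p = 1 := Iff.rfl

theorem omegaZ_le (p : ℕ) (Q : Subgroup G) : omegaZ p Q ≤ Q := fun _ ha => ha.1

theorem omegaZ_pow {p : ℕ} {Q : Subgroup G} : ∀ a ∈ omegaZ p Q, a ^ p = 1 := fun _ ha => ha.2.2

theorem omegaZ_isMulCommutative (p : ℕ) (Q : Subgroup G) : IsMulCommutative ↥(omegaZ p Q) :=
  ⟨⟨fun a b => Subtype.ext (Subgroup.mem_centralizer_iff.mp b.2.2.1 a a.2.1)⟩⟩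

theorem normalizer_le_normalizer_omegaZ (p : ℕ) (Q : Subgroup G) :
    Subgroup.normalizer (Q : Set G) ≤ Subgroup.normalizer (omegaZ p Q : Set G) := by
  intro g hg
  have hgC := Helper18.normalizer_le_normalizer_centralizer Q hg
  rw [Subgroup.mem_normalizer_iff]
  intro x
  rw [mem_omegaZ, mem_omegaZ, ← Subgroup.mem_normalizer_iff.mp hg x,
    ← Subgroup.mem_normalizer_iff.mp hgC x, conj_pow]
  constructor
  · rintro ⟨h1, h2, h3⟩
    exact ⟨h1, h2, by rw [h3]; simp⟩
  · rintro ⟨h1, h2, h3⟩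
    refine ⟨h1, h2, ?_⟩
    have h4 : x ^ p = g⁻¹ * (g * x ^ p * g⁻¹) * g := by group
    rw [h4, h3]; simp

/-- a `p`-group normalizing a nontrivial subgroup of itself centralizes a nontrivial element of it -/
theorem exists_ne_one_central_of_normal {p : ℕ} [hp : Fact p.Prime] {S M : Subgroup G} [Finite S]
    (hS : IsPGroup p S) (hMS : M ≤ S) (hSM : S ≤ Subgroup.normalizer (M : Set G))
    (hM : M ≠ ⊥) : ∃ z ∈ M, z ≠ 1 ∧ ∀ s ∈ S, s * z = z * s := by
  have hfin : Finite M := Finite.of_injective (Subgroup.inclusion hMS)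
    (Subgroup.inclusion_injective hMS)
  have hMp : IsPGroup p M := hS.to_le hMS
  let act : MulAction S M :=
    { smul := fun s m => ⟨(s : G) * m * (s : G)⁻¹,
        (Subgroup.mem_normalizer_iff.mp (hSM s.2) _).mp m.2⟩
      one_smul := by
        intro m
        apply Subtype.ext
        show ((1 : S) : G) * m * ((1 : S) : G)⁻¹ = m
        simp
      mul_smul := by
        intro x y m
        apply Subtype.ext
        show ((x * y : S) : G) * m * ((x * y : S) : G)⁻¹ =
          (x : G) * ((y : G) * m * (y : G)⁻¹) * (x : G)⁻¹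
        simp [mul_assoc] }
  have hnt : Nontrivial M := (Subgroup.nontrivial_iff_ne_bot M).mpr hM
  obtain ⟨n, hn0, hn⟩ := hMp.nontrivial_iff_card.mp hnt
  have hdvd : p ∣ Nat.card M := by rw [hn]; exact dvd_pow_self p hn0.ne'
  have h1 : (1 : M) ∈ MulAction.fixedPoints S M := by
    intro s
    apply Subtype.ext
    show (s : G) * ((1 : M) : G) * (s : G)⁻¹ = ((1 : M) : G)
    simp
  obtain ⟨b, hb, hb1⟩ := hS.exists_fixed_point_of_prime_dvd_card_of_fixed_point M hdvd h1
  refine ⟨b, b.2, ?_, ?_⟩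
  · intro h
    apply hb1
    apply Subtype.ext
    exact h.symm
  · intro s hs
    have h2 : (s : G) * (b : G) * (s : G)⁻¹ = b := congrArg Subtype.val (hb ⟨s, hs⟩)
    calc s * (b : G) = (s * (b : G) * s⁻¹) * s := by group
      _ = (b : G) * s := by rw [h2]

end omegaZ

section transport

variable {G G' : Type*} [Group G] [Group G']

theorem omegaOne_center_map (f : G →* G') (hf : Function.Injective f) (p : ℕ) (X : Subgroup G) :
    omegaOne p (X.map f ⊓ Subgroup.centralizer ((X.map f : Subgroup G') : Set G')) =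
      (omegaOne p (X ⊓ Subgroup.centralizer (X : Set G))).map f := by
  unfold omegaOne
  rw [MonoidHom.map_closure]
  congr 1
  ext y
  constructor
  · rintro ⟨hy, hyp⟩
    obtain ⟨hyX, hyC⟩ := Subgroup.mem_inf.mp hy
    obtain ⟨x, hx, rfl⟩ := hyX
    refine ⟨x, ⟨Subgroup.mem_inf.mpr ⟨hx, ?_⟩, ?_⟩, rfl⟩
    · rw [Subgroup.mem_centralizer_iff] at hyC ⊢
      intro h hh
      apply hf
      rw [map_mul, map_mul]
      exact hyC _ (Subgroup.mem_map_of_mem f hh)
    · apply hf; rw [map_pow, map_one]; exact hyp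
  · rintro ⟨x, ⟨hx, hxp⟩, rfl⟩
    obtain ⟨hxX, hxC⟩ := Subgroup.mem_inf.mp hx
    refine ⟨Subgroup.mem_inf.mpr ⟨Subgroup.mem_map_of_mem f hxX, ?_⟩, ?_⟩
    · rw [Subgroup.mem_centralizer_iff] at hxC ⊢
      rintro _ ⟨h, hh, rfl⟩
      rw [← map_mul, ← map_mul, hxC h hh]
    · rw [← map_pow, hxp, map_one]

theorem map_inf_centralizer (f : G →* G') (hf : Function.Injective f) (L Y : Subgroup G) :
    (L ⊓ Subgroup.centralizer (Y : Set G)).map f =
      L.map f ⊓ Subgroup.centralizer ((Y.map f : Subgroup G') : Set G') := by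
  ext y
  constructor
  · rintro ⟨x, hx, rfl⟩
    obtain ⟨hxL, hxC⟩ := Subgroup.mem_inf.mp hx
    refine Subgroup.mem_inf.mpr ⟨Subgroup.mem_map_of_mem f hxL, ?_⟩
    rw [Subgroup.mem_centralizer_iff] at hxC ⊢
    rintro _ ⟨h, hh, rfl⟩
    rw [← map_mul, ← map_mul, hxC h hh]
  · intro hy
    obtain ⟨⟨x, hxL, rfl⟩, hyC⟩ := Subgroup.mem_inf.mp hy
    refine ⟨x, Subgroup.mem_inf.mpr ⟨hxL, ?_⟩, rfl⟩
    rw [Subgroup.mem_centralizer_iff] at hyC ⊢
    intro h hh
    apply hf
    rw [map_mul, map_mul]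
    exact hyC _ (Subgroup.mem_map_of_mem f hh)

end transport

section main

variable {H : Type*} [Group H] [Finite H] {p : ℕ} [Fact p.Prime]

theorem coprime_relIndex_of_card {T₀ M L : Subgroup H}
    (hcard : Nat.card T₀ = p ^ (Nat.card L).factorization p)
    (h1 : T₀ ≤ M) (h2 : M ≤ L) : (T₀.relIndex M).Coprime p := by
  have hp : p.Prime := Fact.out
  have e1 := Subgroup.relIndex_mul_relIndex (⊥ : Subgroup H) T₀ L bot_le (h1.trans h2)
  rw [Subgroup.relIndex_bot_left, Subgroup.relIndex_bot_left] at e1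
  have e2 := Subgroup.relIndex_mul_relIndex T₀ M L h1 h2
  apply Nat.Coprime.symm
  rw [Nat.Prime.coprime_iff_not_dvd hp]
  intro hdvd
  have h3 : p ∣ T₀.relIndex L := by rw [← e2]; exact Dvd.dvd.mul_right hdvd _
  have h4 : p ^ ((Nat.card L).factorization p + 1) ∣ Nat.card L := by
    calc p ^ ((Nat.card L).factorization p + 1) = Nat.card T₀ * p := by rw [pow_succ, hcard]
      _ ∣ Nat.card T₀ * T₀.relIndex L := Nat.mul_dvd_mul_left _ h3
      _ = Nat.card L := e1
  exact Nat.pow_succ_factorization_not_dvd Nat.card_pos.ne' hp h4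

/-- Kieler's lemma for a normal subgroup -/
theorem kieler_normal (hH : Subgroup.centralizer (pCore p H : Set H) ≤ pCore p H) (T : Sylow p H)
    (L : Subgroup H) [hLn : L.Normal] :
    L ⊓ Subgroup.centralizer ((omegaOne p ((T : Subgroup H) ⊓
        Subgroup.centralizer ((T : Subgroup H) : Set H))) : Set H) =
      L ⊓ Subgroup.centralizer ((omegaOne p (((T : Subgroup H) ⊓ L) ⊓
        Subgroup.centralizer ((((T : Subgroup H) ⊓ L) : Subgroup H) : Set H))) : Set H) := by
  have hp : p.Prime := Fact.out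
  have hcardT₀ : Nat.card ↥((T : Subgroup H) ⊓ L) = p ^ (Nat.card L).factorization p :=
    card_sylow_inf_normal T L
  set T₀ : Subgroup H := (T : Subgroup H) ⊓ L with hT₀
  set Z : Subgroup H := omegaOne p ((T : Subgroup H) ⊓
    Subgroup.centralizer ((T : Subgroup H) : Set H)) with hZ
  set Z₀ : Subgroup H := omegaOne p (T₀ ⊓ Subgroup.centralizer (T₀ : Set H)) with hZ₀
  have hT₀L : T₀ ≤ L := inf_le_right
  have hT₀T : T₀ ≤ T := inf_le_left
  have hOpT : pCore p H ≤ T := pCore_le_sylow T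
  have hOpL : pCoreOf p L ≤ T₀ :=
    le_inf ((pCoreOf_le_pCore_of_isSubnormal hLn.isSubnormal).trans hOpT) (Helper18.pCoreOf_le p L)
  have hLchar : L ⊓ Subgroup.centralizer (pCoreOf p L : Set H) ≤ pCoreOf p L :=
    Helper18.charP_of_isSubnormal hH hLn.isSubnormal
  have hAn : (omegaZ p (pCore p H)).Normal := by
    apply Subgroup.normalizer_eq_top_iff.mp
    rw [eq_top_iff]
    have h1 := normalizer_le_normalizer_omegaZ p (pCore p H)
    rwa [Subgroup.normalizer_eq_top_iff.mpr (Cfsg.Agent.Lib.Helper17.pCore_normal)] at h1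
  have hBn : (omegaZ p (pCoreOf p L)).Normal := by
    apply Subgroup.normalizer_eq_top_iff.mp
    rw [eq_top_iff]
    have h1 := (Helper18.normalizer_le_normalizer_pCoreOf p L).trans
      (normalizer_le_normalizer_omegaZ p (pCoreOf p L))
    rwa [Subgroup.normalizer_eq_top_iff.mpr hLn] at h1
  have hZT : Z ≤ Subgroup.centralizer ((T : Subgroup H) : Set H) := by
    rw [hZ]; unfold omegaOne
    rw [Subgroup.closure_le]; intro x hx; exact (Subgroup.mem_inf.mp hx.1).2
  have hZ₀T₀ : Z₀ ≤ Subgroup.centralizer (T₀ : Set H) := by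
    rw [hZ₀]; unfold omegaOne
    rw [Subgroup.closure_le]; intro x hx; exact (Subgroup.mem_inf.mp hx.1).2
  have hTZ : (T : Subgroup H) ≤ Subgroup.centralizer (Z : Set H) :=
    Subgroup.le_centralizer_iff.mp hZT
  have hT₀Z₀ : T₀ ≤ Subgroup.centralizer (Z₀ : Set H) := Subgroup.le_centralizer_iff.mp hZ₀T₀
  have hgenA : ∀ x, x ∈ (T : Subgroup H) ⊓ Subgroup.centralizer ((T : Subgroup H) : Set H) →
      x ^ p = 1 → x ∈ omegaZ p (pCore p H) := by
    intro x hx hxp
    have h1 : x ∈ Subgroup.centralizer (pCore p H : Set H) :=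
      Subgroup.centralizer_le (fun a ha => hOpT ha) (Subgroup.mem_inf.mp hx).2
    exact ⟨hH h1, h1, hxp⟩
  have hgenB : ∀ x, x ∈ T₀ ⊓ Subgroup.centralizer (T₀ : Set H) → x ^ p = 1 →
      x ∈ omegaZ p (pCoreOf p L) := by
    intro x hx hxp
    have h1 : x ∈ Subgroup.centralizer (pCoreOf p L : Set H) :=
      Subgroup.centralizer_le (fun a ha => hOpL ha) (Subgroup.mem_inf.mp hx).2
    exact ⟨hLchar (Subgroup.mem_inf.mpr ⟨hT₀L (Subgroup.mem_inf.mp hx).1, h1⟩), h1, hxp⟩
  apply le_antisymm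
  · refine le_inf inf_le_left ?_
    rw [Subgroup.le_centralizer_iff]
    set M : Subgroup H := L ⊓ Subgroup.centralizer (Z : Set H) with hM
    rw [hZ₀]; unfold omegaOne
    rw [Subgroup.closure_le]
    rintro b ⟨hb, hbp⟩
    have hbB := hgenB b hb hbp
    have hbT₀ : ∀ s ∈ T₀, s * b = b * s :=
      fun s hs => Subgroup.mem_centralizer_iff.mp (Subgroup.mem_inf.mp hb).2 s hs
    have hT₀M : T₀ ≤ M := le_inf hT₀L (hT₀T.trans hTZ)
    have hMB : M ≤ Subgroup.normalizer (omegaZ p (pCoreOf p L) : Set H) := by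
      rw [Subgroup.normalizer_eq_top_iff.mpr hBn]; exact le_top
    have := omegaZ_isMulCommutative p (pCoreOf p L)
    have hm : (T₀.relIndex M).Coprime p := coprime_relIndex_of_card hcardT₀ hT₀M inf_le_left
    have hyM : ((relTrace (omegaZ p (pCoreOf p L)) M T₀ hMB ⟨b, hbB⟩ :
        ↥(omegaZ p (pCoreOf p L))) : H) ∈ Subgroup.centralizer (M : Set H) :=
      relTrace_mem_centralizer hMB (v := ⟨b, hbB⟩) hbT₀
    generalize hy : relTrace (omegaZ p (pCoreOf p L)) M T₀ hMB ⟨b, hbB⟩ = y at hyM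
    have hyp : y ^ p = 1 := Subtype.ext (omegaZ_pow _ y.2)
    have hcop : (T₀.relIndex M).Coprime (orderOf y) :=
      Nat.Coprime.coprime_dvd_right (orderOf_dvd_of_pow_eq_one hyp) hm
    obtain ⟨j, hj⟩ := exists_pow_eq_self_of_coprime hcop
    have hcM : ∀ r ∈ M, r * ((y ^ j : ↥(omegaZ p (pCoreOf p L))) : H) =
        ((y ^ j : ↥(omegaZ p (pCoreOf p L))) : H) * r := by
      intro r hr
      have h1 : ((y ^ j : ↥(omegaZ p (pCoreOf p L))) : H) ∈ Subgroup.centralizer (M : Set H) := by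
        rw [Subgroup.coe_pow]; exact Subgroup.pow_mem _ hyM j
      exact Subgroup.mem_centralizer_iff.mp h1 r hr
    have hτc : relTrace (omegaZ p (pCoreOf p L)) M T₀ hMB (y ^ j) = y := by
      rw [relTrace_eq_pow hMB hcM, ← pow_mul, mul_comm, pow_mul]; exact hj
    have hker : relTrace (omegaZ p (pCoreOf p L)) M T₀ hMB (⟨b, hbB⟩ * (y ^ j)⁻¹) = 1 := by
      rw [map_mul, map_inv, hτc, hy]; exact mul_inv_cancel y
    have hclaim : ∀ k : ↥(omegaZ p (pCoreOf p L)),
        relTrace (omegaZ p (pCoreOf p L)) M T₀ hMB k = 1 →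
        (∀ s ∈ T₀, s * (k : H) = k * s) → k = 1 := by
      intro k hk hkT₀
      by_contra hk1
      let K' : Subgroup ↥(omegaZ p (pCoreOf p L)) :=
        (relTrace (omegaZ p (pCoreOf p L)) M T₀ hMB).ker ⊓
          (Subgroup.centralizer (T₀ : Set H)).subgroupOf (omegaZ p (pCoreOf p L))
      have hkK' : k ∈ K' := Subgroup.mem_inf.mpr ⟨MonoidHom.mem_ker.mpr hk, by
        rw [Subgroup.mem_subgroupOf, Subgroup.mem_centralizer_iff]; exact hkT₀⟩
      have hK'ne : K'.map (omegaZ p (pCoreOf p L)).subtype ≠ ⊥ := by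
        intro h
        have h1 : ((omegaZ p (pCoreOf p L)).subtype k) ∈
            K'.map (omegaZ p (pCoreOf p L)).subtype := Subgroup.mem_map_of_mem _ hkK'
        rw [h, Subgroup.mem_bot] at h1
        exact hk1 (Subtype.ext h1)
      have hK'T : K'.map (omegaZ p (pCoreOf p L)).subtype ≤ (T : Subgroup H) := by
        rintro _ ⟨k', -, rfl⟩
        exact hT₀T (hOpL (omegaZ_le p _ k'.2))
      have hTK' : (T : Subgroup H) ≤ Subgroup.normalizer
          ((K'.map (omegaZ p (pCoreOf p L)).subtype : Subgroup H) : Set H) := by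
        apply le_normalizer_of_map_conj_le
        intro t ht
        rintro _ ⟨_, ⟨k', hk', rfl⟩, rfl⟩
        have htB : t ∈ Subgroup.normalizer (omegaZ p (pCoreOf p L) : Set H) := by
          rw [Subgroup.normalizer_eq_top_iff.mpr hBn]; trivial
        have htM : t ∈ Subgroup.normalizer (M : Set H) := by
          apply Helper18.normalizer_inf_le
          refine Subgroup.mem_inf.mpr ⟨?_, Subgroup.le_normalizer (hTZ ht)⟩
          rw [Subgroup.normalizer_eq_top_iff.mpr hLn]; trivial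
        have htT₀ : t ∈ Subgroup.normalizer (T₀ : Set H) := by
          apply Helper18.normalizer_inf_le
          refine Subgroup.mem_inf.mpr ⟨Subgroup.le_normalizer ht, ?_⟩
          rw [Subgroup.normalizer_eq_top_iff.mpr hLn]; trivial
        obtain ⟨hk'1, hk'2⟩ := Subgroup.mem_inf.mp hk'
        have hk'T₀ : ∀ s ∈ T₀, s * (k' : H) = k' * s := by
          rw [Subgroup.mem_subgroupOf, Subgroup.mem_centralizer_iff] at hk'2; exact hk'2
        refine ⟨conjHom _ ⟨t, htB⟩ k', Subgroup.mem_inf.mpr ⟨?_, ?_⟩, rfl⟩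
        · rw [MonoidHom.mem_ker, relTrace_conj hMB htB htM htT₀ hk'T₀]
          rw [MonoidHom.mem_ker] at hk'1
          rw [hk'1, map_one]
        · rw [Subgroup.mem_subgroupOf, Subgroup.mem_centralizer_iff]
          intro s hs
          have h1 : t⁻¹ * s * t ∈ T₀ :=
            (Subgroup.mem_normalizer_iff.mp htT₀ _).mpr (by simpa [mul_assoc] using hs)
          have h2 := hk'T₀ _ h1
          show s * (t * (k' : H) * t⁻¹) = t * (k' : H) * t⁻¹ * s
          calc s * (t * (k' : H) * t⁻¹) = t * ((t⁻¹ * s * t) * (k' : H)) * t⁻¹ := by group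
            _ = t * ((k' : H) * (t⁻¹ * s * t)) * t⁻¹ := by rw [h2]
            _ = _ := by group
      obtain ⟨z, hzK, hz1, hzT⟩ := exists_ne_one_central_of_normal T.isPGroup' hK'T hTK' hK'ne
      obtain ⟨k', hk', rfl⟩ := hzK
      obtain ⟨hk'1, hk'2⟩ := Subgroup.mem_inf.mp hk'
      have hzZ : ((omegaZ p (pCoreOf p L)).subtype k') ∈ Z := by
        rw [hZ]
        apply Subgroup.subset_closure
        exact ⟨Subgroup.mem_inf.mpr ⟨hK'T (Subgroup.mem_map_of_mem _ hk'),
          Subgroup.mem_centralizer_iff.mpr hzT⟩, omegaZ_pow _ k'.2⟩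
      have hzM : ∀ r ∈ M, r * (k' : H) = k' * r := by
        intro r hr
        exact (Subgroup.mem_centralizer_iff.mp (Subgroup.mem_inf.mp hr).2 _ hzZ).symm
      have h5 : k' ^ (T₀.relIndex M) = 1 := by
        rw [← relTrace_eq_pow hMB hzM]; exact MonoidHom.mem_ker.mp hk'1
      have h6 : orderOf k' ∣ T₀.relIndex M := orderOf_dvd_of_pow_eq_one h5
      have h7 : orderOf k' ∣ p := orderOf_dvd_of_pow_eq_one (Subtype.ext (omegaZ_pow _ k'.2))
      have h8 : orderOf k' = 1 := Nat.eq_one_of_dvd_coprimes hm h6 h7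
      apply hz1
      have h9 : k' = 1 := orderOf_eq_one_iff.mp h8
      rw [h9]; rfl
    have hk1 := hclaim _ hker (by
      intro s hs
      have h1 : Commute s b := hbT₀ s hs
      have h2 : Commute s ((y ^ j : ↥(omegaZ p (pCoreOf p L))) : H) := hcM s (hT₀M hs)
      exact h1.mul_right h2.inv_right)
    have hbc : b = ((y ^ j : ↥(omegaZ p (pCoreOf p L))) : H) := by
      have h3 : b * ((y ^ j : ↥(omegaZ p (pCoreOf p L))) : H)⁻¹ = 1 := congrArg Subtype.val hk1
      exact mul_inv_eq_one.mp h3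
    show b ∈ Subgroup.centralizer (M : Set H)
    rw [hbc, Subgroup.mem_centralizer_iff]
    exact hcM
  · refine le_inf inf_le_left ?_
    rw [Subgroup.le_centralizer_iff]
    set K : Subgroup H := L ⊓ Subgroup.centralizer (Z₀ : Set H) with hK
    rw [hZ]; unfold omegaOne
    rw [Subgroup.closure_le]
    rintro z ⟨hz, hzp⟩
    have hzA := hgenA z hz hzp
    have hzT₀ : ∀ s ∈ T₀, s * z = z * s :=
      fun s hs => Subgroup.mem_centralizer_iff.mp (Subgroup.mem_inf.mp hz).2 s (hT₀T hs)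
    have hT₀K : T₀ ≤ K := le_inf hT₀L hT₀Z₀
    have hKA : K ≤ Subgroup.normalizer (omegaZ p (pCore p H) : Set H) := by
      rw [Subgroup.normalizer_eq_top_iff.mpr hAn]; exact le_top
    have := omegaZ_isMulCommutative p (pCore p H)
    have hm : (T₀.relIndex K).Coprime p := coprime_relIndex_of_card hcardT₀ hT₀K inf_le_left
    obtain ⟨c, hc, d, hd, hzcd⟩ :=
      exists_mul_of_coprime_relIndex hKA hm (fun v hv => omegaZ_pow v hv) hzA hzT₀
    obtain ⟨hdA, hdK⟩ := Subgroup.mem_inf.mp hd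
    have hcA : c ∈ omegaZ p (pCore p H) := Subgroup.commutator_le_left _ K hc
    have hcL : c ∈ L :=
      (Subgroup.commutator_le_right _ L) (Subgroup.commutator_mono le_rfl inf_le_left hc)
    have hcT₀ : c ∈ T₀ := Subgroup.mem_inf.mpr ⟨hOpT (omegaZ_le p _ hcA), hcL⟩
    have hcC : c ∈ Subgroup.centralizer (T₀ : Set H) := by
      rw [Subgroup.mem_centralizer_iff]
      intro s hs
      have h1 : Commute s z := hzT₀ s hs
      have h2 : Commute s d := Subgroup.mem_centralizer_iff.mp hdK s (hT₀K hs)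
      have h3 : c = z * d⁻¹ := by rw [hzcd]; group
      rw [h3]
      exact h1.mul_right h2.inv_right
    have hcZ₀ : c ∈ Z₀ := by
      rw [hZ₀]
      exact Subgroup.subset_closure ⟨Subgroup.mem_inf.mpr ⟨hcT₀, hcC⟩, omegaZ_pow c hcA⟩
    show z ∈ Subgroup.centralizer (K : Set H)
    rw [hzcd]
    apply Subgroup.mul_mem _ _ hdK
    rw [Subgroup.mem_centralizer_iff]
    intro k hk
    exact (Subgroup.mem_centralizer_iff.mp (Subgroup.mem_inf.mp hk).2 c hcZ₀).symm

/-- Kieler's lemma, together with the fact that `T ⊓ L` is a Sylow subgroup of the subnormal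
subgroup `L` -/
theorem kieler (hH : Subgroup.centralizer (pCore p H : Set H) ≤ pCore p H) (T : Sylow p H)
    {L : Subgroup H} (hL : L.IsSubnormal) :
    Nat.card ↥((T : Subgroup H) ⊓ L) = p ^ (Nat.card L).factorization p ∧
    L ⊓ Subgroup.centralizer ((omegaOne p ((T : Subgroup H) ⊓
        Subgroup.centralizer ((T : Subgroup H) : Set H))) : Set H) =
      L ⊓ Subgroup.centralizer ((omegaOne p (((T : Subgroup H) ⊓ L) ⊓
        Subgroup.centralizer ((((T : Subgroup H) ⊓ L) : Subgroup H) : Set H))) : Set H) := by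
  induction hL with
  | top =>
    constructor
    · rw [inf_top_eq, Subgroup.card_top]; exact T.card_eq_multiplicity
    · rw [inf_top_eq]
  | step L M h_le hSubn hN ih =>
    obtain ⟨ihcard, iheq⟩ := ih
    have hMchar : Subgroup.centralizer (pCore p ↥M : Set ↥M) ≤ pCore p ↥M :=
      (Helper18.charP_iff p M).mpr (Helper18.charP_of_isSubnormal hH hSubn)
    have hcard' : Nat.card ↥(((T : Subgroup H) ⊓ M).subgroupOf M) =
        p ^ (Nat.card ↥M).factorization p := by
      rw [← ihcard]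
      exact Nat.card_congr (Subgroup.subgroupOfEquivOfLe inf_le_right).toEquiv
    have key := kieler_normal hMchar (Sylow.ofCard _ hcard') (L.subgroupOf M)
    have hcardL := card_sylow_inf_normal (Sylow.ofCard _ hcard') (L.subgroupOf M)
    rw [Sylow.coe_ofCard] at key hcardL
    have hinj : Function.Injective M.subtype := M.subtype_injective
    have e1 : (((T : Subgroup H) ⊓ M).subgroupOf M).map M.subtype = (T : Subgroup H) ⊓ M :=
      Subgroup.map_subgroupOf_eq_of_le inf_le_right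
    have e2 : (L.subgroupOf M).map M.subtype = L := Subgroup.map_subgroupOf_eq_of_le h_le
    have e3 : ((((T : Subgroup H) ⊓ M).subgroupOf M) ⊓ L.subgroupOf M).map M.subtype =
        (T : Subgroup H) ⊓ L := by
      rw [Subgroup.map_inf _ _ _ hinj, e1, e2, inf_assoc, inf_eq_right.mpr h_le]
    constructor
    · rw [← e3, Subgroup.card_map_of_injective hinj, hcardL]
      congr 2
      rw [← e2, Subgroup.card_map_of_injective hinj, e2]
    · have key' := congrArg (Subgroup.map M.subtype) key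
      rw [map_inf_centralizer _ hinj, map_inf_centralizer _ hinj, ← omegaOne_center_map _ hinj,
        ← omegaOne_center_map _ hinj, e1, e2, e3] at key'
      rw [← key']
      have h1 : ∀ X : Subgroup H, L ⊓ X = L ⊓ (M ⊓ X) := by
        intro X
        rw [← inf_assoc, inf_eq_left.mpr h_le]
      rw [h1, iheq, ← h1]

end main

end Cfsg.Agent.Lib.Helper17
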