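import Cfsg.Agent.S3071
import Cfsg.Agent.Lib.Helper14.KInfStableA
import Cfsg.Agent.Lib.Helper14.SecMain

set_option autoImplicit false
set_option linter.unusedVariables false
set_option linter.style.haveILetI false

/-!
Glauberman's ZJ-theorem and control of strong fusion by `Z(J(S))` (abelian version) under
`p`-stability hypotheses in the normalizer form.
-/

namespace Cfsg.Agent.Lib.Helper17

open Cfsg
open Cfsg.Agent.Lib.Helper14 Cfsg.Agent.Lib.Helper6 Cfsg.Agent.S3071

universe u

theorem hst_of_qstable {X : Type u} [Group X] [Finite X] {p : ℕ} [Fact p.Prime]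
    (hQ : QStable p X) (V : Subgroup X) [hVn : V.Normal] (hV : IsPGroup p V) (a : X)
    (hq : ⁅⁅V, Subgroup.zpowers a⁆, Subgroup.zpowers a⁆ = ⊥) :
    (QuotientGroup.mk a : X ⧸ Subgroup.centralizer (V : Set X)) ∈
      Cfsg.pCore p (X ⧸ Subgroup.centralizer (V : Set X)) := by
  have hNtop : Subgroup.normalizer (V : Set X) = ⊤ := Subgroup.normalizer_eq_top_iff.mpr hVn
  obtain ⟨D, haD, hDle, hND, hD⟩ := hQ V hV a (by rw [hNtop]; exact Subgroup.mem_top a) hq
  have hDn : D.Normal := by
    rw [← Subgroup.normalizer_eq_top_iff]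
    rw [hNtop] at hND
    exact top_le_iff.mp hND
  have hEn : (D.map (QuotientGroup.mk' (Subgroup.centralizer (V : Set X)))).Normal :=
    Subgroup.Normal.map hDn _ (QuotientGroup.mk'_surjective _)
  have hEp : IsPGroup p (D.map (QuotientGroup.mk' (Subgroup.centralizer (V : Set X)))) := by
    rintro ⟨_, d, hdD, rfl⟩
    obtain ⟨k, hk⟩ := hD d hdD
    refine ⟨k, ?_⟩
    apply Subtype.ext
    rw [Subgroup.coe_pow, Subgroup.coe_one, ← map_pow, ← MonoidHom.mem_ker,
      QuotientGroup.ker_mk']
    exact hk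
  exact Cfsg.Agent.Lib.Helper1.le_pCore p hEn hEp ⟨a, haD, rfl⟩

/-- the ZJ-theorem (abelian version) for a group that is `p`-stable in the elementwise form and
whose `p`-core contains its centralizer -/
theorem zjA_normal_of_qstable {X : Type u} [Group X] [Finite X] {p : ℕ} [Fact p.Prime]
    (hp : p ≠ 2) (hQ : QStable p X)
    (hc : Subgroup.centralizer ((Cfsg.pCore p X : Subgroup X) : Set X) ≤ Cfsg.pCore p X)
    (P : Sylow p X) : (Cfsg.centerThompsonAOf (P : Subgroup X)).Normal := by
  rw [← sInf_famX_zero]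
  exact zj_normal (famX 0) (famX_comm 0) (famX_le 0)
    (fun P A g hA hg => by
      have h := famX_aut 0 (MulAut.conj g) P A hA
      rw [Cfsg.Agent.Lib.Helper18.map_conj_eq_of_mem_normalizer P hg] at h
      exact h)
    (famX_mono 0)
    (fun P B hP hBn hBP A hA hBA hnot => famX_repl hp 0 P B hP hBn hBP A hA hBA hnot)
    (fun V _ hV a _ hq => hst_of_qstable hQ V hV a hq) hc P (famX_nonempty 0 _)

/-- the ZJ-theorem (abelian version) for a group that is `p`-stable in the normalizer form and
whose `p`-core contains its centralizer -/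
theorem zjA_normal_of_nps {X : Type u} [Group X] [Finite X] {p : ℕ} [Fact p.Prime]
    (hp : p ≠ 2) (hst : Cfsg.IsNormalizerPStable p X)
    (hc : Subgroup.centralizer ((Cfsg.pCore p X : Subgroup X) : Set X) ≤ Cfsg.pCore p X)
    (P : Sylow p X) : (Cfsg.centerThompsonAOf (P : Subgroup X)).Normal :=
  zjA_normal_of_qstable hp (qStable_of_nps hst) hc P

/-- in a group all of whose sections are `p`-stable in the normalizer form (`p` odd), the centre
of the Thompson subgroup (abelian version) of a Sylow `p`-subgroup controls strong fusion -/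
theorem zjA_sf_of_sections_stable {G : Type u} [Group G] [Finite G] {p : ℕ} [Fact p.Prime]
    (hp : p ≠ 2)
    (hst : ∀ (K R : Subgroup G) [hR : (R.subgroupOf K).Normal],
      Cfsg.IsNormalizerPStable p (↥K ⧸ R.subgroupOf K)) (S : Sylow p G) :
    Cfsg.ControlsStrongFusion p (Cfsg.centerThompsonAOf (S : Subgroup G)) := by
  have h𝓦 : ∀ W' ∈ ({zjAFun} : Set (∀ (Q : Type u) [Group Q], Subgroup Q)),
      Cfsg.IsCharPFunctor.{u} p W' := by
    intro W' hW'
    rw [Set.mem_singleton_iff] at hW'
    exact hW' ▸ isCharPFunctor_zjAFun p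
  have hQG : ∀ (Y : Type u) [Group Y] [Finite Y], IsSection G Y → QStable p Y := by
    intro Y _ _ hY
    obtain ⟨K, R, hR, ⟨e⟩⟩ := hY
    exact qStable_of_equiv e (qStable_of_nps (hst K R))
  have hsf := sf_sections (G := G) h𝓦 (fun X _ _ hX hC _ => by
    intro T B y hB hBy
    have hn := zjA_normal_of_qstable hp (hQG X hX) hC T
    exact Reach.step hB ⟨zjAFun, rfl, rfl⟩
      (by
        show y ∈ Subgroup.normalizer
          ((Cfsg.inducedFunctor zjAFun (T : Subgroup X) : Subgroup X) : Set X)
        rw [inducedFunctor_zjAFun, Subgroup.normalizer_eq_top_iff.mpr hn]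
        exact Subgroup.mem_top y) hBy)
  rw [← inducedFunctor_zjAFun]
  refine ⟨S, inducedFunctor_le _, fun A hA => ⟨hA, fun g hg => ?_⟩⟩
  obtain ⟨c, hc, hceq⟩ := hsf G (isSection_self G) S A g hA hg
  refine ⟨c, ?_, fun a ha => (hceq a ha).symm⟩
  refine Cfsg.Agent.S3071.chain_mem_normalizer ?_ hc
  rintro _ ⟨W', hW', rfl⟩
  rw [Set.mem_singleton_iff] at hW'
  rw [hW']

end Cfsg.Agent.Lib.Helper17
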