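import Mathlib
import Cfsg.Prelude.Def_LocalEven
import Cfsg.Prelude.Def_Transfer
import Cfsg.Agent.Lib.Helper17.QuadSol

set_option autoImplicit false
set_option linter.unusedSimpArgs false
set_option linter.unusedVariables false
set_option linter.style.haveILetI false

/-!
Quadratic action inside a group: an element `a` of `H` acting quadratically on an elementary
abelian normalized subgroup `V` and acting nontrivially (modulo the centralizer of `V`) on an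
`a`-invariant `p'`-subgroup of `H` forces `p = 3` and `SL(2,3)` as a section of `H`.
-/

namespace Cfsg.Agent.Lib.Helper17

open scoped commutatorElement

/-- the quadratic condition `[V, a, a] = 1` in element form -/
theorem quad_elem_of_comm {G : Type*} [Group G] (V : Subgroup G) (a : G)
    (ha : ⁅⁅V, Subgroup.zpowers a⁆, Subgroup.zpowers a⁆ = ⊥) :
    ∀ v ∈ V, a * (a * v * a⁻¹ * v⁻¹) * a⁻¹ = a * v * a⁻¹ * v⁻¹ := by
  intro v hv
  have h1 : ⁅⁅v, a⁆, a⁆ ∈ ⁅⁅V, Subgroup.zpowers a⁆, Subgroup.zpowers a⁆ :=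
    Subgroup.commutator_mem_commutator
      (Subgroup.commutator_mem_commutator hv (Subgroup.mem_zpowers a)) (Subgroup.mem_zpowers a)
  rw [ha, Subgroup.mem_bot, commutatorElement_def, commutatorElement_def] at h1
  have h2 : a * (v * a * v⁻¹ * a⁻¹)⁻¹ * a⁻¹ = (v * a * v⁻¹ * a⁻¹)⁻¹ := by
    have : a * (v * a * v⁻¹ * a⁻¹)⁻¹ * a⁻¹ = (v * a * v⁻¹ * a⁻¹)⁻¹ *
        ((v * a * v⁻¹ * a⁻¹) * a * (v * a * v⁻¹ * a⁻¹)⁻¹ * a⁻¹) := by group
    rw [this, h1, mul_one]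
  have e : a * v * a⁻¹ * v⁻¹ = (v * a * v⁻¹ * a⁻¹)⁻¹ := by group
  rw [e, h2]

theorem quad_sol_subgroup {G : Type*} [Group G] [Finite G] {p : ℕ} [Fact p.Prime] (hp : p ≠ 2)
    (V H : Subgroup G) (hV : Cfsg.IsElementaryAbelian p V)
    (hHV : H ≤ Subgroup.normalizer (V : Set G))
    (a : G) (haH : a ∈ H) (ha : ∀ v ∈ V, a * (a * v * a⁻¹ * v⁻¹) * a⁻¹ = a * v * a⁻¹ * v⁻¹)
    (Q : Subgroup G) (hQH : Q ≤ H) (hQa : ∀ r ∈ Q, a * r * a⁻¹ ∈ Q) (hQ : (Nat.card Q).Coprime p)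
    (hne : ∃ r ∈ Q, ∃ v ∈ V, (a * r * a⁻¹) * v * (a * r * a⁻¹)⁻¹ ≠ r * v * r⁻¹) :
    p = 3 ∧ Cfsg.Involves (Matrix.SpecialLinearGroup (Fin 2) (ZMod 3)) ↥H := by
  classical
  obtain ⟨hVc, hVp⟩ := hV
  letI : CommGroup ↥V :=
    { (inferInstance : Group ↥V) with mul_comm := fun x y => hVc.is_comm.comm x y }
  obtain ⟨φ, hφ⟩ : ∃ φ : ↥H →* MulAut ↥V,
      ∀ (h : ↥H) (v : ↥V), ((φ h v : ↥V) : G) = h * v * (h : G)⁻¹ :=
    ⟨(V.normalizerMonoidHom).comp (Subgroup.inclusion hHV), fun _ _ => rfl⟩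
  obtain ⟨a', ha'⟩ : ∃ a' : ↥H, (a' : G) = a := ⟨⟨a, haH⟩, rfl⟩
  have hAp : ∀ v : ↥V, v ^ p = 1 := by
    intro v
    apply Subtype.ext
    rw [Subgroup.coe_pow, hVp _ v.2]
    rfl
  have hq : QuadAct φ a' := by
    intro v
    apply Subtype.ext
    rw [hφ, Subgroup.coe_div, hφ, ha', div_eq_mul_inv]
    exact ha v v.2
  have hRcop : (Nat.card (Q.subgroupOf H)).Coprime p := by
    rw [Nat.card_congr (Subgroup.subgroupOfEquivOfLe hQH).toEquiv]
    exact hQ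
  have haR : ∀ r ∈ Q.subgroupOf H, a' * r * a'⁻¹ ∈ Q.subgroupOf H := by
    intro r hr
    rw [Subgroup.mem_subgroupOf] at hr ⊢
    rw [Subgroup.coe_mul, Subgroup.coe_mul, Subgroup.coe_inv, ha']
    exact hQa _ hr
  have hne' : ∃ r ∈ Q.subgroupOf H, φ (a' * r * a'⁻¹) ≠ φ r := by
    obtain ⟨r, hr, v, hv, hrv⟩ := hne
    refine ⟨⟨r, hQH hr⟩, Subgroup.mem_subgroupOf.mpr hr, ?_⟩
    intro h
    apply hrv
    have h1 := congrArg (fun f : MulAut ↥V => ((f ⟨v, hv⟩ : ↥V) : G)) h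
    simp only [hφ] at h1
    rw [Subgroup.coe_mul, Subgroup.coe_mul, Subgroup.coe_inv, ha'] at h1
    exact h1
  exact quad_sol hp hAp φ a' hq (Q.subgroupOf H) hRcop haR hne'

end Cfsg.Agent.Lib.Helper17
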