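import Cfsg.Agent.Lib.Helper17.QuadAb2
import Cfsg.Agent.Lib.Helper17.QuadSub
import Cfsg.Agent.S0199

set_option autoImplicit false
set_option maxHeartbeats 1000000
set_option linter.unusedSimpArgs false
set_option linter.unusedVariables false
set_option linter.style.haveILetI false

/-!
Quadratic elements in groups whose Sylow `2`-subgroups are commutative: such an element acting on
an abelian group of odd prime exponent `p` lies in a normal subgroup acting as a `p`-group.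
-/

namespace Cfsg.Agent.Lib.Helper17

universe u v

open scoped Pointwise

section AbSyl

/-- commutative Sylow `2`-subgroups: every `2`-subgroup is commutative -/
theorem comm_of_two_subgroup {X : Type*} [Group X] [Finite X]
    (hab : ∀ T : Sylow 2 X, ∀ s ∈ T, ∀ t ∈ T, s * t = t * s) (Q : Subgroup X)
    (hQ : IsPGroup 2 Q) : ∀ s ∈ Q, ∀ t ∈ Q, s * t = t * s := by
  obtain ⟨T, hT⟩ := hQ.exists_le_sylow
  intro s hs t ht
  exact hab T s (hT hs) t (hT ht)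

/-- one commutative Sylow `2`-subgroup: all of them are commutative -/
theorem abSyl_of_one {X : Type*} [Group X] [Finite X] (T : Sylow 2 X)
    (hT : ∀ s ∈ T, ∀ t ∈ T, s * t = t * s) :
    ∀ T' : Sylow 2 X, ∀ s ∈ T', ∀ t ∈ T', s * t = t * s := by
  intro T' s hs t ht
  obtain ⟨g, rfl⟩ := MulAction.exists_smul_eq X T T'
  have hs' : s ∈ MulAut.conj g • (T : Subgroup X) := hs
  have ht' : t ∈ MulAut.conj g • (T : Subgroup X) := ht
  rw [Subgroup.mem_pointwise_smul_iff_inv_smul_mem] at hs' ht'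
  have h1 := hT _ hs' _ ht'
  rw [← smul_mul', ← smul_mul'] at h1
  exact smul_left_cancel _ h1

/-- commutative Sylow `2`-subgroups pass to quotients -/
theorem abSyl_of_surjective {X X' : Type*} [Group X] [Finite X] [Group X'] [Finite X']
    (f : X →* X') (hf : Function.Surjective f)
    (hab : ∀ T : Sylow 2 X, ∀ s ∈ T, ∀ t ∈ T, s * t = t * s) :
    ∀ T' : Sylow 2 X', ∀ s ∈ T', ∀ t ∈ T', s * t = t * s := by
  intro T' s hs t ht
  obtain ⟨T, rfl⟩ := Sylow.mapSurjective_surjective hf 2 T'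
  have hs' : s ∈ (T : Subgroup X).map f := by
    rw [← Sylow.coe_mapSurjective hf]; exact hs
  have ht' : t ∈ (T : Subgroup X).map f := by
    rw [← Sylow.coe_mapSurjective hf]; exact ht
  obtain ⟨s₀, hs₀, rfl⟩ := hs'
  obtain ⟨t₀, ht₀, rfl⟩ := ht'
  rw [← map_mul, ← map_mul, hab T s₀ hs₀ t₀ ht₀]

/-- commutative Sylow `2`-subgroups pass to subgroups -/
theorem abSyl_subgroup {X : Type*} [Group X] [Finite X] (H : Subgroup X)
    (hab : ∀ T : Sylow 2 X, ∀ s ∈ T, ∀ t ∈ T, s * t = t * s) :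
    ∀ T : Sylow 2 ↥H, ∀ s ∈ T, ∀ t ∈ T, s * t = t * s := by
  intro T s hs t ht
  have hQ : IsPGroup 2 ((T : Subgroup ↥H).map H.subtype) := T.isPGroup'.map _
  have h1 := comm_of_two_subgroup hab _ hQ (s : X) ⟨s, hs, rfl⟩ (t : X) ⟨t, ht, rfl⟩
  apply Subtype.ext
  rw [Subgroup.coe_mul, Subgroup.coe_mul]
  exact h1

end AbSyl

section Core

theorem quad_pair_pgroup {A : Type u} {X : Type v} [CommGroup A] [Finite A] [Group X] [Finite X]
    {p : ℕ} [Fact p.Prime] (hp2 : p ≠ 2) (hAp : ∀ v : A, v ^ p = 1) (φ : X →* MulAut A)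
    (hab : ∀ Q : Subgroup X, IsPGroup 2 Q → ∀ s ∈ Q, ∀ t ∈ Q, s * t = t * s)
    (c₁ c₂ : X) (h₁ : QuadAct φ c₁) (h₂ : QuadAct φ c₂) :
    ∀ g ∈ Subgroup.closure ({c₁, c₂} : Set X), ∃ k : ℕ, φ g ^ p ^ k = 1 := by
  classical
  obtain ⟨L, hL⟩ : ∃ L : Subgroup X, L = Subgroup.closure ({c₁, c₂} : Set X) := ⟨_, rfl⟩
  rw [← hL]
  have hc₁ : c₁ ∈ L := by rw [hL]; exact Subgroup.subset_closure (by simp)
  have hc₂ : c₂ ∈ L := by rw [hL]; exact Subgroup.subset_closure (by simp)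
  have hgen : Subgroup.closure ({⟨c₁, hc₁⟩, ⟨c₂, hc₂⟩} : Set ↥L) = ⊤ := by
    apply Subgroup.map_injective L.subtype_injective
    rw [MonoidHom.map_closure, ← MonoidHom.range_eq_map, Subgroup.range_subtype]
    conv_rhs => rw [hL]
    congr 1
    ext w
    simp [Set.image_pair]
  obtain ⟨T⟩ : Nonempty (Sylow 2 ↥L) := inferInstance
  have hT : ∀ s ∈ T, ∀ t ∈ T, (φ.comp L.subtype) s * (φ.comp L.subtype) t
      = (φ.comp L.subtype) t * (φ.comp L.subtype) s := by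
    intro s hs t ht
    have hQ : IsPGroup 2 ((T : Subgroup ↥L).map L.subtype) := T.isPGroup'.map _
    have h1 := hab _ hQ (s : X) ⟨s, hs, rfl⟩ (t : X) ⟨t, ht, rfl⟩
    simp only [MonoidHom.comp_apply, Subgroup.coe_subtype]
    rw [← map_mul, ← map_mul, h1]
  intro g hg
  exact quad_two hp2 hAp (φ.comp L.subtype) ⟨c₁, hc₁⟩ ⟨c₂, hc₂⟩ hgen (fun v => h₁ v)
    (fun v => h₂ v) T hT ⟨g, hg⟩

/-- A quadratic element of a group whose `2`-subgroups are commutative, acting on an abelian group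
of odd prime exponent `p`, lies in a normal subgroup acting as a `p`-group. -/
theorem quad_abSyl2 {A : Type u} {X : Type v} [CommGroup A] [Finite A] [Group X] [Finite X]
    {p : ℕ} [Fact p.Prime] (hp2 : p ≠ 2) (hAp : ∀ v : A, v ^ p = 1) (φ : X →* MulAut A)
    (hab : ∀ Q : Subgroup X, IsPGroup 2 Q → ∀ s ∈ Q, ∀ t ∈ Q, s * t = t * s)
    (a : X) (hq : QuadAct φ a) :
    ∃ N : Subgroup X, N.Normal ∧ a ∈ N ∧ ∀ x ∈ N, ∃ k : ℕ, φ x ^ p ^ k = 1 := by
  classical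
  obtain ⟨π, hπ, hπs⟩ : ∃ π : X →* ↥φ.range,
      (∀ l, ((π l : ↥φ.range) : MulAut A) = φ l) ∧ Function.Surjective π :=
    ⟨φ.rangeRestrict, fun l => rfl, φ.rangeRestrict_surjective⟩
  haveI : Finite ↥φ.range := Finite.of_surjective π hπs
  obtain ⟨K, hK⟩ : ∃ K : Set ↥φ.range, K = {w | ∃ h : X, w = π (h * a * h⁻¹)} := ⟨_, rfl⟩
  have hconj : ∀ g : ↥φ.range, ∀ w ∈ K, g * w * g⁻¹ ∈ K := by
    intro g w hw
    rw [hK] at hw ⊢
    obtain ⟨h, rfl⟩ := hw
    obtain ⟨g₀, rfl⟩ := hπs g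
    refine ⟨g₀ * h, ?_⟩
    rw [← map_inv, ← map_mul, ← map_mul]
    congr 1
    group
  have hpair : ∀ w₁ ∈ K, ∀ w₂ ∈ K,
      IsPGroup p (Subgroup.closure ({w₁, w₂} : Set ↥φ.range)) := by
    intro w₁ hw₁ w₂ hw₂
    rw [hK] at hw₁ hw₂
    obtain ⟨h₁, rfl⟩ := hw₁
    obtain ⟨h₂, rfl⟩ := hw₂
    have hmap : Subgroup.closure ({π (h₁ * a * h₁⁻¹), π (h₂ * a * h₂⁻¹)} : Set ↥φ.range)
        = (Subgroup.closure ({h₁ * a * h₁⁻¹, h₂ * a * h₂⁻¹} : Set X)).map π := by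
      rw [MonoidHom.map_closure, Set.image_pair]
    rw [hmap]
    rintro ⟨_, g, hg, rfl⟩
    obtain ⟨k, hk⟩ := quad_pair_pgroup hp2 hAp φ hab _ _ (quadAct_conj φ a h₁ hq)
      (quadAct_conj φ a h₂ hq) g hg
    refine ⟨k, ?_⟩
    apply Subtype.ext
    apply Subtype.ext
    rw [Subgroup.coe_pow, Subgroup.coe_pow, hπ, hk]
    rfl
  obtain ⟨N₀, hN₀n, hN₀p, hKN⟩ := Cfsg.Agent.S0199.baer_suzuki_set K hconj hpair
  refine ⟨N₀.comap π, hN₀n.comap π, ?_, ?_⟩
  · rw [Subgroup.mem_comap]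
    apply hKN
    rw [hK]
    exact ⟨1, by simp⟩
  · intro x hx
    obtain ⟨k, hk⟩ := hN₀p ⟨π x, hx⟩
    refine ⟨k, ?_⟩
    have h1 := congrArg Subtype.val hk
    rw [Subgroup.coe_pow, Subgroup.coe_one] at h1
    have h2 := congrArg Subtype.val h1
    rw [Subgroup.coe_pow, hπ] at h2
    exact h2

end Core

end Cfsg.Agent.Lib.Helper17
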