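import Cfsg.Agent.Lib.Helper17.QuadNA

set_option autoImplicit false
set_option maxHeartbeats 2000000
set_option linter.unusedSimpArgs false
set_option linter.unusedVariables false
set_option linter.style.haveILetI false

/-!
Sections of a group whose `p`-local subgroups do not involve `SL(2, p)` are `p`-stable in the
normalizer form (`p` odd).
-/

namespace Cfsg.Agent.Lib.Helper17

universe u v w

section QuadFrat

theorem involves_of_injective_hom {G : Type u} {G' : Type v} {S : Type w} [Group G] [Group G']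
    [Group S] (f : G →* G') (hf : Function.Injective f) (h : Cfsg.Involves S G) :
    Cfsg.Involves S G' := by
  obtain ⟨K, φ, hφ⟩ := exists_hom_of_involves h
  obtain ⟨e⟩ : Nonempty (K ≃* K.map f) := ⟨Subgroup.equivMapOfInjective K f hf⟩
  refine involves_of_surjective (K.map f) (φ.comp e.symm.toMonoidHom) ?_
  intro x
  obtain ⟨k, rfl⟩ := hφ x
  exact ⟨e k, by simp⟩

/-- the Frattini argument, lifting a `p`-subgroup of a quotient together with its normalizer -/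
theorem frattini_lift {H : Type u} {Y : Type v} [Group H] [Finite H] [Group Y] (π : H →* Y)
    (hπ : Function.Surjective π) (p : ℕ) [hp : Fact p.Prime] (Pb : Subgroup Y)
    (hPb : IsPGroup p Pb) :
    ∃ P₀ : Subgroup H, IsPGroup p P₀ ∧ P₀.map π = Pb ∧
      ∀ nb ∈ Subgroup.normalizer (Pb : Set Y), ∃ n ∈ Subgroup.normalizer (P₀ : Set H),
        π n = nb := by
  classical
  obtain ⟨P₁, hP₁⟩ : ∃ P₁ : Subgroup H, P₁ = Pb.comap π := ⟨_, rfl⟩
  have hP₁mem : ∀ x : H, x ∈ P₁ ↔ π x ∈ Pb := by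
    intro x
    rw [hP₁]
    exact Iff.rfl
  obtain ⟨M', hM'⟩ : ∃ M' : Subgroup H, M' = Subgroup.normalizer (P₁ : Set H) := ⟨_, rfl⟩
  have hP₁M : P₁ ≤ M' := by rw [hM']; exact Subgroup.le_normalizer
  obtain ⟨N, hN⟩ : ∃ N : Subgroup ↥M', N = P₁.subgroupOf M' := ⟨_, rfl⟩
  haveI hNn : N.Normal := by
    rw [hN]
    subst hM'
    exact Subgroup.normal_in_normalizer
  have hNmem : ∀ x : ↥M', x ∈ N ↔ (x : H) ∈ P₁ := by
    intro x
    rw [hN]
    exact Subgroup.mem_subgroupOf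
  obtain ⟨Q⟩ : Nonempty (Sylow p ↥N) := inferInstance
  obtain ⟨Q', hQ'⟩ : ∃ Q' : Subgroup ↥M', Q' = (Q : Subgroup ↥N).map N.subtype := ⟨_, rfl⟩
  have hfrat : Subgroup.normalizer (Q' : Set ↥M') ⊔ N = ⊤ := by
    rw [hQ']
    exact Sylow.normalizer_sup_eq_top Q
  obtain ⟨P₀, hP₀⟩ : ∃ P₀ : Subgroup H, P₀ = Q'.map M'.subtype := ⟨_, rfl⟩
  have hP₀p : IsPGroup p P₀ := by
    rw [hP₀, hQ']
    exact (Q.2.map _).map _
  have hP₀mem : ∀ q : ↥N, q ∈ Q → ((q : ↥M') : H) ∈ P₀ := by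
    intro q hq
    rw [hP₀, hQ']
    exact ⟨(q : ↥M'), ⟨q, hq, rfl⟩, rfl⟩
  have hmap : P₀.map π = Pb := by
    apply le_antisymm
    · rw [hP₀, hQ']
      rintro _ ⟨x, ⟨m, ⟨q, hq, rfl⟩, rfl⟩, rfl⟩
      exact (hP₁mem _).mp ((hNmem _).mp q.2)
    · intro yb hyb
      obtain ⟨π₁, hπ₁⟩ : ∃ π₁ : ↥N →* ↥Pb, ∀ q : ↥N, ((π₁ q : ↥Pb) : Y) = π ((q : ↥M') : H) :=
        ⟨((π.comp M'.subtype).comp N.subtype).codRestrict Pb
          (fun q => (hP₁mem _).mp ((hNmem _).mp q.2)), fun q => rfl⟩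
      have hπ₁s : Function.Surjective π₁ := by
        rintro ⟨y', hy'⟩
        obtain ⟨y, rfl⟩ := hπ y'
        have hy1 : y ∈ P₁ := (hP₁mem y).mpr hy'
        refine ⟨⟨⟨y, hP₁M hy1⟩, (hNmem _).mpr hy1⟩, ?_⟩
        apply Subtype.ext
        rw [hπ₁]
      have htop : (⊤ : Subgroup ↥Pb) = ↑(Q.mapSurjective hπ₁s) :=
        (Q.mapSurjective hπ₁s).is_maximal' (hPb.to_subgroup ⊤) le_top
      have hmem : (⟨yb, hyb⟩ : ↥Pb) ∈ (↑(Q.mapSurjective hπ₁s) : Subgroup ↥Pb) := by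
        rw [← htop]
        trivial
      rw [Sylow.coe_mapSurjective] at hmem
      obtain ⟨q, hq, hqy⟩ := hmem
      refine ⟨((q : ↥M') : H), hP₀mem q hq, ?_⟩
      rw [← hπ₁, hqy]
  refine ⟨P₀, hP₀p, hmap, ?_⟩
  intro nb hnb
  obtain ⟨n, rfl⟩ := hπ nb
  have hn : n ∈ M' := by
    rw [hM', Subgroup.mem_normalizer_iff]
    intro x
    rw [hP₁mem, hP₁mem, map_mul, map_mul, map_inv]
    exact (Subgroup.mem_normalizer_iff.mp hnb) (π x)
  have hmemtop : (⟨n, hn⟩ : ↥M') ∈ Subgroup.normalizer (Q' : Set ↥M') ⊔ N := by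
    rw [hfrat]
    trivial
  obtain ⟨a, ha, b, hb, hab⟩ := Subgroup.mem_sup_of_normal_right.mp hmemtop
  have hbP : π (b : H) ∈ Pb := (hP₁mem _).mp ((hNmem b).mp hb)
  rw [← hmap] at hbP
  obtain ⟨s, hs, hsb⟩ := hbP
  have haN : (a : H) ∈ Subgroup.normalizer (P₀ : Set H) := by
    rw [hP₀]
    exact Subgroup.le_normalizer_map M'.subtype ⟨a, ha, rfl⟩
  refine ⟨(a : H) * s, Subgroup.mul_mem _ haN (Subgroup.le_normalizer hs), ?_⟩
  rw [map_mul, hsb, ← map_mul]
  congr 1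
  exact congrArg Subtype.val hab

/-- a quadratic element of the normalizer of a `p`-subgroup, when the normalizer does not involve
`SL(2, p)`, has image in the `p`-core of the automizer -/
theorem normalizerPStable_core {Y : Type u} [Group Y] [Finite Y] {p : ℕ} [hp : Fact p.Prime]
    (hp2 : p ≠ 2) (P : Subgroup Y) (hP : IsPGroup p P) (g : Y)
    (hg : g ∈ Subgroup.normalizer (P : Set Y))
    (hquad : ⁅⁅P, Subgroup.zpowers g⁆, Subgroup.zpowers g⁆ = ⊥)
    (hnoX : ¬ Cfsg.Involves (Matrix.SpecialLinearGroup (Fin 2) (ZMod p))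
      ↥(Subgroup.normalizer (P : Set Y))) :
    (QuotientGroup.mk (s := (Subgroup.centralizer (P : Set Y)).subgroupOf
        (Subgroup.normalizer (P : Set Y)))
      (⟨g, hg⟩ : ↥(Subgroup.normalizer (P : Set Y)))) ∈
      Cfsg.pCore p (↥(Subgroup.normalizer (P : Set Y)) ⧸
        (Subgroup.centralizer (P : Set Y)).subgroupOf (Subgroup.normalizer (P : Set Y))) := by
  classical
  obtain ⟨φ, hφ⟩ : ∃ φ : ↥(Subgroup.normalizer (P : Set Y)) →*
      MulAut ↥P, ∀ (h : ↥(Subgroup.normalizer (P : Set Y)))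
        (v : ↥P), ((φ h v : ↥P) : Y) = h * v * (h : Y)⁻¹ :=
    ⟨P.normalizerMonoidHom, fun _ _ => rfl⟩
  have hq : ∀ v : ↥P, φ ⟨g, hg⟩ (φ ⟨g, hg⟩ v * v⁻¹) = φ ⟨g, hg⟩ v * v⁻¹ := by
    intro v
    apply Subtype.ext
    rw [hφ, Subgroup.coe_mul, hφ, Subgroup.coe_inv]
    exact quad_elem_of_comm P g hquad v v.2
  obtain ⟨N, hNn, haN, hN⟩ := quad_na p hp2 hnoX ⟨g, hg⟩ _ ↥P rfl hP φ hq
  have hNbn : (N.map (QuotientGroup.mk'
      ((Subgroup.centralizer (P : Set Y)).subgroupOf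
        (Subgroup.normalizer (P : Set Y))))).Normal :=
    hNn.map _ (QuotientGroup.mk'_surjective _)
  have hNbp : IsPGroup p (N.map (QuotientGroup.mk'
      ((Subgroup.centralizer (P : Set Y)).subgroupOf
        (Subgroup.normalizer (P : Set Y))))) := by
    rintro ⟨y, x, hx, rfl⟩
    obtain ⟨k, hk⟩ := hN x hx
    refine ⟨k, ?_⟩
    apply Subtype.ext
    rw [Subgroup.coe_pow, Subgroup.coe_one]
    show (QuotientGroup.mk' _ x) ^ p ^ k = 1
    rw [← map_pow]
    apply (QuotientGroup.eq_one_iff _).mpr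
    rw [Subgroup.mem_subgroupOf, Subgroup.mem_centralizer_iff]
    intro v hv
    have h1 : φ (x ^ p ^ k) ⟨v, hv⟩ = ⟨v, hv⟩ := by rw [map_pow, hk]; rfl
    have h2 := congrArg Subtype.val h1
    rw [hφ] at h2
    obtain ⟨y, hy⟩ : ∃ y : Y,
        y = ((x ^ p ^ k : ↥(Subgroup.normalizer (P : Set Y))) : Y) := ⟨_, rfl⟩
    rw [← hy] at h2 ⊢
    calc v * y = (y * v * y⁻¹) * y := by rw [h2]
      _ = y * v := by group
  exact Cfsg.Agent.Lib.Helper14.le_pCore p hNbn hNbp ⟨⟨g, hg⟩, haN, rfl⟩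

theorem sections_pstable {G : Type u} [Group G] [Finite G] {p : ℕ} [hp : Fact p.Prime]
    (hp2 : p ≠ 2)
    (h : ∀ P : Subgroup G, IsPGroup p ↥P → P ≠ ⊥ →
      ¬ Cfsg.Involves (Matrix.SpecialLinearGroup (Fin 2) (ZMod p))
        ↥(Subgroup.normalizer ((P : Subgroup G) : Set G)))
    (K : Subgroup G) {Y : Type u} [Group Y] (π : ↥K →* Y) (hπ : Function.Surjective π) :
    Cfsg.IsNormalizerPStable p Y := by
  classical
  haveI : Finite Y := Finite.of_surjective π hπ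
  intro Pb hPb g hg hquad
  by_cases hbot : Pb = ⊥
  · have h1 : (QuotientGroup.mk (s := (Subgroup.centralizer (Pb : Set Y)).subgroupOf
        (Subgroup.normalizer (Pb : Set Y)))
        (⟨g, hg⟩ : ↥(Subgroup.normalizer (Pb : Set Y)))) = 1 := by
      apply (QuotientGroup.eq_one_iff _).mpr
      rw [Subgroup.mem_subgroupOf, Subgroup.mem_centralizer_iff]
      intro v hv
      rw [hbot] at hv
      have hv1 : v = 1 := hv
      rw [hv1, one_mul, mul_one]
    rw [h1]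
    exact Subgroup.one_mem _
  · apply normalizerPStable_core hp2 Pb hPb g hg hquad
    intro hI
    obtain ⟨P₀, hP₀p, hmap, hlift⟩ := frattini_lift π hπ p Pb hPb
    have hP₀ne : P₀ ≠ ⊥ := by
      rintro rfl
      apply hbot
      rw [← hmap, Subgroup.map_bot]
    obtain ⟨f₁, hf₁⟩ : ∃ f₁ : ↥(Subgroup.normalizer (P₀ : Set ↥K)) →*
        ↥(Subgroup.normalizer (Pb : Set Y)),
        ∀ z, ((f₁ z : ↥(Subgroup.normalizer (Pb : Set Y))) : Y) = π (z : ↥K) := by
      refine ⟨(π.comp (Subgroup.normalizer (P₀ : Set ↥K)).subtype).codRestrict _ ?_, fun z => rfl⟩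
      intro z
      have h0 := Subgroup.le_normalizer_map π (H := P₀) ⟨(z : ↥K), z.2, rfl⟩
      rw [hmap] at h0
      exact h0
    have hf₁s : Function.Surjective f₁ := by
      rintro ⟨nb, hnb⟩
      obtain ⟨n, hn, hnn⟩ := hlift nb hnb
      exact ⟨⟨n, hn⟩, Subtype.ext (by rw [hf₁, hnn])⟩
    obtain ⟨f₂, hf₂⟩ : ∃ f₂ : ↥(Subgroup.normalizer (P₀ : Set ↥K)) →*
        ↥(Subgroup.normalizer ((P₀.map K.subtype : Subgroup G) : Set G)),
        ∀ z, ((f₂ z : ↥(Subgroup.normalizer ((P₀.map K.subtype : Subgroup G) : Set G))) : G)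
          = ((z : ↥K) : G) := by
      refine ⟨(K.subtype.comp (Subgroup.normalizer (P₀ : Set ↥K)).subtype).codRestrict _ ?_,
        fun z => rfl⟩
      intro z
      exact Subgroup.le_normalizer_map K.subtype (H := P₀) ⟨(z : ↥K), z.2, rfl⟩
    have hf₂i : Function.Injective f₂ := by
      intro z z' hzz
      have h0 := congrArg Subtype.val hzz
      rw [hf₂, hf₂] at h0
      exact Subtype.ext (Subtype.ext h0)
    have h1 := involves_of_surjective_hom f₁ hf₁s hI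
    have h2 := involves_of_injective_hom f₂ hf₂i h1
    refine h (P₀.map K.subtype) (hP₀p.map _) ?_ h2
    intro h0
    apply hP₀ne
    rw [eq_bot_iff]
    intro x hx
    have hx' : (x : G) ∈ P₀.map K.subtype := ⟨x, hx, rfl⟩
    rw [h0, Subgroup.mem_bot] at hx'
    rw [Subgroup.mem_bot]
    exact Subtype.ext hx'

end QuadFrat

end Cfsg.Agent.Lib.Helper17
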