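import Cfsg.Agent.Lib.Helper17.CACore

set_option autoImplicit false
set_option maxHeartbeats 1000000

/-!
Finite subgroups of odd order of the two-dimensional special linear group over a field of odd
characteristic `p`: elements of order dividing `p` commute.
-/

namespace Cfsg.Agent.Lib.Helper17

open Matrix

section Mat2

variable {K : Type*} [Field K]

theorem mat2_sq (g : Matrix (Fin 2) (Fin 2) K) :
    g * g = g.trace • g - g.det • (1 : Matrix (Fin 2) (Fin 2) K) := by
  ext i j
  fin_cases i <;> fin_cases j <;>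
    simp [Matrix.mul_apply, Fin.sum_univ_two, Matrix.trace, Matrix.det_fin_two] <;> ring

theorem mat2_comm_repr (g h : Matrix (Fin 2) (Fin 2) K) (hg : ∀ μ : K, g ≠ μ • 1)
    (hc : g * h = h * g) : ∃ α β : K, h = α • (1 : Matrix (Fin 2) (Fin 2) K) + β • g := by
  have e00 := congrFun (congrFun hc 0) 0
  have e01 := congrFun (congrFun hc 0) 1
  have e10 := congrFun (congrFun hc 1) 0
  simp only [Matrix.mul_apply, Fin.sum_univ_two] at e00 e01 e10
  by_cases hb : g 0 1 = 0
  · by_cases hcc : g 1 0 = 0
    · have had : g 0 0 ≠ g 1 1 := by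
        intro had
        apply hg (g 0 0)
        ext i j
        fin_cases i <;> fin_cases j <;> simp [hb, hcc, had]
      have had' : g 0 0 - g 1 1 ≠ 0 := sub_ne_zero.mpr had
      rw [hb] at e01
      rw [hcc] at e10
      have hy : h 0 1 = 0 := by
        have : h 0 1 * (g 0 0 - g 1 1) = 0 := by linear_combination e01
        exact (mul_eq_zero.mp this).resolve_right had'
      have hz : h 1 0 = 0 := by
        have : h 1 0 * (g 0 0 - g 1 1) = 0 := by linear_combination -e10
        exact (mul_eq_zero.mp this).resolve_right had'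
      refine ⟨h 0 0 - (h 0 0 - h 1 1) / (g 0 0 - g 1 1) * g 0 0,
        (h 0 0 - h 1 1) / (g 0 0 - g 1 1), ?_⟩
      ext i j
      fin_cases i <;> fin_cases j
      · simp
      · simp [hy, hb]
      · simp [hz, hcc]
      · simp
        field_simp
        ring
    · rw [hb] at e00 e01
      have hy : h 0 1 = 0 := by
        have : h 0 1 * g 1 0 = 0 := by linear_combination -e00
        exact (mul_eq_zero.mp this).resolve_right hcc
      refine ⟨h 0 0 - h 1 0 / g 1 0 * g 0 0, h 1 0 / g 1 0, ?_⟩
      ext i j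
      fin_cases i <;> fin_cases j
      · simp
      · simp [hy, hb]
      · simp
        field_simp
      · simp
        field_simp
        linear_combination -e10
  · refine ⟨h 0 0 - h 0 1 / g 0 1 * g 0 0, h 0 1 / g 0 1, ?_⟩
    ext i j
    fin_cases i <;> fin_cases j
    · simp
    · simp
      field_simp
    · simp
      field_simp
      linear_combination e00
    · simp
      field_simp
      linear_combination e01

theorem mat2_det_lin (g : Matrix (Fin 2) (Fin 2) K) (α β : K) :
    (α • (1 : Matrix (Fin 2) (Fin 2) K) + β • g).det = α ^ 2 + α * β * g.trace + β ^ 2 * g.det := by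
  simp [Matrix.det_fin_two, Matrix.trace]
  ring

theorem mat2_trace_lin (g : Matrix (Fin 2) (Fin 2) K) (α β : K) :
    (α • (1 : Matrix (Fin 2) (Fin 2) K) + β • g).trace = 2 * α + β * g.trace := by
  simp [Matrix.trace]
  ring

end Mat2

section SL2

variable {K : Type*} [Field K]

theorem sl2_odd_comm (p : ℕ) [hp : Fact p.Prime] [CharP K p] (hp2 : p ≠ 2)
    (G : Subgroup (Matrix.SpecialLinearGroup (Fin 2) K)) [Finite G] (hodd : Odd (Nat.card G))
    (u₁ u₂ : Matrix.SpecialLinearGroup (Fin 2) K) (h₁ : u₁ ∈ G) (h₂ : u₂ ∈ G)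
    (hu₁ : u₁ ^ p = 1) (hu₂ : u₂ ^ p = 1) : u₁ * u₂ = u₂ * u₁ := by
  have h2ne : (2 : K) ≠ 0 := by
    intro h
    have h3 : ((2 : ℕ) : K) = 0 := by exact_mod_cast h
    rw [CharP.cast_eq_zero_iff K p] at h3
    exact hp2 ((Nat.prime_dvd_prime_iff_eq hp.1 Nat.prime_two).mp h3)
  have hE0 : ∀ x : G, x * x = 1 → x = 1 := by
    intro x hx
    have h1 : orderOf x ∣ 2 := orderOf_dvd_of_pow_eq_one (by rw [pow_two]; exact hx)
    have h2 : Odd (orderOf x) := hodd.of_dvd_nat (orderOf_dvd_natCard x)
    have h3 : orderOf x = 1 := by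
      rcases (Nat.dvd_prime Nat.prime_two).mp h1 with h | h
      · exact h
      · rw [h] at h2; exact absurd h2 (by decide)
    exact orderOf_eq_one_iff.mp h3
  obtain ⟨m, hm⟩ : ∃ m : G → Matrix (Fin 2) (Fin 2) K,
      m = fun x : G => ((x : Matrix.SpecialLinearGroup (Fin 2) K) : Matrix (Fin 2) (Fin 2) K) :=
    ⟨_, rfl⟩
  have hm_mul : ∀ x y : G, m (x * y) = m x * m y := by
    intro x y; rw [hm]; simp
  have hm_one : m 1 = 1 := by rw [hm]; simp
  have hm_inj : ∀ x y : G, m x = m y → x = y := by
    intro x y h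
    rw [hm] at h
    exact Subtype.ext (Subtype.ext h)
  have hm_pow : ∀ (x : G) (n : ℕ), m (x ^ n) = m x ^ n := by
    intro x n
    induction n with
    | zero => rw [pow_zero, pow_zero, hm_one]
    | succ k ih => rw [pow_succ, pow_succ, hm_mul, ih]
  have hm_det : ∀ x : G, (m x).det = 1 := by
    intro x; rw [hm]; exact (x : Matrix.SpecialLinearGroup (Fin 2) K).det_coe
  have hE1 : ∀ (x : G) (μ : K), m x = μ • 1 → x = 1 := by
    intro x μ hx
    apply hE0
    apply hm_inj
    rw [hm_mul, hm_one, hx]
    have hd := hm_det x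
    rw [hx, Matrix.det_smul, Matrix.det_one, Fintype.card_fin, mul_one] at hd
    rw [smul_mul_smul_comm, mul_one, ← pow_two, hd, one_smul]
  have hns : ∀ x : G, x ≠ 1 → ∀ μ : K, m x ≠ μ • 1 := fun x hx μ h => hx (hE1 x μ h)
  have H1 : ∀ g h k : G, g ≠ 1 → g * h = h * g → g * k = k * g → h * k = k * h := by
    intro g h k hg hgh hgk
    obtain ⟨α, β, hh⟩ := mat2_comm_repr (m g) (m h) (hns g hg) (by rw [← hm_mul, ← hm_mul, hgh])
    obtain ⟨α', β', hk⟩ := mat2_comm_repr (m g) (m k) (hns g hg) (by rw [← hm_mul, ← hm_mul, hgk])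
    apply hm_inj
    rw [hm_mul, hm_mul, hh, hk]
    have c : Commute (α • (1 : Matrix (Fin 2) (Fin 2) K) + β • m g)
        (α' • (1 : Matrix (Fin 2) (Fin 2) K) + β' • m g) := by
      apply Commute.add_left <;> apply Commute.add_right
      · exact ((Commute.one_left _).smul_left α).smul_right α'
      · exact ((Commute.one_left (m g)).smul_left α).smul_right β'
      · exact ((Commute.one_right (m g)).smul_left β).smul_right α'
      · exact ((Commute.refl (m g)).smul_left β).smul_right β'
    exact c.eq
  have H2 : ∀ g h : G, g ≠ 1 → g ^ p = 1 → g * h = h * g → h ^ p = 1 := by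
    intro g h hg hgp hgh
    obtain ⟨α, β, hh⟩ := mat2_comm_repr (m g) (m h) (hns g hg) (by rw [← hm_mul, ← hm_mul, hgh])
    have hgm : m g ^ p = 1 := by rw [← hm_pow, hgp, hm_one]
    have hN : (m g - 1) ^ p = 0 := by
      rw [sub_pow_char_of_commute p (Commute.one_right _), hgm, one_pow, sub_self]
    have hh' : m h = (α + β) • (1 : Matrix (Fin 2) (Fin 2) K) + β • (m g - 1) := by
      rw [hh, smul_sub, add_smul]; abel
    have hcm : Commute ((α + β) • (1 : Matrix (Fin 2) (Fin 2) K)) (β • (m g - 1)) :=
      ((Commute.one_left _).smul_left _).smul_right _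
    have hhp : m h ^ p = ((α + β) ^ p) • (1 : Matrix (Fin 2) (Fin 2) K) := by
      rw [hh', add_pow_char_of_commute p hcm, smul_pow, smul_pow, one_pow, hN, smul_zero, add_zero]
    exact hE1 (h ^ p) _ (by rw [hm_pow, hhp])
  have H3 : ∀ s n : G, s ^ p ≠ 1 → (n * s * n⁻¹) * s = s * (n * s * n⁻¹) →
      n * s * n⁻¹ = s ∨ n * s * n⁻¹ = s⁻¹ := by
    intro s n hs hcomm
    have hs1 : s ≠ 1 := by rintro rfl; exact hs (one_pow p)
    obtain ⟨t, ht⟩ : ∃ t : G, t = n * s * n⁻¹ := ⟨_, rfl⟩
    rw [← ht] at hcomm ⊢
    obtain ⟨α, β, htm⟩ := mat2_comm_repr (m s) (m t) (hns s hs1)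
      (by rw [← hm_mul, ← hm_mul, hcomm])
    have htr : (m t).trace = (m s).trace := by
      have e : m t * m n = m n * m s := by
        rw [← hm_mul, ← hm_mul]; congr 1; rw [ht]; group
      have e2 : m n * m n⁻¹ = 1 := by rw [← hm_mul, mul_inv_cancel, hm_one]
      calc (m t).trace = (m t * (m n * m n⁻¹)).trace := by rw [e2, mul_one]
        _ = ((m t * m n) * m n⁻¹).trace := by rw [mul_assoc]
        _ = ((m n * m s) * m n⁻¹).trace := by rw [e]
        _ = (m n⁻¹ * (m n * m s)).trace := Matrix.trace_mul_comm _ _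
        _ = (m s).trace := by rw [← mul_assoc, ← hm_mul, inv_mul_cancel, hm_one, one_mul]
    have hdet_t := hm_det t
    have hdet_s := hm_det s
    rw [htm, mat2_trace_lin] at htr
    rw [htm, mat2_det_lin, hdet_s] at hdet_t
    obtain ⟨τ, hτ⟩ : ∃ τ : K, τ = (m s).trace := ⟨_, rfl⟩
    rw [← hτ] at htr hdet_t
    have hsq : m s * m s = τ • m s - (1 : Matrix (Fin 2) (Fin 2) K) := by
      rw [mat2_sq, hdet_s, one_smul, hτ]
    have hkey : (1 - β ^ 2) * (τ ^ 2 - 4) = 0 := by
      linear_combination 4 * hdet_t - (τ * (1 - β) + 2 * α + 2 * β * τ) * htr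
    have hp2' : 2 ≤ p := hp.1.two_le
    rcases mul_eq_zero.mp hkey with hβ | hτ4
    · have hβ' : (β - 1) * (β + 1) = 0 := by linear_combination -hβ
      rcases mul_eq_zero.mp hβ' with hb | hb
      · left
        have hβ1 : β = 1 := by linear_combination hb
        have hα : α = 0 := by
          have : 2 * α = 0 := by rw [hβ1] at htr; linear_combination htr
          exact (mul_eq_zero.mp this).resolve_left h2ne
        apply hm_inj
        rw [htm, hα, hβ1, zero_smul, one_smul, zero_add]
      · right
        have hβ1 : β = -1 := by linear_combination hb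
        have hα : α = τ := by
          have : 2 * (α - τ) = 0 := by rw [hβ1] at htr; linear_combination htr
          have h3 := (mul_eq_zero.mp this).resolve_left h2ne
          linear_combination h3
        apply eq_inv_of_mul_eq_one_right
        apply hm_inj
        rw [hm_mul, hm_one, htm, hα, hβ1, mul_add, mul_smul_comm, mul_smul_comm, mul_one, hsq]
        simp
    · exfalso
      have hτ' : (τ - 2) * (τ + 2) = 0 := by linear_combination hτ4
      rcases mul_eq_zero.mp hτ' with hb | hb
      · have hτ2 : τ = 2 := by linear_combination hb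
        have h3 : (m s - 1) * (m s - 1) = 0 := by
          have : (m s - 1) * (m s - 1) = m s * m s - (2 : K) • m s + 1 := by
            rw [two_smul]; noncomm_ring
          rw [this, hsq, hτ2]; abel
        have h4 : (m s - 1) ^ p = 0 := by
          obtain ⟨k, rfl⟩ : ∃ k, p = 2 + k := ⟨p - 2, by omega⟩
          rw [pow_add, pow_two, h3, zero_mul]
        rw [sub_pow_char_of_commute p (Commute.one_right _), one_pow, sub_eq_zero] at h4
        apply hs
        apply hm_inj
        rw [hm_pow, h4, hm_one]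
      · have hτ2 : τ = -2 := by linear_combination hb
        have h3 : (m s + 1) * (m s + 1) = 0 := by
          have : (m s + 1) * (m s + 1) = m s * m s + (2 : K) • m s + 1 := by
            rw [two_smul]; noncomm_ring
          rw [this, hsq, hτ2, neg_smul]
          abel
        have h4 : (m s + 1) ^ p = 0 := by
          obtain ⟨k, rfl⟩ : ∃ k, p = 2 + k := ⟨p - 2, by omega⟩
          rw [pow_add, pow_two, h3, zero_mul]
        rw [add_pow_char_of_commute p (Commute.one_right _), one_pow] at h4
        apply hs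
        apply hE1 (s ^ p) (-1)
        rw [hm_pow]
        rw [neg_smul, one_smul]
        exact eq_neg_of_add_eq_zero_left h4
  have key := ca_core_odd (G := G) p hodd H1 H2 H3 ⟨u₁, h₁⟩ ⟨u₂, h₂⟩ (Subtype.ext hu₁)
    (Subtype.ext hu₂)
  exact congrArg Subtype.val key

end SL2

end Cfsg.Agent.Lib.Helper17
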