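import Cfsg.Agent.Lib.Helper17.SL2Like

set_option autoImplicit false
set_option maxHeartbeats 1000000
set_option linter.unusedVariables false
set_option linter.unusedSimpArgs false
set_option linter.style.haveILetI false

/-!
Entry calculus in two-dimensional special linear groups, the upper triangular and upper
unitriangular subgroups, and centralizers and normalizers inside a subgroup containing an upper
unitriangular element.
-/

namespace Cfsg.Agent.Lib.Helper17

section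

variable {K : Type*} [Field K]

local notation "SL₂" => Matrix.SpecialLinearGroup (Fin 2) K

theorem sl2_mul_apply (g h : SL₂) (i j : Fin 2) :
    (g * h).1 i j = g.1 i 0 * h.1 0 j + g.1 i 1 * h.1 1 j := by
  rw [Matrix.SpecialLinearGroup.coe_mul, Matrix.mul_apply, Fin.sum_univ_two]

theorem sl2_inv_00 (g : SL₂) : (g⁻¹).1 0 0 = g.1 1 1 := by
  rw [Matrix.SpecialLinearGroup.coe_inv, Matrix.adjugate_fin_two]; simp

theorem sl2_inv_01 (g : SL₂) : (g⁻¹).1 0 1 = - g.1 0 1 := by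
  rw [Matrix.SpecialLinearGroup.coe_inv, Matrix.adjugate_fin_two]; simp

theorem sl2_inv_10 (g : SL₂) : (g⁻¹).1 1 0 = - g.1 1 0 := by
  rw [Matrix.SpecialLinearGroup.coe_inv, Matrix.adjugate_fin_two]; simp

theorem sl2_inv_11 (g : SL₂) : (g⁻¹).1 1 1 = g.1 0 0 := by
  rw [Matrix.SpecialLinearGroup.coe_inv, Matrix.adjugate_fin_two]; simp

theorem sl2_det' (g : SL₂) : g.1 0 0 * g.1 1 1 - g.1 0 1 * g.1 1 0 = 1 := by
  have h := g.det_coe
  rw [Matrix.det_fin_two] at h
  exact h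

theorem sl2_ext' (g h : SL₂) (h00 : g.1 0 0 = h.1 0 0) (h01 : g.1 0 1 = h.1 0 1)
    (h10 : g.1 1 0 = h.1 1 0) (h11 : g.1 1 1 = h.1 1 1) : g = h := by
  apply Subtype.ext
  ext i j
  fin_cases i <;> fin_cases j <;> assumption

theorem sl2_one_00 : (1 : SL₂).1 0 0 = 1 := by simp
theorem sl2_one_01 : (1 : SL₂).1 0 1 = 0 := by simp
theorem sl2_one_10 : (1 : SL₂).1 1 0 = 0 := by simp
theorem sl2_one_11 : (1 : SL₂).1 1 1 = 1 := by simp

/-- upper unitriangular element -/
def uu (a : K) : SL₂ := ⟨!![1, a; 0, 1], by simp [Matrix.det_fin_two]⟩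

/-- lower unitriangular element -/
def ll (b : K) : SL₂ := ⟨!![1, 0; b, 1], by simp [Matrix.det_fin_two]⟩

theorem uu_00 (a : K) : (uu a).1 0 0 = 1 := by simp [uu]
theorem uu_01 (a : K) : (uu a).1 0 1 = a := by simp [uu]
theorem uu_10 (a : K) : (uu a).1 1 0 = 0 := by simp [uu]
theorem uu_11 (a : K) : (uu a).1 1 1 = 1 := by simp [uu]
theorem ll_00 (b : K) : (ll b).1 0 0 = 1 := by simp [ll]
theorem ll_01 (b : K) : (ll b).1 0 1 = 0 := by simp [ll]
theorem ll_10 (b : K) : (ll b).1 1 0 = b := by simp [ll]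
theorem ll_11 (b : K) : (ll b).1 1 1 = 1 := by simp [ll]

theorem negOne_00 : (negOne : SL₂).1 0 0 = -1 := by simp [negOne]
theorem negOne_01 : (negOne : SL₂).1 0 1 = 0 := by simp [negOne]
theorem negOne_10 : (negOne : SL₂).1 1 0 = 0 := by simp [negOne]
theorem negOne_11 : (negOne : SL₂).1 1 1 = -1 := by simp [negOne]

variable (K) in
/-- the upper triangular subgroup -/
def borel : Subgroup SL₂ where
  carrier := {g | g.1 1 0 = 0}
  mul_mem' := by
    intro g h hg hh
    have hg' : g.1 1 0 = 0 := hg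
    have hh' : h.1 1 0 = 0 := hh
    show (g * h).1 1 0 = 0
    rw [sl2_mul_apply, hg', hh']; ring
  one_mem' := sl2_one_10
  inv_mem' := by
    intro g hg
    have hg' : g.1 1 0 = 0 := hg
    show (g⁻¹).1 1 0 = 0
    rw [sl2_inv_10, hg', neg_zero]

variable (K) in
/-- the upper unitriangular subgroup -/
def unip : Subgroup SL₂ where
  carrier := {g | g.1 1 0 = 0 ∧ g.1 0 0 = 1}
  mul_mem' := by
    intro g h hg hh
    have hg' : g.1 1 0 = 0 ∧ g.1 0 0 = 1 := hg
    have hh' : h.1 1 0 = 0 ∧ h.1 0 0 = 1 := hh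
    show (g * h).1 1 0 = 0 ∧ (g * h).1 0 0 = 1
    rw [sl2_mul_apply, sl2_mul_apply, hg'.1, hh'.1, hg'.2, hh'.2]
    constructor <;> ring
  one_mem' := ⟨sl2_one_10, sl2_one_00⟩
  inv_mem' := by
    intro g hg
    have hg' : g.1 1 0 = 0 ∧ g.1 0 0 = 1 := hg
    show (g⁻¹).1 1 0 = 0 ∧ (g⁻¹).1 0 0 = 1
    rw [sl2_inv_10, sl2_inv_00, hg'.1, neg_zero]
    refine ⟨rfl, ?_⟩
    have hd := sl2_det' g
    rw [hg'.1, hg'.2] at hd
    linear_combination hd

theorem mem_borel (g : SL₂) : g ∈ borel K ↔ g.1 1 0 = 0 := Iff.rfl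

theorem mem_unip (g : SL₂) : g ∈ unip K ↔ g.1 1 0 = 0 ∧ g.1 0 0 = 1 := Iff.rfl

theorem unip_11 (g : SL₂) (hg : g ∈ unip K) : g.1 1 1 = 1 := by
  rw [mem_unip] at hg
  have hd := sl2_det' g
  rw [hg.1, hg.2] at hd
  linear_combination hd

theorem unip_eq_uu (g : SL₂) (hg : g ∈ unip K) : g = uu (g.1 0 1) := by
  have h11 := unip_11 g hg
  rw [mem_unip] at hg
  apply sl2_ext'
  · rw [uu_00, hg.2]
  · rw [uu_01]
  · rw [uu_10, hg.1]
  · rw [uu_11, h11]

theorem uu_mem_unip (a : K) : uu a ∈ unip K := ⟨uu_10 a, uu_00 a⟩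

theorem uu_mul (a b : K) : uu a * uu b = uu (a + b) := by
  apply sl2_ext'
  · rw [sl2_mul_apply, uu_00, uu_00, uu_01, uu_10, uu_00]; ring
  · rw [sl2_mul_apply, uu_00, uu_01, uu_01, uu_11, uu_01]; ring
  · rw [sl2_mul_apply, uu_10, uu_00, uu_11, uu_10, uu_10]; ring
  · rw [sl2_mul_apply, uu_10, uu_01, uu_11, uu_11, uu_11]; ring

theorem uu_pow (a : K) (n : ℕ) : uu a ^ n = uu (n * a) := by
  induction n with
  | zero =>
    rw [pow_zero, Nat.cast_zero, zero_mul]
    apply sl2_ext'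
    · rw [sl2_one_00, uu_00]
    · rw [sl2_one_01, uu_01]
    · rw [sl2_one_10, uu_10]
    · rw [sl2_one_11, uu_11]
  | succ k ih =>
    rw [pow_succ, ih, uu_mul]
    congr 1
    push_cast
    ring

theorem ll_mul (a b : K) : ll a * ll b = ll (a + b) := by
  apply sl2_ext'
  · rw [sl2_mul_apply, ll_00, ll_00, ll_01, ll_10, ll_00]; ring
  · rw [sl2_mul_apply, ll_00, ll_01, ll_01, ll_11, ll_01]; ring
  · rw [sl2_mul_apply, ll_10, ll_00, ll_11, ll_10, ll_10]; ring
  · rw [sl2_mul_apply, ll_10, ll_01, ll_11, ll_11, ll_11]; ring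

theorem ll_pow (a : K) (n : ℕ) : ll a ^ n = ll (n * a) := by
  induction n with
  | zero =>
    rw [pow_zero, Nat.cast_zero, zero_mul]
    apply sl2_ext'
    · rw [sl2_one_00, ll_00]
    · rw [sl2_one_01, ll_01]
    · rw [sl2_one_10, ll_10]
    · rw [sl2_one_11, ll_11]
  | succ k ih =>
    rw [pow_succ, ih, ll_mul]
    congr 1
    push_cast
    ring

/-- commuting with a nontrivial upper unitriangular element -/
theorem comm_uu_iff (a : K) (ha : a ≠ 0) (g : SL₂) :
    uu a * g = g * uu a ↔ g.1 1 0 = 0 ∧ g.1 0 0 = g.1 1 1 := by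
  constructor
  · intro h
    have h00 := congrArg (fun x : SL₂ => x.1 0 0) h
    have h01 := congrArg (fun x : SL₂ => x.1 0 1) h
    simp only [sl2_mul_apply, uu_00, uu_01, uu_10, uu_11] at h00 h01
    have h1 : g.1 1 0 = 0 := by
      have : a * g.1 1 0 = 0 := by linear_combination h00
      exact (mul_eq_zero.mp this).resolve_left ha
    refine ⟨h1, ?_⟩
    have : a * (g.1 0 0 - g.1 1 1) = 0 := by linear_combination -h01
    have h2 := (mul_eq_zero.mp this).resolve_left ha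
    linear_combination h2
  · rintro ⟨h1, h2⟩
    apply sl2_ext'
    · simp only [sl2_mul_apply, uu_00, uu_01, uu_10, uu_11]; rw [h1]; ring
    · simp only [sl2_mul_apply, uu_00, uu_01, uu_10, uu_11]; rw [h2]; ring
    · simp only [sl2_mul_apply, uu_00, uu_01, uu_10, uu_11]; rw [h1]; ring
    · simp only [sl2_mul_apply, uu_00, uu_01, uu_10, uu_11]; rw [h1]; ring

end

end Cfsg.Agent.Lib.Helper17
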