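import Cfsg.Agent.Lib.Helper17.SL2Dickson

set_option autoImplicit false
set_option maxHeartbeats 2000000
set_option linter.unusedVariables false
set_option linter.unusedSimpArgs false
set_option linter.style.haveILetI false

/-!
The minimal case of the subgroup theorem for two-dimensional special linear groups.
-/

namespace Cfsg.Agent.Lib.Helper17

section

variable {K : Type*} [Field K]

local notation "SL₂" => Matrix.SpecialLinearGroup (Fin 2) K

theorem dickson_core (p : ℕ) [hp : Fact p.Prime] [CharP K p] (hp2 : p ≠ 2)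
    {G : Type*} [Group G] [Finite G] (ι : G →* SL₂) (hι : Function.Injective ι)
    (x₀ y₀ : G) (a₀ b₀ : K) (ha : a₀ ≠ 0) (hb : b₀ ≠ 0)
    (hx : ι x₀ = uu a₀) (hy : ι y₀ = ll b₀)
    (hmin : ∀ R : Subgroup G, R ≠ ⊤ → ∀ v w : G, v ∈ R → w ∈ R → v ^ p = 1 → w ^ p = 1 →
      v * w = w * v) :
    (∃ (a : K) (u v : G), a ≠ 0 ∧ ι u = uu a ∧ ι v = ll a⁻¹) ∨ p = 3 := by
  classical
  have h2ne : (2 : K) ≠ 0 := by
    intro h
    have h3 : ((2 : ℕ) : K) = 0 := by exact_mod_cast h
    rw [CharP.cast_eq_zero_iff K p] at h3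
    exact hp2 ((Nat.prime_dvd_prime_iff_eq hp.1 Nat.prime_two).mp h3)
  have hpK : (p : K) = 0 := CharP.cast_eq_zero K p
  have hxp : x₀ ^ p = 1 := by
    apply hι
    rw [map_pow, hx, uu_pow, hpK, zero_mul, uu_zero, map_one]
  have hyp : y₀ ^ p = 1 := by
    apply hι
    rw [map_pow, hy, ll_pow, hpK, zero_mul, ll_zero, map_one]
  have hne : x₀ * y₀ ≠ y₀ * x₀ := by
    intro h
    have h1 : uu a₀ * ll b₀ = ll b₀ * uu a₀ := by rw [← hx, ← hy, ← map_mul, ← map_mul, h]
    have h2 := ((comm_uu_iff a₀ ha (ll b₀)).mp h1).1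
    rw [ll_10] at h2
    exact hb h2
  -- the central involution
  obtain ⟨z, hz⟩ : ∃ z : G, ι z = negOne := by
    by_contra hno
    have heven : Even (Nat.card G) := by
      by_contra hodd
      rw [Nat.not_even_iff_odd] at hodd
      haveI : Finite ι.range := Finite.of_equiv G (MonoidHom.ofInjective hι).toEquiv
      have hcard : Nat.card ι.range = Nat.card G :=
        (Nat.card_congr (MonoidHom.ofInjective hι).toEquiv).symm
      have h0 := sl2_odd_comm p hp2 ι.range (by rw [hcard]; exact hodd) (ι x₀) (ι y₀)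
        ⟨x₀, rfl⟩ ⟨y₀, rfl⟩ (by rw [← map_pow, hxp, map_one]) (by rw [← map_pow, hyp, map_one])
      apply hne
      apply hι
      rw [map_mul, map_mul]
      exact h0
    obtain ⟨t, ht⟩ := exists_prime_orderOf_dvd_card' 2 heven.two_dvd
    apply hno
    have ht2 : t * t = 1 := by
      rw [← pow_two, ← ht]
      exact pow_orderOf_eq_one t
    refine ⟨t, sl2_sq_one h2ne (ι t) ?_ ?_⟩
    · rw [← map_mul, ht2, map_one]
    · intro h1
      have h3 : t = 1 := hι (by rw [h1, map_one])
      rw [h3, orderOf_one] at ht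
      norm_num at ht
  have hL : SL2Like (G := G) p z := sl2Like_of_hom p hp2 ι hι z hz
  have hcent : ∀ g : G, g ∈ Subgroup.centralizer ({x₀} : Set G) ↔
      (ι g).1 1 0 = 0 ∧ (ι g).1 0 0 = (ι g).1 1 1 := by
    intro g
    rw [mem_cent_iff, ← comm_uu_iff a₀ ha (ι g), ← hx, ← map_mul, ← map_mul]
    exact ⟨fun h => by rw [h], fun h => hι h⟩
  obtain ⟨B, hBdef⟩ : ∃ B : Subgroup G, B = (borel K).comap ι := ⟨_, rfl⟩
  have hB : ∀ g : G, g ∈ B ↔ (ι g).1 1 0 = 0 := by
    intro g
    rw [hBdef]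
    exact Iff.rfl
  have hconjB : ∀ g h : G, (ι g).1 1 0 = 0 → h ∈ Subgroup.centralizer ({x₀} : Set G) →
      g * h * g⁻¹ ∈ Subgroup.centralizer ({x₀} : Set G) := by
    intro g h hg hh
    rw [hcent] at hh ⊢
    rw [map_mul, map_mul, map_inv]
    simp only [sl2_mul_apply, sl2_inv_00, sl2_inv_01, sl2_inv_10, sl2_inv_11]
    rw [hg, hh.1, hh.2]
    constructor <;> ring
  have hN : Subgroup.normalizer ((Subgroup.centralizer ({x₀} : Set G) : Subgroup G) : Set G)
      = B := by
    ext g
    rw [hB, Subgroup.mem_normalizer_iff]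
    constructor
    · intro h
      have h1 : x₀ ∈ Subgroup.centralizer ({x₀} : Set G) := (mem_cent_iff x₀ x₀).mpr rfl
      have h2 := (hcent _).mp ((h x₀).mp h1)
      have h3 := h2.1
      rw [map_mul, map_mul, map_inv, hx] at h3
      simp only [sl2_mul_apply, sl2_inv_00, sl2_inv_01, sl2_inv_10, sl2_inv_11, uu_00, uu_01,
        uu_10, uu_11] at h3
      have h4 : a₀ * ((ι g).1 1 0 * (ι g).1 1 0) = 0 := by linear_combination -h3
      rcases mul_eq_zero.mp h4 with h5 | h5
      · exact absurd h5 ha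
      · exact mul_self_eq_zero.mp h5
    · intro hg h
      constructor
      · exact hconjB g h hg
      · intro hh
        have hg' : (ι g⁻¹).1 1 0 = 0 := by rw [map_inv, sl2_inv_10, hg, neg_zero]
        have h0 := hconjB g⁻¹ _ hg' hh
        have e : g⁻¹ * (g * h * g⁻¹) * g⁻¹⁻¹ = h := by group
        rw [e] at h0
        exact h0
  obtain ⟨P, hPdef⟩ : ∃ P : Subgroup G, P = (unip K).comap ι := ⟨_, rfl⟩
  have hP : ∀ g : G, g ∈ P ↔ (ι g).1 1 0 = 0 ∧ (ι g).1 0 0 = 1 := by
    intro g
    rw [hPdef]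
    exact Iff.rfl
  have hPuu : ∀ g : G, g ∈ P → ι g = uu ((ι g).1 0 1) :=
    fun g hg => unip_eq_uu (ι g) ((hP g).mp hg)
  have hPp : IsPGroup p P := by
    intro g
    refine ⟨1, ?_⟩
    apply Subtype.ext
    apply hι
    rw [pow_one, Subgroup.coe_pow, map_pow, hPuu g.1 g.2, uu_pow, hpK, zero_mul, uu_zero,
      Subgroup.coe_one, map_one]
  obtain ⟨a, hPcard⟩ := hPp.exists_card_eq
  have hPC : P ≤ Subgroup.centralizer ({x₀} : Set G) := by
    intro g hg
    rw [hcent]
    have h1 := (hP g).mp hg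
    have h2 := unip_11 (ι g) h1
    exact ⟨h1.1, by rw [h1.2, h2]⟩
  have hC : Nat.card (Subgroup.centralizer ({x₀} : Set G)) = 2 * p ^ a := by
    have hidx : (P.subgroupOf (Subgroup.centralizer ({x₀} : Set G))).index = 2 := by
      rw [Subgroup.index_eq_two_iff]
      refine ⟨⟨z, hL.z_mem x₀⟩, ?_⟩
      intro b
      have hb1 := (hcent b.1).mp b.2
      have hd := sl2_det' (ι b.1)
      rw [hb1.1, ← hb1.2] at hd
      have h4 : ((ι b.1).1 0 0 - 1) * ((ι b.1).1 0 0 + 1) = 0 := by linear_combination hd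
      rw [Subgroup.mem_subgroupOf, Subgroup.mem_subgroupOf, hP, hP]
      simp only [Subgroup.coe_mul, map_mul, hz, sl2_mul_apply, negOne_00, negOne_01, negOne_10,
        negOne_11]
      rw [hb1.1]
      rcases mul_eq_zero.mp h4 with h5 | h5
      · have h6 : (ι b.1).1 0 0 = 1 := by linear_combination h5
        right
        refine ⟨⟨rfl, h6⟩, ?_⟩
        rintro ⟨_, h7⟩
        rw [h6] at h7
        apply h2ne
        linear_combination -h7
      · have h6 : (ι b.1).1 0 0 = -1 := by linear_combination h5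
        left
        refine ⟨⟨by ring, by rw [h6]; ring⟩, ?_⟩
        rintro ⟨_, h7⟩
        rw [h6] at h7
        apply h2ne
        linear_combination -h7
    have h1 := (P.subgroupOf (Subgroup.centralizer ({x₀} : Set G))).card_mul_index
    rw [hidx, Nat.card_congr (Subgroup.subgroupOfEquivOfLe hPC).toEquiv, hPcard] at h1
    omega
  -- the diagonal character
  have hχex : ∀ B' : Subgroup G, B' = (borel K).comap ι →
      ∃ χ : ↥B' →* Kˣ, ∀ g : ↥B', ((χ g : Kˣ) : K) = (ι g.1).1 0 0 := by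
    rintro B' rfl
    exact ⟨(borelChar K).comp (ι.subgroupComap (borel K)), fun g => rfl⟩
  obtain ⟨χ, hχ⟩ := hχex B hBdef
  have hkerχ : ∀ g : ↥B, g ∈ χ.ker ↔ g.1 ∈ P := by
    intro g
    rw [MonoidHom.mem_ker, hP, Units.ext_iff, hχ, Units.val_one]
    exact ⟨fun h => ⟨(hB g.1).mp g.2, h⟩, fun h => h.2⟩
  have hPB : P ≤ B := fun g hg => (hB g).mpr ((hP g).mp hg).1
  have hkercard : Nat.card χ.ker = p ^ a := by
    have e : χ.ker = P.subgroupOf B := by
      ext g
      rw [hkerχ, Subgroup.mem_subgroupOf]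
    rw [e, Nat.card_congr (Subgroup.subgroupOfEquivOfLe hPB).toEquiv, hPcard]
  have hBcard : Nat.card B = p ^ a * Nat.card χ.range := by
    have h1 := χ.ker.card_mul_index
    rw [Subgroup.index_ker, hkercard] at h1
    exact h1.symm
  haveI : Finite χ.range := Finite.of_surjective χ.rangeRestrict χ.rangeRestrict_surjective
  obtain ⟨γ, hγ⟩ := IsCyclic.exists_generator (α := χ.range)
  obtain ⟨m₀, hm₀⟩ : ∃ m₀ : ↥B, χ m₀ = γ.1 := γ.2
  have hord : Nat.card χ.range = orderOf γ := (orderOf_eq_card_of_forall_mem_zpowers hγ).symm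
  obtain ⟨t, ht⟩ : ∃ t : K, t = (ι m₀.1).1 0 0 := ⟨_, rfl⟩
  have hγt : ((γ.1 : Kˣ) : K) = t := by rw [← hm₀, hχ, ht]
  have hzB : z ∈ B := (hB z).mpr (by rw [hz, negOne_10])
  have hχz : ((χ ⟨z, hzB⟩ : Kˣ) : K) = -1 := by rw [hχ, hz, negOne_00]
  have hT : Nat.card B = 2 * p ^ a ∨ ∃ m : G, m ^ p ≠ 1 ∧ m ^ p ≠ z ∧
      Nat.card B = p ^ a * Nat.card (Subgroup.centralizer ({m} : Set G)) := by
    by_cases htt : t * t = 1
    · left
      have h1 : γ ^ 2 = 1 := by
        apply Subtype.ext
        apply Units.ext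
        rw [Subgroup.coe_pow, Units.val_pow_eq_pow_val, hγt, pow_two, htt, Subgroup.coe_one,
          Units.val_one]
      have h2 : orderOf γ ∣ 2 := orderOf_dvd_of_pow_eq_one h1
      have h3 : orderOf γ ≠ 1 := by
        intro h
        rw [orderOf_eq_one_iff] at h
        have h4 : (⟨χ ⟨z, hzB⟩, ⟨_, rfl⟩⟩ : χ.range) ∈ Subgroup.zpowers γ := hγ _
        rw [h, Subgroup.zpowers_one_eq_bot, Subgroup.mem_bot] at h4
        have h5 := congrArg (fun u : χ.range => ((u.1 : Kˣ) : K)) h4
        simp only [Subgroup.coe_one, Units.val_one] at h5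
        rw [hχz] at h5
        apply h2ne
        linear_combination -h5
      have h4 : orderOf γ = 2 := by
        rcases (Nat.dvd_prime Nat.prime_two).mp h2 with h | h
        · exact absurd h h3
        · exact h
      rw [hBcard, hord, h4, mul_comm]
    · right
      have hts : t * (ι m₀.1).1 1 1 = 1 := by
        have hd := sl2_det' (ι m₀.1)
        rw [(hB m₀.1).mp m₀.2, ← ht] at hd
        linear_combination hd
      have hts' : t - (ι m₀.1).1 1 1 ≠ 0 := by
        intro h
        apply htt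
        have h0 : (ι m₀.1).1 1 1 = t := by linear_combination -h
        rw [h0] at hts
        exact hts
      have hpow : ∀ k : ℕ, (ι (m₀.1 ^ k)).1 0 0 = t ^ k := by
        intro k
        have h0 := hχ (m₀ ^ k)
        rw [map_pow, Units.val_pow_eq_pow_val, hχ, ← ht] at h0
        rw [h0]
        rfl
      refine ⟨m₀.1, ?_, ?_, ?_⟩
      · intro h
        have h1 := hpow p
        rw [h, map_one, sl2_one_00] at h1
        have h2 : (t - 1) ^ p = 0 := by rw [sub_pow_char t 1, ← h1, one_pow, sub_self]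
        have h3 : t = 1 := by linear_combination (pow_eq_zero_iff (hp.1.ne_zero)).mp h2
        apply htt
        rw [h3, one_mul]
      · intro h
        have h1 := hpow p
        rw [h, hz, negOne_00] at h1
        have h2 : (t + 1) ^ p = 0 := by rw [add_pow_char t 1, ← h1, one_pow]; ring
        have h3 : t = -1 := by linear_combination (pow_eq_zero_iff hp.1.ne_zero).mp h2
        apply htt
        rw [h3]
        ring
      · have hle : Subgroup.centralizer ({m₀.1} : Set G) ≤ B := by
          intro g hg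
          rw [mem_cent_iff] at hg
          rw [hB]
          have h1 := congrArg (fun u : G => (ι u).1 1 0) hg
          simp only [map_mul, sl2_mul_apply] at h1
          rw [(hB m₀.1).mp m₀.2, ← ht] at h1
          have h2 : (ι g).1 1 0 * (t - (ι m₀.1).1 1 1) = 0 := by linear_combination -h1
          exact (mul_eq_zero.mp h2).resolve_right hts'
        obtain ⟨ψ, hψ⟩ : ∃ ψ : ↥(Subgroup.centralizer ({m₀.1} : Set G)) →* ↥χ.range,
            ∀ g, (ψ g).1 = χ (Subgroup.inclusion hle g) :=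
          ⟨χ.rangeRestrict.comp (Subgroup.inclusion hle), fun g => rfl⟩
        have hψinj : Function.Injective ψ := by
          rw [injective_iff_map_eq_one]
          intro g hg
          have h1 : χ (Subgroup.inclusion hle g) = 1 := by rw [← hψ, hg]; rfl
          have h2 : ((χ (Subgroup.inclusion hle g) : Kˣ) : K) = 1 := by rw [h1, Units.val_one]
          rw [hχ] at h2
          have h3 : g.1 ∈ P := (hP g.1).mpr ⟨(hB g.1).mp (hle g.2), h2⟩
          have h4 := hPuu g.1 h3
          by_cases hc : (ι g.1).1 0 1 = 0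
          · apply Subtype.ext
            apply hι
            rw [h4, hc, uu_zero, Subgroup.coe_one, map_one]
          · exfalso
            have h5 := (mem_cent_iff m₀.1 g.1).mp g.2
            have h6 : uu ((ι g.1).1 0 1) * ι m₀.1 = ι m₀.1 * uu ((ι g.1).1 0 1) := by
              rw [← h4, ← map_mul, ← map_mul, h5]
            have h7 := ((comm_uu_iff _ hc _).mp h6).2
            apply hts'
            rw [← h7, ← ht, sub_self]
        have hψsurj : Function.Surjective ψ := by
          intro w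
          obtain ⟨k, hk⟩ := Subgroup.mem_zpowers_iff.mp (hγ w)
          have hmem : m₀.1 ∈ Subgroup.centralizer ({m₀.1} : Set G) := (mem_cent_iff _ _).mpr rfl
          refine ⟨⟨m₀.1, hmem⟩ ^ k, ?_⟩
          rw [map_zpow, ← hk]
          congr 1
          apply Subtype.ext
          rw [hψ, ← hm₀]
          rfl
        rw [hBcard, Nat.card_congr (Equiv.ofBijective ψ ⟨hψinj, hψsurj⟩)]
  have hce := ce_core hp2 hL x₀ y₀ hxp hyp hne hmin a hC (by rw [hN]; exact hT)
  rw [hN] at hce
  rcases hce with hce | hce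
  swap
  · right
    have h1 : p ∣ 3 := by
      rw [← hce]
      apply dvd_pow_self
      rintro rfl
      norm_num at hce
    exact (Nat.prime_dvd_prime_iff_eq hp.1 Nat.prime_three).mp h1
  left
  have hentry : ∀ (u : G) (c : K) (m : G), ι u = uu c → (ι m).1 1 0 = 0 →
      (ι (u * y₀ * m)).1 1 0 = b₀ * (ι m).1 0 0 ∧
      (ι (u * y₀ * m)).1 0 0 = (1 + c * b₀) * (ι m).1 0 0 := by
    intro u c m hu hm
    rw [map_mul, map_mul, hy, hu]
    simp only [sl2_mul_apply, uu_00, uu_01, uu_10, uu_11, ll_00, ll_01, ll_10, ll_11]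
    rw [hm]
    constructor <;> ring
  have hBne : ∀ m : G, (ι m).1 1 0 = 0 → (ι m).1 0 0 ≠ 0 := by
    intro m hm h0
    have hd := sl2_det' (ι m)
    rw [hm, h0] at hd
    simp at hd
  obtain ⟨Φ, hΦl, hΦr⟩ : ∃ Φ : ↥B ⊕ (↥P × ↥B) → G, (∀ m, Φ (Sum.inl m) = m.1) ∧
      (∀ u m, Φ (Sum.inr (u, m)) = u.1 * y₀ * m.1) :=
    ⟨Sum.elim (fun m => m.1) (fun w => w.1.1 * y₀ * w.2.1), fun m => rfl, fun u m => rfl⟩
  have hΦinj : Function.Injective Φ := by
    rintro (m | ⟨u, m⟩) (m' | ⟨u', m'⟩) h
    · rw [hΦl, hΦl] at h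
      rw [Subtype.ext h]
    · exfalso
      rw [hΦl, hΦr] at h
      have h1 := (hentry u'.1 _ m'.1 (hPuu u'.1 u'.2) ((hB m'.1).mp m'.2)).1
      rw [← h, (hB m.1).mp m.2] at h1
      rcases mul_eq_zero.mp h1.symm with h2 | h2
      · exact hb h2
      · exact hBne m'.1 ((hB m'.1).mp m'.2) h2
    · exfalso
      rw [hΦl, hΦr] at h
      have h1 := (hentry u.1 _ m.1 (hPuu u.1 u.2) ((hB m.1).mp m.2)).1
      rw [h, (hB m'.1).mp m'.2] at h1
      rcases mul_eq_zero.mp h1.symm with h2 | h2
      · exact hb h2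
      · exact hBne m.1 ((hB m.1).mp m.2) h2
    · rw [hΦr, hΦr] at h
      have h1 := hentry u.1 _ m.1 (hPuu u.1 u.2) ((hB m.1).mp m.2)
      have h1' := hentry u'.1 _ m'.1 (hPuu u'.1 u'.2) ((hB m'.1).mp m'.2)
      rw [h] at h1
      have e1 : (ι m.1).1 0 0 = (ι m'.1).1 0 0 := by
        have h0 : b₀ * ((ι m.1).1 0 0 - (ι m'.1).1 0 0) = 0 := by
          linear_combination h1'.1 - h1.1
        have h0' := (mul_eq_zero.mp h0).resolve_left hb
        linear_combination h0'
      have e2 : (ι u.1).1 0 1 = (ι u'.1).1 0 1 := by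
        have h3 : ((ι u.1).1 0 1 - (ι u'.1).1 0 1) * (b₀ * (ι m'.1).1 0 0) = 0 := by
          linear_combination h1'.2 - h1.2 - (1 + (ι u.1).1 0 1 * b₀) * e1
        rcases mul_eq_zero.mp h3 with h4 | h4
        · linear_combination h4
        · exfalso
          rcases mul_eq_zero.mp h4 with h5 | h5
          · exact hb h5
          · exact hBne m'.1 ((hB m'.1).mp m'.2) h5
      have e3 : u = u' := by
        apply Subtype.ext
        apply hι
        rw [hPuu u.1 u.2, hPuu u'.1 u'.2, e2]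
      subst e3
      have e4 : m.1 = m'.1 := mul_left_cancel h
      rw [Subtype.ext e4]
  have hcardΦ : Nat.card (↥B ⊕ (↥P × ↥B)) = Nat.card G := by
    rw [Nat.card_sum, Nat.card_prod, hPcard]
    have h0 : 2 * (Nat.card B + p ^ a * Nat.card B) = 2 * Nat.card G := by
      rw [hce]
      ring
    omega
  have hΦsurj : Function.Surjective Φ := (hΦinj.bijective_of_nat_card_le hcardΦ.ge).2
  obtain ⟨w, hw⟩ := hΦsurj (y₀ * y₀)
  have hyy : ι (y₀ * y₀) = ll (b₀ + b₀) := by rw [map_mul, hy, ll_mul]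
  rcases w with m | ⟨u, m⟩
  · exfalso
    rw [hΦl] at hw
    have h1 := (hB m.1).mp m.2
    rw [hw, hyy, ll_10] at h1
    have h0 : (2 : K) * b₀ = 0 := by linear_combination h1
    rcases mul_eq_zero.mp h0 with h | h
    · exact h2ne h
    · exact hb h
  · rw [hΦr] at hw
    have h1 := hentry u.1 _ m.1 (hPuu u.1 u.2) ((hB m.1).mp m.2)
    rw [hw, hyy, ll_10, ll_00] at h1
    obtain ⟨c, hc⟩ : ∃ c : K, c = (ι u.1).1 0 1 := ⟨_, rfl⟩
    rw [← hc] at h1
    have h3 : (ι m.1).1 0 0 = 2 := by
      have h0 : b₀ * ((ι m.1).1 0 0 - 2) = 0 := by linear_combination -h1.1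
      have h0' := (mul_eq_zero.mp h0).resolve_left hb
      linear_combination h0'
    have h4 : c * (-(b₀ + b₀)) = 1 := by
      have h5 := h1.2
      rw [h3] at h5
      linear_combination h5
    have hc0 : c ≠ 0 := by
      rintro rfl
      rw [zero_mul] at h4
      exact zero_ne_one h4
    refine ⟨c, u.1, (y₀ * y₀)⁻¹, hc0, ?_, ?_⟩
    · rw [hc]
      exact hPuu u.1 u.2
    · rw [map_inv, hyy, inv_eq_of_mul_eq_one_right h4]
      apply inv_eq_of_mul_eq_one_right
      rw [ll_mul, add_neg_cancel, ll_zero]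

end

end Cfsg.Agent.Lib.Helper17
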