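import Cfsg.Agent.Lib.Helper17.CEMain
import Cfsg.Agent.Lib.Helper17.SL2Odd

set_option autoImplicit false
set_option maxHeartbeats 1000000
set_option linter.unusedVariables false
set_option linter.unusedSimpArgs false
set_option linter.style.haveILetI false

/-!
Finite subgroups of a two-dimensional special linear group over a field of odd characteristic
`p` that contain the negative of the identity satisfy the `SL2Like` hypotheses.
-/

namespace Cfsg.Agent.Lib.Helper17

section

variable {K : Type*} [Field K]

local notation "SL₂" => Matrix.SpecialLinearGroup (Fin 2) K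

/-- the negative of the identity -/
def negOne : SL₂ := ⟨!![-1, 0; 0, -1], by simp [Matrix.det_fin_two]⟩

theorem negOne_coe : ((negOne : SL₂) : Matrix (Fin 2) (Fin 2) K) = -1 := by
  ext i j
  fin_cases i <;> fin_cases j <;> simp [negOne]

theorem sl2Like_of_subgroup (p : ℕ) [hp : Fact p.Prime] [CharP K p] (hp2 : p ≠ 2)
    (L : Subgroup SL₂) (hz : (negOne : SL₂) ∈ L) :
    SL2Like (G := ↥L) p ⟨negOne, hz⟩ := by
  have h2ne : (2 : K) ≠ 0 := by
    intro h
    have h3 : ((2 : ℕ) : K) = 0 := by exact_mod_cast h
    rw [CharP.cast_eq_zero_iff K p] at h3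
    exact hp2 ((Nat.prime_dvd_prime_iff_eq hp.1 Nat.prime_two).mp h3)
  obtain ⟨m, hm⟩ : ∃ m : ↥L → Matrix (Fin 2) (Fin 2) K,
      m = fun x : ↥L => ((x : SL₂) : Matrix (Fin 2) (Fin 2) K) := ⟨_, rfl⟩
  obtain ⟨z, hzdef⟩ : ∃ z : ↥L, z = ⟨negOne, hz⟩ := ⟨_, rfl⟩
  rw [← hzdef]
  have hm_mul : ∀ x y : ↥L, m (x * y) = m x * m y := by
    intro x y; rw [hm]; simp
  have hm_one : m 1 = 1 := by rw [hm]; simp
  have hm_z : m z = -1 := by rw [hm, hzdef]; exact negOne_coe
  have hm_inj : ∀ x y : ↥L, m x = m y → x = y := by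
    intro x y h
    rw [hm] at h
    exact Subtype.ext (Subtype.ext h)
  have hm_pow : ∀ (x : ↥L) (n : ℕ), m (x ^ n) = m x ^ n := by
    intro x n
    induction n with
    | zero => rw [pow_zero, pow_zero, hm_one]
    | succ k ih => rw [pow_succ, pow_succ, hm_mul, ih]
  have hm_det : ∀ x : ↥L, (m x).det = 1 := by
    intro x; rw [hm]; exact (x : SL₂).det_coe
  have hsc : ∀ (x : ↥L) (μ : K), m x = μ • 1 → x = 1 ∨ x = z := by
    intro x μ hx
    have hd := hm_det x
    rw [hx, Matrix.det_smul, Matrix.det_one, Fintype.card_fin, mul_one] at hd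
    have hμ : (μ - 1) * (μ + 1) = 0 := by linear_combination hd
    rcases mul_eq_zero.mp hμ with h | h
    · left
      apply hm_inj
      rw [hx, hm_one, sub_eq_zero.mp h, one_smul]
    · right
      apply hm_inj
      rw [hx, hm_z, eq_neg_of_add_eq_zero_left h, neg_smul, one_smul]
  have hns : ∀ x : ↥L, x ≠ 1 → x ≠ z → ∀ μ : K, m x ≠ μ • 1 := by
    intro x hx1 hxz μ h
    rcases hsc x μ h with h' | h'
    · exact hx1 h'
    · exact hxz h'
  refine ⟨?_, ?_, ?_, ?_, ?_, ?_⟩
  · -- z ≠ 1
    intro h
    have h3 : m z = m 1 := by rw [h]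
    rw [hm_z, hm_one] at h3
    have h4 := congrFun (congrFun h3 0) 0
    simp at h4
    apply h2ne
    linear_combination -h4
  · -- z * z = 1
    apply hm_inj
    rw [hm_mul, hm_z, hm_one]
    simp
  · -- central
    intro g
    apply hm_inj
    rw [hm_mul, hm_mul, hm_z]
    simp
  · -- H1
    intro g h k hg hgz hgh hgk
    obtain ⟨α, β, hh⟩ := mat2_comm_repr (m g) (m h) (hns g hg hgz)
      (by rw [← hm_mul, ← hm_mul, hgh])
    obtain ⟨α', β', hk⟩ := mat2_comm_repr (m g) (m k) (hns g hg hgz)
      (by rw [← hm_mul, ← hm_mul, hgk])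
    apply hm_inj
    rw [hm_mul, hm_mul, hh, hk]
    have c : Commute (α • (1 : Matrix (Fin 2) (Fin 2) K) + β • m g)
        (α' • (1 : Matrix (Fin 2) (Fin 2) K) + β' • m g) := by
      apply Commute.add_left <;> apply Commute.add_right
      · exact ((Commute.one_left _).smul_left α).smul_right α'
      · exact ((Commute.one_left (m g)).smul_left α).smul_right β'
      · exact ((Commute.one_right (m g)).smul_left β).smul_right α'
      · exact ((Commute.refl (m g)).smul_left β).smul_right β'
    exact c.eq
  · -- H2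
    intro g h hg hgz hgp hgh
    obtain ⟨α, β, hh⟩ := mat2_comm_repr (m g) (m h) (hns g hg hgz)
      (by rw [← hm_mul, ← hm_mul, hgh])
    rcases hgp with hgp | hgp
    · have hgm : m g ^ p = 1 := by rw [← hm_pow, hgp, hm_one]
      have hN : (m g - 1) ^ p = 0 := by
        rw [sub_pow_char_of_commute p (Commute.one_right _), hgm, one_pow, sub_self]
      have hh' : m h = (α + β) • (1 : Matrix (Fin 2) (Fin 2) K) + β • (m g - 1) := by
        rw [hh, smul_sub, add_smul]; abel
      have hcm : Commute ((α + β) • (1 : Matrix (Fin 2) (Fin 2) K)) (β • (m g - 1)) :=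
        ((Commute.one_left _).smul_left _).smul_right _
      have hhp : m h ^ p = ((α + β) ^ p) • (1 : Matrix (Fin 2) (Fin 2) K) := by
        rw [hh', add_pow_char_of_commute p hcm, smul_pow, smul_pow, one_pow, hN, smul_zero,
          add_zero]
      exact hsc (h ^ p) _ (by rw [hm_pow, hhp])
    · have hgm : m g ^ p = -1 := by rw [← hm_pow, hgp, hm_z]
      have hN : (m g + 1) ^ p = 0 := by
        rw [add_pow_char_of_commute p (Commute.one_right _), hgm, one_pow, neg_add_cancel]
      have hh' : m h = (α - β) • (1 : Matrix (Fin 2) (Fin 2) K) + β • (m g + 1) := by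
        rw [hh, smul_add, sub_smul]; abel
      have hcm : Commute ((α - β) • (1 : Matrix (Fin 2) (Fin 2) K)) (β • (m g + 1)) :=
        ((Commute.one_left _).smul_left _).smul_right _
      have hhp : m h ^ p = ((α - β) ^ p) • (1 : Matrix (Fin 2) (Fin 2) K) := by
        rw [hh', add_pow_char_of_commute p hcm, smul_pow, smul_pow, one_pow, hN, smul_zero,
          add_zero]
      exact hsc (h ^ p) _ (by rw [hm_pow, hhp])
  · -- H3
    intro s n hs1 hsz hcomm
    have hs_ne1 : s ≠ 1 := by rintro rfl; exact hs1 (one_pow p)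
    have hzp : z ^ p = z := by
      apply hm_inj
      rw [hm_pow, hm_z]
      exact (hp.1.odd_of_ne_two hp2).neg_one_pow
    have hs_nez : s ≠ z := by rintro rfl; exact hsz hzp
    obtain ⟨t, ht⟩ : ∃ t : ↥L, t = n * s * n⁻¹ := ⟨_, rfl⟩
    rw [← ht] at hcomm ⊢
    obtain ⟨α, β, htm⟩ := mat2_comm_repr (m s) (m t) (hns s hs_ne1 hs_nez)
      (by rw [← hm_mul, ← hm_mul, hcomm])
    have htr : (m t).trace = (m s).trace := by
      have e : m t * m n = m n * m s := by
        rw [← hm_mul, ← hm_mul]; congr 1; rw [ht]; group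
      have e2 : m n * m n⁻¹ = 1 := by rw [← hm_mul, mul_inv_cancel, hm_one]
      calc (m t).trace = (m t * (m n * m n⁻¹)).trace := by rw [e2, mul_one]
        _ = ((m t * m n) * m n⁻¹).trace := by rw [mul_assoc]
        _ = ((m n * m s) * m n⁻¹).trace := by rw [e]
        _ = (m n⁻¹ * (m n * m s)).trace := Matrix.trace_mul_comm _ _
        _ = (m s).trace := by rw [← mul_assoc, ← hm_mul, inv_mul_cancel, hm_one, one_mul]
    have hdet_t := hm_det t
    have hdet_s := hm_det s
    rw [htm, mat2_trace_lin] at htr
    rw [htm, mat2_det_lin, hdet_s] at hdet_t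
    obtain ⟨τ, hτ⟩ : ∃ τ : K, τ = (m s).trace := ⟨_, rfl⟩
    rw [← hτ] at htr hdet_t
    have hsq : m s * m s = τ • m s - (1 : Matrix (Fin 2) (Fin 2) K) := by
      rw [mat2_sq, hdet_s, one_smul, hτ]
    have hkey : (1 - β ^ 2) * (τ ^ 2 - 4) = 0 := by
      linear_combination 4 * hdet_t - (τ * (1 - β) + 2 * α + 2 * β * τ) * htr
    have hp2' : 2 ≤ p := hp.1.two_le
    rcases mul_eq_zero.mp hkey with hβ | hτ4
    · have hβ' : (β - 1) * (β + 1) = 0 := by linear_combination -hβ
      rcases mul_eq_zero.mp hβ' with hb | hb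
      · left
        have hβ1 : β = 1 := by linear_combination hb
        have hα : α = 0 := by
          have : 2 * α = 0 := by rw [hβ1] at htr; linear_combination htr
          exact (mul_eq_zero.mp this).resolve_left h2ne
        apply hm_inj
        rw [htm, hα, hβ1, zero_smul, one_smul, zero_add]
      · right
        have hβ1 : β = -1 := by linear_combination hb
        have hα : α = τ := by
          have : 2 * (α - τ) = 0 := by rw [hβ1] at htr; linear_combination htr
          have h3 := (mul_eq_zero.mp this).resolve_left h2ne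
          linear_combination h3
        apply eq_inv_of_mul_eq_one_right
        apply hm_inj
        rw [hm_mul, hm_one, htm, hα, hβ1, mul_add, mul_smul_comm, mul_smul_comm, mul_one, hsq]
        simp
    · exfalso
      have hτ' : (τ - 2) * (τ + 2) = 0 := by linear_combination hτ4
      rcases mul_eq_zero.mp hτ' with hb | hb
      · have hτ2 : τ = 2 := by linear_combination hb
        have h3 : (m s - 1) * (m s - 1) = 0 := by
          have : (m s - 1) * (m s - 1) = m s * m s - (2 : K) • m s + 1 := by
            rw [two_smul]; noncomm_ring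
          rw [this, hsq, hτ2]; abel
        have h4 : (m s - 1) ^ p = 0 := by
          obtain ⟨k, rfl⟩ : ∃ k, p = 2 + k := ⟨p - 2, by omega⟩
          rw [pow_add, pow_two, h3, zero_mul]
        rw [sub_pow_char_of_commute p (Commute.one_right _), one_pow, sub_eq_zero] at h4
        apply hs1
        apply hm_inj
        rw [hm_pow, h4, hm_one]
      · have hτ2 : τ = -2 := by linear_combination hb
        have h3 : (m s + 1) * (m s + 1) = 0 := by
          have : (m s + 1) * (m s + 1) = m s * m s + (2 : K) • m s + 1 := by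
            rw [two_smul]; noncomm_ring
          rw [this, hsq, hτ2, neg_smul]
          abel
        have h4 : (m s + 1) ^ p = 0 := by
          obtain ⟨k, rfl⟩ : ∃ k, p = 2 + k := ⟨p - 2, by omega⟩
          rw [pow_add, pow_two, h3, zero_mul]
        rw [add_pow_char_of_commute p (Commute.one_right _), one_pow] at h4
        apply hsz
        apply hm_inj
        rw [hm_pow, hm_z]
        exact eq_neg_of_add_eq_zero_left h4

end

end Cfsg.Agent.Lib.Helper17
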