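import Cfsg.Agent.Lib.Helper6.PSolv
import Cfsg.Agent.Lib.Helper24.SylowCount
import Cfsg.Agent.Lib.Helper24.Coprime
import Cfsg.Agent.Lib.Helper21.SylowRel
import Cfsg.Agent.Lib.Helper18.PMin
import Cfsg.Agent.Lib.Helper22.PClosed2
import Cfsg.Agent.Lib.Helper17.SylowNormal

set_option autoImplicit false

/-!
If no `q`-element of a `p`-solvable or `q`-solvable group has class size divisible by `p`, then
the number of Sylow `q`-subgroups is prime to `p`.
-/

namespace Cfsg.Agent.Lib.Helper17

open Cfsg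

universe u

/-- a normal `p`-subgroup lies in every subgroup of index prime to `p` -/
theorem normal_pgroup_le_of_not_dvd_index {G : Type u} [Group G] [Finite G] (p : ℕ)
    [Fact p.Prime] (N : Subgroup G) [N.Normal] (hN : IsPGroup p N) (D : Subgroup G)
    (h : ¬ p ∣ D.index) : N ≤ D := by
  obtain ⟨R₁, hR₁⟩ := Cfsg.Agent.Lib.Helper18.exists_sylow_le_of_not_dvd_index' D h
  have h1 := R₁.is_maximal' (R₁.isPGroup'.to_sup_of_normal_right hN) le_sup_left
  have h2 : N ≤ (R₁ : Subgroup G) := by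
    rw [← h1]; exact le_sup_right
  exact h2.trans hR₁

/-- the coprime case: a Sylow `p`-subgroup of the normal `q'`-subgroup `N` is centralized by
`Q` -/
theorem sylNormCls_coprime {G : Type u} [Group G] [Finite G] (p q : ℕ) [Fact p.Prime]
    [Fact q.Prime] (N : Subgroup G) [N.Normal] (hN : ¬ q ∣ Nat.card N) (Q : Sylow q G)
    (h : ∀ y ∈ (Q : Subgroup G), ¬ p ∣ (Subgroup.centralizer ({y} : Set G)).index) :
    ¬ p ∣ (Subgroup.normalizer ((Q : Subgroup G) : Set G)).relIndex N := by
  have hp : p.Prime := Fact.out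
  obtain ⟨R, hR⟩ := Cfsg.Agent.Lib.Helper21.exists_sylow_normalized (q := p) hN Q.isPGroup'
  have hS0 : Cfsg.Agent.Lib.Helper21.IsSylOf p N ((R : Subgroup N).map N.subtype) :=
    Cfsg.Agent.Lib.Helper21.isSylOf_map_subtype R
  have hcent : (R : Subgroup N).map N.subtype ≤
      Subgroup.centralizer ((Q : Subgroup G) : Set G) := by
    intro x hx
    rw [Subgroup.mem_centralizer_iff]
    intro y hy
    have hy' : y ∈ (Q : Subgroup G) := hy
    obtain ⟨R₁, hR₁⟩ := Cfsg.Agent.Lib.Helper18.exists_sylow_le_of_not_dvd_index' _ (h y hy')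
    have hcard := card_sylow_inf_normal R₁ N
    have hS1 : Cfsg.Agent.Lib.Helper21.IsSylOf p N ((R₁ : Subgroup G) ⊓ N) := by
      refine ⟨inf_le_right, R₁.isPGroup'.to_le inf_le_left, ?_⟩
      intro hdvd
      have h1 : Nat.card ↥((R₁ : Subgroup G) ⊓ N) * ((R₁ : Subgroup G) ⊓ N).relIndex N
          = Nat.card N := by
        have := Subgroup.relIndex_mul_relIndex ⊥ ((R₁ : Subgroup G) ⊓ N) N bot_le inf_le_right
        rwa [Subgroup.relIndex_bot_left, Subgroup.relIndex_bot_left] at this
      rw [hcard] at h1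
      have h2 : p ^ ((Nat.card N).factorization p + 1) ∣ Nat.card N := by
        obtain ⟨c, hc⟩ := hdvd
        refine ⟨c, ?_⟩
        conv_lhs => rw [← h1]
        rw [hc, pow_succ]; ring
      exact Nat.pow_succ_factorization_not_dvd Nat.card_pos.ne' hp h2
    have hZ : IsPGroup q (Subgroup.zpowers y) :=
      Q.isPGroup'.to_le (Subgroup.zpowers_le.mpr hy')
    have hyc : ∀ x₁ ∈ (R₁ : Subgroup G), x₁ * y = y * x₁ := by
      intro x₁ hx₁
      have := hR₁ hx₁
      rw [Subgroup.mem_centralizer_iff] at this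
      exact (this y (Set.mem_singleton y)).symm
    have hn1 : Subgroup.zpowers y ≤
        Subgroup.normalizer ((((R₁ : Subgroup G) ⊓ N : Subgroup G)) : Set G) := by
      rw [Subgroup.zpowers_le]
      have hyN : y ∈ Subgroup.normalizer (N : Set G) := by
        rw [Subgroup.normalizer_eq_top]; trivial
      have hyR : y ∈ Subgroup.normalizer (((R₁ : Subgroup G) ⊓ Subgroup.centralizer
          ({y} : Set G) : Subgroup G) : Set G) := by
        rw [inf_eq_left.mpr hR₁]
        rw [Subgroup.mem_normalizer_iff]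
        intro x₁
        constructor
        · intro hx₁
          have e : y * x₁ * y⁻¹ = x₁ := by
            rw [← hyc x₁ hx₁]; group
          rw [e]; exact hx₁
        · intro hx₁
          have e : x₁ = y⁻¹ * (y * x₁ * y⁻¹) * y := by group
          have e2 : y⁻¹ * (y * x₁ * y⁻¹) * y = y * x₁ * y⁻¹ := by
            have := hyc _ hx₁
            calc y⁻¹ * (y * x₁ * y⁻¹) * y = y⁻¹ * ((y * x₁ * y⁻¹) * y) := by group
              _ = y⁻¹ * (y * (y * x₁ * y⁻¹)) := by rw [this]
              _ = y * x₁ * y⁻¹ := by group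
          rw [e, e2]; exact hx₁
      rw [inf_eq_left.mpr hR₁] at hyR
      exact Cfsg.Agent.Lib.Helper24.normalizer_inf_normalizer_le _ _ ⟨hyR, hyN⟩
    have hn0 : Subgroup.zpowers y ≤
        Subgroup.normalizer ((((R : Subgroup N).map N.subtype : Subgroup G)) : Set G) :=
      Subgroup.zpowers_le.mpr (hR hy')
    obtain ⟨n, hnN, hnn, hEq⟩ :=
      Cfsg.Agent.Lib.Helper21.IsSylOf.exists_conj_normalizer hN hZ hS1 hS0 hn1 hn0
    have hny : n * y * n⁻¹ * y⁻¹ = 1 := by
      have h1 : n * y * n⁻¹ ∈ Subgroup.zpowers y :=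
        ((Subgroup.mem_normalizer_iff.mp hnn) y).mp (Subgroup.mem_zpowers y)
      have h2 : n * y * n⁻¹ * y⁻¹ ∈ Subgroup.zpowers y :=
        Subgroup.mul_mem _ h1 (Subgroup.inv_mem _ (Subgroup.mem_zpowers y))
      have h3 : n * y * n⁻¹ * y⁻¹ ∈ N := by
        have e : n * y * n⁻¹ * y⁻¹ = n * (y * n⁻¹ * y⁻¹) := by group
        rw [e]
        exact N.mul_mem hnN ((inferInstance : N.Normal).conj_mem _ (N.inv_mem hnN) y)
      have h4 := Cfsg.Agent.Lib.Helper22.inf_eq_bot_of_isPGroup_of_not_dvd hZ hN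
      have h5 : n * y * n⁻¹ * y⁻¹ ∈ Subgroup.zpowers y ⊓ N := ⟨h2, h3⟩
      rw [h4] at h5
      exact h5
    have hny' : n * y = y * n := by
      have e : n * y = (n * y * n⁻¹ * y⁻¹) * (y * n) := by group
      rw [e, hny, one_mul]
    rw [hEq] at hx
    obtain ⟨x₁, hx₁, rfl⟩ := hx
    have hx₁y := hyc x₁ hx₁.1
    show y * (n * x₁ * n⁻¹) = (n * x₁ * n⁻¹) * y
    have hny'' : n⁻¹ * y = y * n⁻¹ := by
      have e : n⁻¹ * y = n⁻¹ * (y * n) * n⁻¹ := by group
      rw [e, ← hny']; group
    calc y * (n * x₁ * n⁻¹) = (y * n) * x₁ * n⁻¹ := by group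
      _ = (n * y) * x₁ * n⁻¹ := by rw [hny']
      _ = n * (y * x₁) * n⁻¹ := by group
      _ = n * (x₁ * y) * n⁻¹ := by rw [hx₁y]
      _ = n * x₁ * (y * n⁻¹) := by group
      _ = n * x₁ * (n⁻¹ * y) := by rw [hny'']
      _ = (n * x₁ * n⁻¹) * y := by group
  have hle : (R : Subgroup N).map N.subtype ≤ Subgroup.normalizer ((Q : Subgroup G) : Set G) :=
    hcent.trans (Subgroup.centralizer_le_normalizer _)
  intro hdvd
  exact hS0.2.2 (hdvd.trans (Subgroup.relIndex_dvd_of_le_left N hle))

/-- the number of Sylow `q`-subgroups is prime to `p` -/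
theorem sylNormCls_card (p q : ℕ) [Fact p.Prime] [Fact q.Prime] :
    ∀ (n : ℕ) (G : Type u) [Group G] [Finite G], Nat.card G ≤ n →
      (Cfsg.IsPSolvable p G ∨ Cfsg.IsPSolvable q G) →
      (∃ Q : Sylow q G, ∀ y ∈ (Q : Subgroup G),
        ¬ p ∣ (Subgroup.centralizer ({y} : Set G)).index) →
      ¬ p ∣ Nat.card (Sylow q G) := by
  have hp : p.Prime := Fact.out
  have hq : q.Prime := Fact.out
  intro n
  induction n with
  | zero =>
    intro G _ _ hc
    have := Nat.card_pos (α := G)
    omega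
  | succ n ih =>
    intro G _ _ hc hsolv hcls
    obtain ⟨Q, hQ⟩ := hcls
    by_cases htriv : (⊤ : Subgroup G) = ⊥
    · intro hdvd
      have h1 : Nat.card (Sylow q G) ∣ Nat.card G :=
        (Q.card_dvd_index).trans (Subgroup.index_dvd_card _)
      have h2 : Nat.card G = 1 := by
        rw [← Subgroup.card_top (G := G), htriv, Subgroup.card_bot]
      rw [h2] at h1
      exact hp.one_lt.ne' (Nat.dvd_one.mp (hdvd.trans h1))
    have hex : ∃ N : Subgroup G, N.Normal ∧ N ≠ ⊥ ∧
        ((IsPGroup p N ∨ ¬ p ∣ Nat.card N) ∨ (IsPGroup q N ∨ ¬ q ∣ Nat.card N)) := by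
      rcases hsolv with hs | hs
      · obtain ⟨M, -, hMn, hMne, hM⟩ :=
          Cfsg.Agent.Lib.Helper6.exists_normal_p_or_p' hp hs ⊤ htriv
        refine ⟨M, hMn, hMne, Or.inl ?_⟩
        rcases hM with hM | hM
        · exact Or.inl hM
        · exact Or.inr ((Nat.Prime.coprime_iff_not_dvd hp).mp hM.symm)
      · obtain ⟨M, -, hMn, hMne, hM⟩ :=
          Cfsg.Agent.Lib.Helper6.exists_normal_p_or_p' hq hs ⊤ htriv
        refine ⟨M, hMn, hMne, Or.inr ?_⟩
        rcases hM with hM | hM
        · exact Or.inl hM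
        · exact Or.inr ((Nat.Prime.coprime_iff_not_dvd hq).mp hM.symm)
    obtain ⟨N, hNn, hNne, hNtype⟩ := hex
    have := hNn
    rw [Cfsg.Agent.Lib.Helper24.card_sylow_eq_mul q N Q]
    have hcardlt : Nat.card (G ⧸ N) ≤ n := by
      have h1 := Subgroup.card_eq_card_quotient_mul_card_subgroup N
      have h2 : 1 < Nat.card N := (Subgroup.one_lt_card_iff_ne_bot N).mpr hNne
      have h3 : 0 < Nat.card (G ⧸ N) := Nat.card_pos
      nlinarith
    have h1 : ¬ p ∣ Nat.card (Sylow q (G ⧸ N)) := by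
      apply ih (G ⧸ N) hcardlt
      · rcases hsolv with hs | hs
        · exact Or.inl (Cfsg.Agent.Lib.Helper6.isPSolvable_quotient hp N hs)
        · exact Or.inr (Cfsg.Agent.Lib.Helper6.isPSolvable_quotient hq N hs)
      · refine ⟨Q.mapSurjective (QuotientGroup.mk'_surjective N), ?_⟩
        intro y' hy'
        rw [Sylow.coe_mapSurjective] at hy'
        obtain ⟨y, hy, rfl⟩ := hy'
        intro hdvd
        apply hQ y hy
        have hle : (Subgroup.centralizer ({y} : Set G)).map (QuotientGroup.mk' N) ≤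
            Subgroup.centralizer ({(QuotientGroup.mk' N) y} : Set (G ⧸ N)) := by
          rintro _ ⟨c, hc, rfl⟩
          have hc : c ∈ Subgroup.centralizer ({y} : Set G) := hc
          rw [Subgroup.mem_centralizer_iff] at hc ⊢
          intro z hz
          rw [Set.mem_singleton_iff] at hz
          subst hz
          rw [← map_mul, ← map_mul, hc y (Set.mem_singleton y)]
        exact hdvd.trans ((Subgroup.index_dvd_of_le hle).trans
          (Subgroup.index_map_dvd _ (QuotientGroup.mk'_surjective N)))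
    have h2 : ¬ p ∣ Nat.card (Sylow q ((Q : Subgroup G) ⊔ N : Subgroup G)) := by
      rw [Cfsg.Agent.Lib.Helper24.card_sylow_of_le q Q _ le_sup_left]
      have hQN : (Q : Subgroup G) ≤ Subgroup.normalizer (N : Set G) := by
        rw [Subgroup.normalizer_eq_top]; exact le_top
      have e : (Subgroup.normalizer ((Q : Subgroup G) : Set G)).relIndex ((Q : Subgroup G) ⊔ N)
          = (Subgroup.normalizer ((Q : Subgroup G) : Set G)).relIndex N := by
        rw [sup_comm]
        exact (Cfsg.Agent.Lib.Helper24.relIndex_eq_relIndex_sup N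
          (Subgroup.normalizer ((Q : Subgroup G) : Set G)) Q Subgroup.le_normalizer hQN).symm
      rw [e]
      rcases hNtype with (hp1 | hp2) | (hq1 | hq2)
      · have hNQ : N ≤ Subgroup.normalizer ((Q : Subgroup G) : Set G) := by
          refine le_trans ?_ (Subgroup.centralizer_le_normalizer _)
          intro x hx
          rw [Subgroup.mem_centralizer_iff]
          intro y hy
          have h3 := normal_pgroup_le_of_not_dvd_index p N hp1 _ (hQ y hy) hx
          rw [Subgroup.mem_centralizer_iff] at h3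
          exact h3 y (Set.mem_singleton y)
        rw [Subgroup.relIndex_eq_one.mpr hNQ]
        exact hp.one_lt.ne' ∘ Nat.dvd_one.mp
      · intro hdvd
        exact hp2 (hdvd.trans (Subgroup.relIndex_dvd_card _ _))
      · have h3 := Q.is_maximal' (Q.isPGroup'.to_sup_of_normal_right hq1) le_sup_left
        have hNQ : N ≤ Subgroup.normalizer ((Q : Subgroup G) : Set G) := by
          refine le_trans ?_ Subgroup.le_normalizer
          rw [← h3]; exact le_sup_right
        rw [Subgroup.relIndex_eq_one.mpr hNQ]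
        exact hp.one_lt.ne' ∘ Nat.dvd_one.mp
      · exact sylNormCls_coprime p q N hq2 Q hQ
    exact Nat.Prime.not_dvd_mul hp h1 h2

/-- some Sylow `p`-subgroup normalizes some Sylow `q`-subgroup -/
theorem sylNormCls {G : Type u} [Group G] [Finite G] (p q : ℕ) [Fact p.Prime] [Fact q.Prime]
    (hsolv : Cfsg.IsPSolvable p G ∨ Cfsg.IsPSolvable q G)
    (h : ∀ y : G, (∃ k : ℕ, orderOf y = q ^ k) →
      ¬ p ∣ (Subgroup.centralizer ({y} : Set G)).index) :
    ∃ (P : Sylow p G) (Q : Sylow q G),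
      (P : Subgroup G) ≤ Subgroup.normalizer ((Q : Subgroup G) : Set G) := by
  have hq : q.Prime := Fact.out
  obtain ⟨Q⟩ : Nonempty (Sylow q G) := inferInstance
  have h1 : ¬ p ∣ Nat.card (Sylow q G) := by
    apply sylNormCls_card p q (Nat.card G) G le_rfl hsolv
    refine ⟨Q, fun y hy => h y ?_⟩
    obtain ⟨k, hk⟩ := Q.isPGroup' ⟨y, hy⟩
    have hk' : y ^ q ^ k = 1 := by
      have := congrArg Subtype.val hk
      simpa using this
    obtain ⟨m, -, hm⟩ := (Nat.dvd_prime_pow hq).mp (orderOf_dvd_of_pow_eq_one hk')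
    exact ⟨m, hm⟩
  rw [Sylow.card_eq_index_normalizer Q] at h1
  obtain ⟨P, hP⟩ := Cfsg.Agent.Lib.Helper18.exists_sylow_le_of_not_dvd_index' _ h1
  exact ⟨P, Q, hP⟩

end Cfsg.Agent.Lib.Helper17
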