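import Mathlib

set_option autoImplicit false

namespace Cfsg.Agent.Lib.Helper17

open scoped IsMulCommutative
open scoped commutatorElement

section

variable {G : Type*} [Group G]

/-- conjugation by a normalizing element as an endomorphism of `↥V` -/
def conjHom (V : Subgroup G) (n : ↥(Subgroup.normalizer (V : Set G))) : ↥V →* ↥V where
  toFun u := ⟨(n : G) * u * (n : G)⁻¹, (Subgroup.mem_normalizer_iff.mp n.2 u).mp u.2⟩
  map_one' := by apply Subtype.ext; simp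
  map_mul' := by intro a b; apply Subtype.ext; simp [mul_assoc]

theorem conjHom_coe (V : Subgroup G) (n : ↥(Subgroup.normalizer (V : Set G))) (u : ↥V) :
    ((conjHom V n u : ↥V) : G) = (n : G) * u * (n : G)⁻¹ := rfl

variable (V R S : Subgroup G) [Finite R] [IsMulCommutative V]
  (hRV : R ≤ Subgroup.normalizer (V : Set G))

/-- the relative trace on the abelian group `V` from `S ⊓ R` to `R` (by coset representatives) -/
noncomputable def relTrace : ↥V →* ↥V :=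
  letI : Fintype (↥R ⧸ S.subgroupOf R) := Fintype.ofFinite _
  ∏ q : ↥R ⧸ S.subgroupOf R, conjHom V (Subgroup.inclusion hRV q.out)

theorem relTrace_spec : ∃ _ : Fintype (↥R ⧸ S.subgroupOf R), ∀ v : ↥V,
    relTrace V R S hRV v =
      ∏ q : ↥R ⧸ S.subgroupOf R, conjHom V (Subgroup.inclusion hRV q.out) v :=
  ⟨Fintype.ofFinite _, fun v => by unfold relTrace; rw [MonoidHom.finsetProd_apply]⟩

variable {V R S}

omit [Finite R] [IsMulCommutative V] in
theorem conjHom_out_eq {v : ↥V} (hvS : ∀ s ∈ S, s * (v : G) = v * s) (r : ↥R) :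
    conjHom V (Subgroup.inclusion hRV (QuotientGroup.mk r : ↥R ⧸ S.subgroupOf R).out) v =
      conjHom V (Subgroup.inclusion hRV r) v := by
  apply Subtype.ext
  obtain ⟨s, hs⟩ := QuotientGroup.mk_out_eq_mul (S.subgroupOf R) r
  rw [hs]
  have hcomm := hvS ((s : ↥R) : G) (Subgroup.mem_subgroupOf.mp s.2)
  show ((r * (s : ↥R) : ↥R) : G) * v * ((r * (s : ↥R) : ↥R) : G)⁻¹ = (r : G) * v * (r : G)⁻¹
  simp only [Subgroup.coe_mul, mul_inv_rev]
  calc (r : G) * ((s : ↥R) : G) * (v : G) * (((s : ↥R) : G)⁻¹ * (r : G)⁻¹)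
      = (r : G) * (((s : ↥R) : G) * v) * ((s : ↥R) : G)⁻¹ * (r : G)⁻¹ := by group
    _ = (r : G) * (v * ((s : ↥R) : G)) * ((s : ↥R) : G)⁻¹ * (r : G)⁻¹ := by rw [hcomm]
    _ = (r : G) * v * (r : G)⁻¹ := by group

theorem relTrace_mem_centralizer {v : ↥V} (hvS : ∀ s ∈ S, s * (v : G) = v * s) :
    ((relTrace V R S hRV v : ↥V) : G) ∈ Subgroup.centralizer (R : Set G) := by
  obtain ⟨inst, hspec⟩ := relTrace_spec V R S hRV
  rw [Subgroup.mem_centralizer_iff]
  intro r₀ hr₀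
  have h1 : conjHom V ⟨r₀, hRV hr₀⟩ (relTrace V R S hRV v) = relTrace V R S hRV v := by
    rw [hspec, map_prod]
    have h2 : ∀ q : ↥R ⧸ S.subgroupOf R,
        conjHom V ⟨r₀, hRV hr₀⟩ (conjHom V (Subgroup.inclusion hRV q.out) v) =
          conjHom V (Subgroup.inclusion hRV ((⟨r₀, hr₀⟩ : ↥R) • q).out) v := by
      intro q
      have h3 : (⟨r₀, hr₀⟩ : ↥R) • q = QuotientGroup.mk (⟨r₀, hr₀⟩ * q.out) := by
        conv_lhs => rw [← QuotientGroup.out_eq' q]
        rfl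
      rw [h3, conjHom_out_eq hRV hvS]
      apply Subtype.ext
      simp only [conjHom_coe]
      show r₀ * ((q.out : G) * v * (q.out : G)⁻¹) * r₀⁻¹ =
        (r₀ * (q.out : G)) * v * (r₀ * (q.out : G))⁻¹
      group
    simp_rw [h2]
    exact Fintype.prod_equiv (MulAction.toPerm (⟨r₀, hr₀⟩ : ↥R)) _ _ (fun q => rfl)
  have h3 : r₀ * ((relTrace V R S hRV v : ↥V) : G) * r₀⁻¹ = ((relTrace V R S hRV v : ↥V) : G) :=
    congrArg Subtype.val h1
  calc r₀ * ((relTrace V R S hRV v : ↥V) : G)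
      = (r₀ * ((relTrace V R S hRV v : ↥V) : G) * r₀⁻¹) * r₀ := by group
    _ = ((relTrace V R S hRV v : ↥V) : G) * r₀ := by rw [h3]

theorem relTrace_eq_pow {v : ↥V} (hvR : ∀ r ∈ R, r * (v : G) = v * r) :
    relTrace V R S hRV v = v ^ S.relIndex R := by
  obtain ⟨inst, hspec⟩ := relTrace_spec V R S hRV
  rw [hspec]
  have h1 : ∀ q : ↥R ⧸ S.subgroupOf R, conjHom V (Subgroup.inclusion hRV q.out) v = v := by
    intro q
    apply Subtype.ext
    have h2 := hvR q.out q.out.2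
    show ((q.out : ↥R) : G) * v * ((q.out : ↥R) : G)⁻¹ = v
    rw [h2]; group
  simp_rw [h1]
  rw [Finset.prod_const, Finset.card_univ, ← Nat.card_eq_fintype_card]
  rfl

theorem relTrace_conj {t : G} (htV : t ∈ Subgroup.normalizer (V : Set G))
    (htR : t ∈ Subgroup.normalizer (R : Set G)) (htS : t ∈ Subgroup.normalizer (S : Set G))
    {v : ↥V} (hvS : ∀ s ∈ S, s * (v : G) = v * s) :
    relTrace V R S hRV (conjHom V ⟨t, htV⟩ v) = conjHom V ⟨t, htV⟩ (relTrace V R S hRV v) := by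
  obtain ⟨inst, hspec⟩ := relTrace_spec V R S hRV
  have hv'S : ∀ s ∈ S, s * ((conjHom V ⟨t, htV⟩ v : ↥V) : G) = (conjHom V ⟨t, htV⟩ v : ↥V) * s := by
    intro s hs
    have h1 : t⁻¹ * s * t ∈ S :=
      (Subgroup.mem_normalizer_iff.mp htS (t⁻¹ * s * t)).mpr (by simpa [mul_assoc] using hs)
    have h2 := hvS _ h1
    show s * (t * (v : G) * t⁻¹) = t * (v : G) * t⁻¹ * s
    calc s * (t * (v : G) * t⁻¹) = t * ((t⁻¹ * s * t) * (v : G)) * t⁻¹ := by group
      _ = t * ((v : G) * (t⁻¹ * s * t)) * t⁻¹ := by rw [h2]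
      _ = _ := by group
  let f : ↥R ⧸ S.subgroupOf R → ↥R ⧸ S.subgroupOf R := fun q =>
    QuotientGroup.mk (⟨t * (q.out : G) * t⁻¹,
      (Subgroup.mem_normalizer_iff.mp htR _).mp q.out.2⟩ : ↥R)
  have hf : Function.Bijective f := by
    apply Finite.injective_iff_bijective.mp
    intro q q' hqq'
    have h1 := QuotientGroup.eq.mp hqq'
    rw [Subgroup.mem_subgroupOf] at h1
    have h2 : ((q.out : ↥R) : G)⁻¹ * (q'.out : G) ∈ S := by
      apply (Subgroup.mem_normalizer_iff.mp htS _).mpr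
      have h3 : t * (((q.out : ↥R) : G)⁻¹ * (q'.out : G)) * t⁻¹ =
          (t * (q.out : G) * t⁻¹)⁻¹ * (t * (q'.out : G) * t⁻¹) := by group
      rw [h3]
      simpa using h1
    have h4 : (QuotientGroup.mk q.out : ↥R ⧸ S.subgroupOf R) = QuotientGroup.mk q'.out := by
      rw [QuotientGroup.eq, Subgroup.mem_subgroupOf]
      simpa using h2
    rwa [QuotientGroup.out_eq', QuotientGroup.out_eq'] at h4
  rw [hspec, hspec, map_prod]
  rw [← hf.prod_comp]
  apply Finset.prod_congr rfl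
  intro q _
  show conjHom V (Subgroup.inclusion hRV (QuotientGroup.mk (⟨t * (q.out : G) * t⁻¹,
      (Subgroup.mem_normalizer_iff.mp htR _).mp q.out.2⟩ : ↥R) : ↥R ⧸ S.subgroupOf R).out)
      (conjHom V ⟨t, htV⟩ v) =
    conjHom V ⟨t, htV⟩ (conjHom V (Subgroup.inclusion hRV q.out) v)
  rw [conjHom_out_eq hRV hv'S]
  apply Subtype.ext
  show (t * (q.out : G) * t⁻¹) * (t * (v : G) * t⁻¹) * (t * (q.out : G) * t⁻¹)⁻¹ =
    t * ((q.out : G) * v * (q.out : G)⁻¹) * t⁻¹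
  group

include hRV in
/-- relative trace decomposition: an element of `V` centralized by a subgroup `S` of `p'`-index
in `R` lies in `[V, R] C_V(R)` -/
theorem exists_mul_of_coprime_relIndex {p : ℕ} (hm : (S.relIndex R).Coprime p)
    (hVp : ∀ v ∈ V, v ^ p = 1) {v : G} (hvV : v ∈ V) (hvS : ∀ s ∈ S, s * v = v * s) :
    ∃ c ∈ ⁅V, R⁆, ∃ d ∈ V ⊓ Subgroup.centralizer (R : Set G), v = c * d := by
  obtain ⟨inst, hspec⟩ := relTrace_spec V R S hRV
  have hd1 := relTrace_mem_centralizer hRV (v := ⟨v, hvV⟩) hvS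
  have hc1 : (((⟨v, hvV⟩ : ↥V) ^ S.relIndex R * (relTrace V R S hRV ⟨v, hvV⟩)⁻¹ : ↥V) : G) ∈
      ⁅V, R⁆ := by
    have h1 : (⟨v, hvV⟩ : ↥V) ^ S.relIndex R * (relTrace V R S hRV ⟨v, hvV⟩)⁻¹ =
        ∏ q : ↥R ⧸ S.subgroupOf R,
          ((⟨v, hvV⟩ : ↥V) * (conjHom V (Subgroup.inclusion hRV q.out) ⟨v, hvV⟩)⁻¹) := by
      rw [Finset.prod_mul_distrib, Finset.prod_const, Finset.card_univ, ← Nat.card_eq_fintype_card,
        Finset.prod_inv_distrib, hspec]
      rfl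
    rw [h1]
    have h2 : ∏ q : ↥R ⧸ S.subgroupOf R,
        ((⟨v, hvV⟩ : ↥V) * (conjHom V (Subgroup.inclusion hRV q.out) ⟨v, hvV⟩)⁻¹) ∈
          (⁅V, R⁆).subgroupOf V := by
      refine Subgroup.prod_mem _ (fun q _ => ?_)
      rw [Subgroup.mem_subgroupOf]
      show v * ((q.out : G) * v * (q.out : G)⁻¹)⁻¹ ∈ ⁅V, R⁆
      have h3 : v * ((q.out : G) * v * (q.out : G)⁻¹)⁻¹ = ⁅v, (q.out : G)⁆ := by
        rw [commutatorElement_def]; group
      rw [h3]; exact Subgroup.commutator_mem_commutator hvV q.out.2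
    exact Subgroup.mem_subgroupOf.mp h2
  have hv_ord : orderOf v ∣ p := orderOf_dvd_of_pow_eq_one (hVp v hvV)
  have hcop : (S.relIndex R).Coprime (orderOf v) := Nat.Coprime.coprime_dvd_right hv_ord hm
  obtain ⟨j, hj⟩ := exists_pow_eq_self_of_coprime hcop
  have hprod : (⟨v, hvV⟩ : ↥V) =
      ((⟨v, hvV⟩ : ↥V) ^ S.relIndex R * (relTrace V R S hRV ⟨v, hvV⟩)⁻¹) ^ j *
        (relTrace V R S hRV ⟨v, hvV⟩) ^ j := by
    rw [← mul_pow, inv_mul_cancel_right]
    apply Subtype.ext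
    exact hj.symm
  refine ⟨_, Subgroup.pow_mem _ hc1 j, _,
    Subgroup.mem_inf.mpr ⟨((relTrace V R S hRV ⟨v, hvV⟩) ^ j).2, ?_⟩, ?_⟩
  · exact Subgroup.pow_mem _ hd1 j
  · have h5 := congrArg Subtype.val hprod
    simpa using h5

end

end Cfsg.Agent.Lib.Helper17
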